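import Cfsg.Agent.Lib.McLThree.CD
import Mathlib.GroupTheory.Nilpotent

/-!
The normalizer of the Sylow subgroup of the centralizer of `t`, and the centralizer of the diagonal element.
-/

set_option autoImplicit false

namespace CfsgLib.McLThree

open Subgroup Equiv Equiv.Perm

universe u

theorem p_group_grows {G : Type u} [Group G] [Finite G] {p : ℕ} [Fact p.Prime] {H R : Subgroup G}
    (hR : IsPGroup p R) (hH : H ≤ R) (hne : H ≠ R) :
    ∃ x ∈ R, x ∉ H ∧ x ∈ normalizer (H : Set G) := by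
  haveI : Group.IsNilpotent R := hR.isNilpotent
  have hlt : H.subgroupOf R < ⊤ := lt_top_iff_ne_top.2 fun e => hne (le_antisymm hH (subgroupOf_eq_top.1 e))
  obtain ⟨x, hx, hxH⟩ := SetLike.exists_of_lt (Group.normalizerCondition_of_isNilpotent _ hlt)
  refine ⟨x, x.2, fun h => hxH (mem_subgroupOf.2 h), norm_of_conj_le fun w hw => ?_⟩
  exact mem_subgroupOf.1 ((Subgroup.mem_normalizer_iff.1 hx ⟨w, hH hw⟩).1 (mem_subgroupOf.2 hw))

/-- Three-subgroups of the alternating group of degree six lie in a conjugate of the standard one. -/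
theorem three_sub (P : Subgroup A6) (hP : IsPGroup 3 P) :
    ∃ c : A6, P.map (MulAut.conj c).toMonoidHom ≤ nine6 := by
  haveI : Fact (Nat.Prime 3) := ⟨Nat.prime_three⟩
  obtain ⟨c, -, R, hR, -, hnR, hPR⟩ := CfsgLib.Local.exists_conj_isPGroup (C := ⊤) (A := nine6) (B := P)
    (IsPGroup.of_card (p := 3) (n := 2) (by rw [card_nine6]; norm_num)) hP le_top le_top
  obtain ⟨m, hm⟩ := IsPGroup.iff_card.1 hR
  have h360 : Nat.card A6 = 360 := by rw [nat_card_alternatingGroup, Nat.card_fin]; rfl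
  have hd := card_subgroup_dvd_card R
  rw [h360, hm] at hd
  have hm2 : m ≤ 2 := by
    by_contra h
    have h' := (pow_dvd_pow 3 (by omega : 3 ≤ m)).trans hd
    norm_num at h'
  exact ⟨c, (eq_of_le_of_card_ge hnR (by
    rw [card_nine6, hm]; exact Nat.pow_le_pow_right (n := 3) (by norm_num) hm2)) ▸ hPR⟩

theorem nine6_exp {a b : A6} (ha : a ∈ nine6) (hb : b ∈ nine6) : a ^ 3 = 1 ∧ a * b = b * a := by
  obtain ⟨i, j, rfl⟩ := ha
  obtain ⟨k, l, rfl⟩ := hb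
  refine ⟨?_, by rw [nine_mul (i, j) (k, l), nine_mul (k, l) (i, j), add_comm i, add_comm j]⟩
  rw [pow_succ, pow_two, nine_mul (i, j) (i, j), nine_mul (i + i, j + j) (i, j),
    show ∀ i : Fin 3, i + i + i = 0 by decide, show ∀ i : Fin 3, i + i + i = 0 by decide]
  exact nine_gens.2.2

theorem three_pair {P : Subgroup A6} (hP : IsPGroup 3 P) {a b : A6} (ha : a ∈ P) (hb : b ∈ P) :
    a ^ 3 = 1 ∧ a * b = b * a := by
  obtain ⟨c, hc⟩ := three_sub P hP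
  obtain ⟨h1, h2⟩ := nine6_exp (hc ⟨a, ha, rfl⟩) (hc ⟨b, hb, rfl⟩)
  rw [← map_pow] at h1
  rw [← map_mul, ← map_mul] at h2
  exact ⟨(MulEquiv.map_eq_one_iff (MulAut.conj c)).1 h1, (MulAut.conj c).injective h2⟩

namespace Full

variable {G : Type u} [Group G] {D : Setting G} (U : Full D)

include U

theorem coord_inj [Finite G] {a b a' b' : ℕ} (h : D.z ^ a * U.F.y ^ b = D.z ^ a' * U.F.y ^ b') :
    a % 3 = a' % 3 ∧ b % 3 = b' % 3 := by
  have hb : b % 3 = b' % 3 := by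
    by_contra hne
    have e : U.F.y ^ (b + 2 * b') = (D.z ^ a)⁻¹ * D.z ^ a' := by
      calc U.F.y ^ (b + 2 * b') = (D.z ^ a)⁻¹ * (D.z ^ a * U.F.y ^ b) * U.F.y ^ (2 * b') := by group
        _ = (D.z ^ a)⁻¹ * D.z ^ a' * (U.F.y ^ 3) ^ b' := by rw [h]; group
        _ = _ := by rw [U.F.y_cube, one_pow, mul_one]
    have hQ : U.F.y ^ (b + 2 * b') ∈ D.Q := e ▸ mul_mem (inv_mem (pow_mem D.z_Q a)) (pow_mem D.z_Q a')
    refine U.F.y_not_Q ?_
    have h2 := pow_mem hQ (b + 2 * b')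
    rwa [← pow_mul, pow_eq_pow_mod _ U.F.y_cube, show (b + 2 * b') * (b + 2 * b') % 3 = 1 by
      rw [Nat.mul_mod]
      obtain h | h : (b + 2 * b') % 3 = 1 ∨ (b + 2 * b') % 3 = 2 := (by omega)
      all_goals rw [h], pow_one] at h2
  refine ⟨?_, hb⟩
  rw [pow_eq_pow_mod b U.F.y_cube, pow_eq_pow_mod b' U.F.y_cube, hb] at h
  have h' := (pow_inj_mod (x := D.z)).1 (mul_right_cancel h)
  rwa [D.z_ord] at h'

/-- The elements of the centralizer of `t` normalising its Sylow subgroup. -/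
abbrev ND : Subgroup G := normalizer (U.Dt : Set G) ⊓ centralizer ({U.F.t} : Set G)

theorem ND_J [Finite G] {x : G} (hx : x ∈ normalizer (U.Dt : Set G)) : x ∈ normalizer (D.J : Set G) := by
  set B := D.J.map (MulAut.conj x).toMonoidHom
  have hcomm : ∀ w ∈ B, ∀ v ∈ U.Dt, w * v = v * w := by
    rintro _ ⟨j, hj, rfl⟩ v hv
    have hv' : x⁻¹ * v * x ∈ U.Dt := (Subgroup.mem_normalizer_iff.1 hx _).2 (by
      rwa [show x * (x⁻¹ * v * x) * x⁻¹ = v by group])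
    show x * j * x⁻¹ * v = v * (x * j * x⁻¹)
    calc x * j * x⁻¹ * v = x * (j * (x⁻¹ * v * x)) * x⁻¹ := by group
      _ = x * (x⁻¹ * v * x * j) * x⁻¹ := by rw [D.J_comm j hj _ (U.Dt_J hv')]
      _ = v * (x * j * x⁻¹) := by group
  have hBS : B ≤ D.S := fun w hw => by
    have hz := hcomm w hw D.z U.z_Dt
    obtain ⟨j, hj, hjw⟩ := hw
    have h3 : ∃ k : ℕ, orderOf w = 3 ^ k := by
      obtain ⟨i, -, hi⟩ := (Nat.dvd_prime_pow Nat.prime_three).1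
        (orderOf_dvd_of_pow_eq_one (show w ^ 3 ^ 1 = 1 by
          rw [← hjw, ← map_pow, pow_one, D.J_exp j hj, map_one]))
      exact ⟨i, hi⟩
    exact U.F.three_S (D.three_mem_L₀ (D.comm_norm hz) h3) h3 (hcomm w ⟨j, hj, hjw⟩ _ U.y_Dt)
  have e := U.F.eighty_eq hBS (by
    rintro _ ⟨a, ha, rfl⟩ _ ⟨b, hb, rfl⟩
    rw [← map_mul, ← map_mul, D.J_comm a ha b hb])
    (by rw [card_map_of_injective (MulEquiv.injective _), D.J_card])
  exact norm_of_conj_le fun j hj => e ▸ mem_map_of_mem _ hj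

theorem J_ND [Finite G] {x : G} (hJ : x ∈ normalizer (D.J : Set G)) (ht : x * U.F.t = U.F.t * x) : x ∈ U.ND := by
  refine ⟨norm_of_conj_le fun w hw => ⟨D.J_le ((Subgroup.mem_normalizer_iff.1 hJ w).1 (U.Dt_J hw)),
    mem_centralizer_singleton_iff.2 ?_⟩, mem_centralizer_singleton_iff.2 ht⟩
  exact (((show Commute x U.F.t from ht).mul_left (show Commute w U.F.t from mem_centralizer_singleton_iff.1 hw.2)).mul_left
    (show Commute x U.F.t from ht).inv_left).eq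

theorem g_ND [Finite G] : (U.g : G) ∈ U.ND := U.J_ND U.g_J U.g_t

theorem z_image [Finite G] {x : G} (hx : x ∈ U.ND) :
    x * D.z * x⁻¹ = D.z ∨ x * D.z * x⁻¹ = D.z⁻¹ ∨ x * D.z * x⁻¹ = U.F.y ∨ x * D.z * x⁻¹ = U.F.y⁻¹ := by
  haveI : Fact (Nat.Prime 3) := ⟨Nat.prime_three⟩
  have hJ := U.ND_J hx.1
  have hle : (D.S : Subgroup G).map (MulAut.conj x).toMonoidHom ≤ D.M₀ := by
    rintro _ ⟨s, hs, rfl⟩; exact D.M₀_conj hJ (U.F.S_le_M₀ hs)
  obtain ⟨c, hc, R, hR, -, hSR, hxR⟩ := CfsgLib.Local.exists_conj_isPGroup (C := D.M₀) (A := (D.S : Subgroup G))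
    (B := (D.S : Subgroup G).map (MulAut.conj x).toMonoidHom) D.S.2 (D.S.2.map _) U.F.S_le_M₀ hle
  rw [D.S.3 hR hSR] at hxR
  have hn : c * x ∈ normalizer ((D.S : Subgroup G) : Set G) := by
    refine norm_of_conj_le fun s hs => hxR ⟨x * s * x⁻¹, ⟨s, hs, rfl⟩, ?_⟩
    show c * (x * s * x⁻¹) * c⁻¹ = c * x * s * (c * x)⁻¹
    group
  set h : D.M₀ := ⟨c, hc⟩⁻¹
  have hxz : x * D.z * x⁻¹ = (h : G) * D.z * (h : G)⁻¹ ∨ x * D.z * x⁻¹ = (h : G) * D.z⁻¹ * (h : G)⁻¹ := by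
    have e0 : x * D.z * x⁻¹ = (h : G) * (c * x * D.z * (c * x)⁻¹) * (h : G)⁻¹ := by
      show _ = c⁻¹ * (c * x * D.z * (c * x)⁻¹) * c⁻¹⁻¹
      group
    rcases D.conj_of_norm (U.F.norm_S_z hn) with e | e
    · exact Or.inl (by rw [e0, e])
    · exact Or.inr (by rw [e0, e])
  have hct : Commute x U.F.t := mem_centralizer_singleton_iff.1 hx.2
  have hw : Commute (x * D.z * x⁻¹) U.F.t :=
    (hct.mul_left (show Commute U.F.t D.z from U.F.t_z).symm).mul_left hct.inv_left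
  have hzt : Commute ((h : G) * D.z * (h : G)⁻¹) U.F.t := by
    rcases hxz with e | e
    · rw [← e]; exact hw
    · have h' := hw.inv_left
      rwa [e, conj_inv, inv_inv] at h'
  have hfix : (h : G)⁻¹ * U.F.t * (h : G) ∈ normalizer (D.Zc : Set G) := by
    refine D.comm_norm ?_
    calc (h : G)⁻¹ * U.F.t * (h : G) * D.z
        = (h : G)⁻¹ * (U.F.t * ((h : G) * D.z * (h : G)⁻¹)) * (h : G) := by group
      _ = _ := by rw [← hzt.eq]; group
  have hres : (h : G) * D.z * (h : G)⁻¹ = D.z ∨ (h : G) * D.z * (h : G)⁻¹ = D.z⁻¹ ∨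
      (h : G) * D.z * (h : G)⁻¹ = U.F.y ∨ (h : G) * D.z * (h : G)⁻¹ = U.F.y⁻¹ := by
    rcases U.C.fixed h hfix with hh | hh
    · rcases D.conj_of_norm (U.F.norm_S_z ((U.C.norm9_iff h).1 hh)) with e | e
      · exact Or.inl e
      · exact Or.inr (Or.inl e)
    · have hy : U.F.y = (U.g : G)⁻¹ * D.z * (U.g : G) := by rw [← U.g_y]; group
      have hgh : ((U.g * h : D.M₀) : G) ∈ normalizer (D.Zc : Set G) :=
        U.F.norm_S_z ((U.C.norm9_iff (U.g * h)).1 (by rwa [map_mul, U.φg]))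
      have e0 : (h : G) * D.z * (h : G)⁻¹ =
          (U.g : G)⁻¹ * ((((U.g * h : D.M₀) : G)) * D.z * (((U.g * h : D.M₀) : G))⁻¹) * (U.g : G) := by
        push_cast; group
      rcases D.conj_of_norm hgh with e | e
      · exact Or.inr (Or.inr (Or.inl (by rw [e0, e, hy])))
      · refine Or.inr (Or.inr (Or.inr ?_))
        rw [e0, e, hy]; group
  rcases hxz with e | e <;> rw [e]
  · exact hres
  · rw [← conj_inv]
    rcases hres with e' | e' | e' | e' <;> rw [e'] <;> simp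

theorem y_image [Finite G] {x : G} (hx : x ∈ U.ND) :
    x * U.F.y * x⁻¹ = D.z ∨ x * U.F.y * x⁻¹ = D.z⁻¹ ∨ x * U.F.y * x⁻¹ = U.F.y ∨ x * U.F.y * x⁻¹ = U.F.y⁻¹ := by
  have h := U.z_image (mul_mem hx U.g_ND)
  have e : x * (U.g : G) * D.z * (x * (U.g : G))⁻¹ = x * U.F.y * x⁻¹ := by rw [← U.g_z]; group
  rwa [e] at h

theorem lines_sep [Finite G] : U.F.y ∉ D.Zc ∧ D.z ∉ zpowers U.F.y := by
  refine ⟨fun h => U.F.y_not_Q (zpowers_le.2 D.z_Q h), fun h => ?_⟩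
  obtain ⟨i, hi⟩ := mem_powers_iff_mem_zpowers.2 h
  have := (U.coord_inj (a := 1) (b := 0) (a' := 0) (b' := i) (by simpa using hi.symm)).1
  omega

/-- Elements fixing the line of `z` fix the line of `y`. -/
theorem ND_fix [Finite G] {x : G} (hx : x ∈ U.ND) (hz : x * D.z * x⁻¹ = D.z ∨ x * D.z * x⁻¹ = D.z⁻¹) :
    x * U.F.y * x⁻¹ = U.F.y ∨ x * U.F.y * x⁻¹ = U.F.y⁻¹ := by
  have hN := D.norm_of_conj hz
  rcases U.y_image hx with e | e | e | e
  · exact absurd ((Subgroup.mem_normalizer_iff.1 hN _).2 (e ▸ mem_zpowers D.z)) U.lines_sep.1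
  · exact absurd ((Subgroup.mem_normalizer_iff.1 hN _).2 (e ▸ inv_mem (mem_zpowers D.z))) U.lines_sep.1
  · exact Or.inl e
  · exact Or.inr e

/-- The normal form of the elements normalising the Sylow subgroup of the centralizer of `t`. -/
theorem ND_split [Finite G] {x : G} (hx : x ∈ U.ND) :
    ∃ a b c : Fin 2, ∃ d ∈ U.CD, x = (U.g : G) ^ a.val * U.F.k ^ b.val * U.k' ^ c.val * d := by
  obtain ⟨a, hz⟩ : ∃ a : Fin 2, ((U.g : G) ^ a.val)⁻¹ * x * D.z * (((U.g : G) ^ a.val)⁻¹ * x)⁻¹ = D.z ∨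
      ((U.g : G) ^ a.val)⁻¹ * x * D.z * (((U.g : G) ^ a.val)⁻¹ * x)⁻¹ = D.z⁻¹ := by
    rcases U.z_image hx with e | e | e | e
    · exact ⟨0, Or.inl (by simpa using e)⟩
    · exact ⟨0, Or.inr (by simpa using e)⟩
    · refine ⟨1, Or.inl ?_⟩
      rw [show ((1 : Fin 2).val) = 1 from rfl, pow_one, show (U.g : G)⁻¹ * x * D.z * ((U.g : G)⁻¹ * x)⁻¹ =
        (U.g : G)⁻¹ * (x * D.z * x⁻¹) * (U.g : G) by group, e, ← U.g_z]
      group
    · refine ⟨1, Or.inr ?_⟩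
      rw [show ((1 : Fin 2).val) = 1 from rfl, pow_one, show (U.g : G)⁻¹ * x * D.z * ((U.g : G)⁻¹ * x)⁻¹ =
        (U.g : G)⁻¹ * (x * D.z * x⁻¹) * (U.g : G) by group, e, ← U.g_z]
      group
  set u := ((U.g : G) ^ a.val)⁻¹ * x with hu
  have huN : u ∈ U.ND := mul_mem (inv_mem (pow_mem U.g_ND _)) hx
  have hy := U.ND_fix huN hz
  have hk : ∀ b : Fin 2, (U.F.k ^ b.val)⁻¹ * D.z * U.F.k ^ b.val = D.z ∧
      (U.F.k ^ b.val)⁻¹ * U.F.y * U.F.k ^ b.val = (if b = 0 then U.F.y else U.F.y⁻¹) := by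
    intro b
    fin_cases b
    · simp
    · refine ⟨?_, ?_⟩
      · simp only [pow_one]; rw [mul_assoc, ← U.F.k_z, inv_mul_cancel_left]
      · simp only [pow_one, Fin.reduceEq, if_false]
        calc U.F.k⁻¹ * U.F.y * U.F.k = U.F.k⁻¹ * (U.F.k * U.F.y * U.F.k⁻¹)⁻¹ * U.F.k := by rw [U.F.k_y, inv_inv]
          _ = U.F.y⁻¹ := by group
  have hk' : ∀ c : Fin 2, (U.k' ^ c.val)⁻¹ * U.F.y * U.k' ^ c.val = U.F.y ∧
      (U.k' ^ c.val)⁻¹ * D.z * U.k' ^ c.val = (if c = 0 then D.z else D.z⁻¹) := by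
    intro c
    fin_cases c
    · simp
    · refine ⟨?_, ?_⟩
      · simp only [pow_one]; rw [mul_assoc, ← mul_inv_eq_iff_eq_mul.1 U.k'_y, inv_mul_cancel_left]
      · simp only [pow_one, Fin.reduceEq, if_false]
        calc U.k'⁻¹ * D.z * U.k' = U.k'⁻¹ * (U.k' * D.z * U.k'⁻¹)⁻¹ * U.k' := by rw [U.k'_z, inv_inv]
          _ = D.z⁻¹ := by group
  obtain ⟨b, hb⟩ : ∃ b : Fin 2, (if b = 0 then U.F.y else U.F.y⁻¹) = u * U.F.y * u⁻¹ := by
    rcases hy with e | e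
    · exact ⟨0, by simp [e]⟩
    · exact ⟨1, by simp [e]⟩
  obtain ⟨c, hc⟩ : ∃ c : Fin 2, (if c = 0 then D.z else D.z⁻¹) = u * D.z * u⁻¹ := by
    rcases hz with e | e
    · exact ⟨0, by simp [e]⟩
    · exact ⟨1, by simp [e]⟩
  refine ⟨a, b, c, (U.F.k ^ b.val * U.k' ^ c.val)⁻¹ * u, U.mem_CD.2 ⟨?_, ?_, ?_⟩, by simp only [hu]; group⟩
  · refine mul_inv_eq_iff_eq_mul.1 ?_
    rw [show (U.F.k ^ b.val * U.k' ^ c.val)⁻¹ * u * D.z * ((U.F.k ^ b.val * U.k' ^ c.val)⁻¹ * u)⁻¹ =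
      (U.k' ^ c.val)⁻¹ * ((U.F.k ^ b.val)⁻¹ * (u * D.z * u⁻¹) * U.F.k ^ b.val) * U.k' ^ c.val by group, ← hc]
    obtain rfl | rfl : c = 0 ∨ c = 1 := by omega
    · rw [if_pos rfl, (hk b).1]
      simpa using (hk' 0).2
    · rw [if_neg (by decide : (1 : Fin 2) ≠ 0),
        show (U.F.k ^ b.val)⁻¹ * D.z⁻¹ * U.F.k ^ b.val = ((U.F.k ^ b.val)⁻¹ * D.z * U.F.k ^ b.val)⁻¹ by group,
        (hk b).1, show (U.k' ^ (1 : Fin 2).val)⁻¹ * D.z⁻¹ * U.k' ^ (1 : Fin 2).val =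
          ((U.k' ^ (1 : Fin 2).val)⁻¹ * D.z * U.k' ^ (1 : Fin 2).val)⁻¹ by group, (hk' 1).2,
        if_neg (by decide : (1 : Fin 2) ≠ 0), inv_inv]
  · refine mul_inv_eq_iff_eq_mul.1 ?_
    rw [show (U.F.k ^ b.val * U.k' ^ c.val)⁻¹ * u * U.F.y * ((U.F.k ^ b.val * U.k' ^ c.val)⁻¹ * u)⁻¹ =
      (U.k' ^ c.val)⁻¹ * ((U.F.k ^ b.val)⁻¹ * (u * U.F.y * u⁻¹) * U.F.k ^ b.val) * U.k' ^ c.val by group, ← hb]
    obtain rfl | rfl : b = 0 ∨ b = 1 := by omega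
    · rw [if_pos rfl, (hk 0).2, if_pos rfl]
      exact (hk' c).1
    · rw [if_neg (by decide : (1 : Fin 2) ≠ 0), show (U.F.k ^ (1 : Fin 2).val)⁻¹ * U.F.y⁻¹ * U.F.k ^ (1 : Fin 2).val =
        ((U.F.k ^ (1 : Fin 2).val)⁻¹ * U.F.y * U.F.k ^ (1 : Fin 2).val)⁻¹ by group, (hk 1).2,
        if_neg (by decide : (1 : Fin 2) ≠ 0), inv_inv]
      exact (hk' c).1
  · have h1 : Commute u U.F.t := mem_centralizer_singleton_iff.1 huN.2
    exact ((((show Commute U.F.k U.F.t from U.F.k_t).pow_left _).mul_left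
      ((show Commute U.k' U.F.t from U.k'_t).pow_left _)).inv_left.mul_left h1).eq

theorem k_ND [Finite G] : U.F.k ∈ U.ND := U.J_ND U.F.k_J U.F.k_t

theorem k'_ND [Finite G] : U.k' ∈ U.ND := U.J_ND (U.F.norm_S_J U.act_k'.1) U.k'_t

theorem CD_ND [Finite G] : U.CD ≤ U.ND := fun _ hx =>
  U.J_ND (U.F.norm_S_J (U.CD_act hx).1) (U.mem_CD.1 hx).2.2

theorem ND_pow_four [Finite G] {x : G} (hx : x ∈ U.ND) : x ^ 4 ∈ U.CD := by
  have sq : ∀ w : G, (w = D.z ∨ w = D.z⁻¹ ∨ w = U.F.y ∨ w = U.F.y⁻¹) →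
      x * w * x⁻¹ = D.z ∨ x * w * x⁻¹ = D.z⁻¹ ∨ x * w * x⁻¹ = U.F.y ∨ x * w * x⁻¹ = U.F.y⁻¹ := by
    rintro w (rfl | rfl | rfl | rfl)
    · exact U.z_image hx
    · rw [← conj_inv]; rcases U.z_image hx with e | e | e | e <;> rw [e] <;> simp
    · exact U.y_image hx
    · rw [← conj_inv]; rcases U.y_image hx with e | e | e | e <;> rw [e] <;> simp
  have h2z : ∀ v : G, (v = D.z ∨ v = D.z⁻¹ ∨ v = U.F.y ∨ v = U.F.y⁻¹) →
      x * (x * v * x⁻¹) * x⁻¹ = v ∨ x * (x * v * x⁻¹) * x⁻¹ = v⁻¹ := by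
    have hzz : x * (x * D.z * x⁻¹) * x⁻¹ = D.z ∨ x * (x * D.z * x⁻¹) * x⁻¹ = D.z⁻¹ ∧ True := by
      rcases U.z_image hx with e | e | e | e
      · exact Or.inl (by rw [e, e])
      · exact Or.inl (by rw [e, ← conj_inv, e, inv_inv])
      · rw [e]
        rcases U.y_image hx with e' | e' | e' | e'
        · exact Or.inl e'
        · exact Or.inr ⟨e', trivial⟩
        · exfalso
          have h1 : x⁻¹ * U.F.y * x = D.z := by rw [← e]; group
          rw [show x⁻¹ * U.F.y * x = U.F.y by nth_rw 1 [← e']; group] at h1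
          exact U.lines_sep.2 (h1 ▸ mem_zpowers _)
        · exfalso
          have h1 : x⁻¹ * U.F.y⁻¹ * x = D.z⁻¹ := by rw [← e]; group
          rw [show x⁻¹ * U.F.y⁻¹ * x = U.F.y by rw [← e']; group] at h1
          exact U.lines_sep.2 (inv_inv D.z ▸ inv_mem (h1 ▸ mem_zpowers U.F.y))
      · rw [e, ← conj_inv]
        rcases U.y_image hx with e' | e' | e' | e'
        · exact Or.inr ⟨by rw [e'], trivial⟩
        · exact Or.inl (by rw [e', inv_inv])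
        · exfalso
          have h1 : x⁻¹ * U.F.y⁻¹ * x = D.z := by rw [← e]; group
          rw [show x⁻¹ * U.F.y⁻¹ * x = U.F.y⁻¹ by nth_rw 1 [← e']; group] at h1
          exact U.lines_sep.2 (h1 ▸ inv_mem (mem_zpowers _))
        · exfalso
          have h1 : x⁻¹ * U.F.y⁻¹ * x = D.z := by rw [← e]; group
          rw [show x⁻¹ * U.F.y⁻¹ * x = U.F.y by rw [← e']; group] at h1
          exact U.lines_sep.2 (h1 ▸ mem_zpowers _)
    have hz2 : x * (x * D.z * x⁻¹) * x⁻¹ = D.z ∨ x * (x * D.z * x⁻¹) * x⁻¹ = D.z⁻¹ :=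
      hzz.imp_right And.left
    have hy2 : x * (x * U.F.y * x⁻¹) * x⁻¹ = U.F.y ∨ x * (x * U.F.y * x⁻¹) * x⁻¹ = U.F.y⁻¹ := by
      have h := U.ND_fix (mul_mem hx hx) (by
        rw [show x * x * D.z * (x * x)⁻¹ = x * (x * D.z * x⁻¹) * x⁻¹ by group]; exact hz2)
      rwa [show x * x * U.F.y * (x * x)⁻¹ = x * (x * U.F.y * x⁻¹) * x⁻¹ by group] at h
    rintro v (rfl | rfl | rfl | rfl)
    · exact hz2
    · rw [← conj_inv, ← conj_inv]; rcases hz2 with e | e <;> rw [e] <;> simp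
    · exact hy2
    · rw [← conj_inv, ← conj_inv]; rcases hy2 with e | e <;> rw [e] <;> simp
  have h4 : ∀ v : G, (v = D.z ∨ v = U.F.y) → x ^ 4 * v = v * x ^ 4 := by
    intro v hv
    refine mul_inv_eq_iff_eq_mul.1 ?_
    rw [show x ^ 4 * v * (x ^ 4)⁻¹ = x * (x * (x * (x * v * x⁻¹) * x⁻¹) * x⁻¹) * x⁻¹ by
      rw [show x ^ 4 = x * x * x * x by rw [pow_succ, pow_succ, pow_two]]
      group]
    have hv' : v = D.z ∨ v = D.z⁻¹ ∨ v = U.F.y ∨ v = U.F.y⁻¹ :=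
      hv.elim Or.inl fun h => Or.inr (Or.inr (Or.inl h))
    rcases h2z v hv' with e | e
    · rw [e, e]
    · rw [e, ← conj_inv, ← conj_inv, e, inv_inv]
  refine U.mem_CD.2 ⟨h4 _ (Or.inl rfl), h4 _ (Or.inr rfl), ?_⟩
  exact ((show Commute x U.F.t from mem_centralizer_singleton_iff.1 hx.2).pow_left 4).eq

theorem three_CD [Finite G] {x : G} (hx : x ∈ U.CD) (h3 : ∃ k : ℕ, orderOf x = 3 ^ k) : x ∈ U.Dt := by
  obtain ⟨hz, hy, ht⟩ := U.mem_CD.1 hx
  exact ⟨U.F.three_S (D.three_mem_L₀ (D.comm_norm hz) h3) h3 hy, mem_centralizer_singleton_iff.2 ht⟩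

theorem card_Dt [Finite G] : Nat.card U.Dt = 9 := D.card_Dt U.F.t_L₀ U.F.t_sq U.F.t_φ

theorem three_bound [Finite G] {R : Subgroup G} (hR : IsPGroup 3 R) (hRt : R ≤ centralizer ({U.F.t} : Set G))
    (hD : U.Dt ≤ R) : R = U.Dt := by
  haveI : Fact (Nat.Prime 3) := ⟨Nat.prime_three⟩
  by_contra hne
  obtain ⟨x, hxR, hxD, hxN⟩ := p_group_grows hR hD (Ne.symm hne)
  have h4 := U.ND_pow_four (x := x) ⟨hxN, hRt hxR⟩
  obtain ⟨m, hm⟩ := hR ⟨x, hxR⟩
  have hm' : x ^ 3 ^ m = 1 := congrArg Subtype.val hm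
  have h3 : ∀ w : G, w ^ 3 ^ m = 1 → ∃ k : ℕ, orderOf w = 3 ^ k := fun w hw => by
    obtain ⟨i, -, hi⟩ := (Nat.dvd_prime_pow Nat.prime_three).1 (orderOf_dvd_of_pow_eq_one hw)
    exact ⟨i, hi⟩
  have hd : x ^ 4 ∈ U.Dt := U.three_CD h4 (h3 _ (by rw [← pow_mul, mul_comm, pow_mul, hm', one_pow]))
  refine hxD ?_
  obtain ⟨j, hj⟩ : Odd (3 ^ m) := Odd.pow (by decide)
  rw [hj] at hm'
  rcases Nat.even_or_odd' j with ⟨q, rfl | rfl⟩
  · have e : x = ((x ^ 4) ^ q)⁻¹ := eq_inv_of_mul_eq_one_right (by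
      rw [← pow_mul, ← pow_succ, show 4 * q + 1 = 2 * (2 * q) + 1 by ring]; exact hm')
    rw [e]
    exact inv_mem (pow_mem hd q)
  · have e : x = (x ^ 4) ^ (q + 1) := by
      rw [← pow_mul, show 4 * (q + 1) = 2 * (2 * q + 1) + 1 + 1 by ring, pow_succ, hm', one_mul]
    rw [e]
    exact pow_mem hd _

/-- The diagonal element. -/
abbrev yp : G := D.z * U.F.y

theorem yp_J [Finite G] : U.yp ∈ D.J := mul_mem U.F.z_J U.F.y_J

theorem yp_ne [Finite G] : U.yp ≠ 1 := fun e => by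
  have := (U.coord_inj (a := 1) (b := 1) (a' := 0) (b' := 0) (by simpa using e)).1
  omega

theorem g_yp [Finite G] : (U.g : G) * U.yp = U.yp * U.g := by
  refine mul_inv_eq_iff_eq_mul.1 ?_
  rw [show (U.g : G) * (D.z * U.F.y) * (U.g : G)⁻¹ =
    (U.g : G) * D.z * (U.g : G)⁻¹ * ((U.g : G) * U.F.y * (U.g : G)⁻¹) by group, U.g_z, U.g_y]
  exact U.F.y_z

theorem cent_yp [Finite G]
    (hY : centralizer (((Cfsg.pCore 3 (centralizer ({U.yp} : Set G))).map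
        (centralizer ({U.yp} : Set G)).subtype : Subgroup G) : Set G)
      ≤ (Cfsg.pCore 3 (centralizer ({U.yp} : Set G))).map (centralizer ({U.yp} : Set G)).subtype) :
    centralizer ({U.yp} : Set G) ≤ normalizer (D.J : Set G) := by
  haveI : Fact (Nat.Prime 3) := ⟨Nat.prime_three⟩
  haveI hn : (Cfsg.pCore 3 (centralizer ({U.yp} : Set G))).Normal := (CfsgLib.sSup_prop_of_closed_sup
    (fun N : Subgroup (centralizer ({U.yp} : Set G)) => N.Normal ∧ IsPGroup 3 N)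
    ⟨inferInstance, IsPGroup.of_bot⟩ (fun _ _ hA hB => CfsgLib.pCore_mem_sup 3 hA hB) fun _ h => h).1
  set Cy := centralizer ({U.yp} : Set G)
  set R := (Cfsg.pCore 3 Cy).map Cy.subtype
  have hR : IsPGroup 3 R := (CfsgLib.isPGroup_pCore 3).map _
  have hnorm : Cy ≤ normalizer (R : Set G) := fun x hx => norm_of_conj_le fun w hw => by
    obtain ⟨v, hv, rfl⟩ := hw
    exact ⟨⟨x, hx⟩ * v * ⟨x, hx⟩⁻¹, hn.conj_mem v hv _, rfl⟩
  have hJC : D.J ≤ Cy := fun j hj => mem_centralizer_singleton_iff.2 (D.J_comm j hj _ U.yp_J)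
  have htC : U.F.t ∈ Cy := mem_centralizer_singleton_iff.2
    ((show Commute U.F.t D.z from U.F.t_z).mul_right (show Commute U.F.y U.F.t from U.F.y_t).symm).eq
  have hgC : (U.g : G) ∈ Cy := mem_centralizer_singleton_iff.2 U.g_yp
  have hRJ : ∀ x ∈ R, x ∈ normalizer (D.J : Set G) → x ∈ D.J := by
    set R₁ := R ⊓ normalizer (D.J : Set G)
    have h3 : ∀ x ∈ R₁, x ∈ D.M₀ := by
      intro x hx
      obtain ⟨m, hm⟩ := hR ⟨x, hx.1⟩
      obtain ⟨i, -, hi⟩ := (Nat.dvd_prime_pow Nat.prime_three).1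
        (orderOf_dvd_of_pow_eq_one (congrArg Subtype.val hm : x ^ 3 ^ m = 1))
      exact D.three_mem_M₀ hx.2 ⟨i, hi⟩
    set P := (R₁.subgroupOf D.M₀).map U.C.φ
    have hP : IsPGroup 3 P := (IsPGroup.of_injective (CfsgLib.Local.isPGroup_of_le inf_le_left hR)
      (subgroupOfEquivOfLe (fun x hx => h3 x hx)).toMonoidHom (MulEquiv.injective _)).map _
    have hconj : ∀ m : D.M₀, (m : G) ∈ Cy → ∀ x ∈ R₁, (m : G) * x * (m : G)⁻¹ ∈ R₁ := fun m hm x hx =>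
      ⟨(Subgroup.mem_normalizer_iff.1 (hnorm hm) x).1 hx.1,
        (normalizer (D.J : Set G)).mul_mem ((normalizer (D.J : Set G)).mul_mem (D.M₀_norm m.2) hx.2)
          ((normalizer (D.J : Set G)).inv_mem (D.M₀_norm m.2))⟩
    intro x hxR hxN
    have hx : x ∈ R₁ := ⟨hxR, hxN⟩
    have hxP : U.C.φ ⟨x, h3 x hx⟩ ∈ P := ⟨⟨x, h3 x hx⟩, hx, rfl⟩
    have key : ∀ m : D.M₀, (m : G) ∈ Cy → U.C.φ m * U.C.φ ⟨x, h3 x hx⟩ * (U.C.φ m)⁻¹ ∈ P := fun m hm =>
      ⟨m * ⟨x, h3 x hx⟩ * m⁻¹, hconj m hm x hx, by rw [map_mul, map_mul, map_inv]⟩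
    have ht6 := key ⟨U.F.t, U.C.t_M⟩ htC
    rw [U.C.φt] at ht6
    have hg6 := key U.g hgC
    rw [U.φg] at hg6
    exact (U.C.ker _).1 (six_klein _ (three_pair hP hxP hxP).1 (three_pair hP hxP ht6).2 (three_pair hP hxP hg6).2)
  have hJn : D.J ≤ normalizer (R : Set G) := hJC.trans hnorm
  have hsup : IsPGroup 3 (D.J ⊔ R : Subgroup G) :=
    IsPGroup.to_sup_of_normal_right' (CfsgLib.Local.isPGroup_of_le D.J_le D.S.2) hR hJn
  have hle : R ≤ D.J := by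
    by_contra hnle
    obtain ⟨x, hx, hxJ, hxN⟩ := p_group_grows hsup (le_sup_left : D.J ≤ D.J ⊔ R)
      (fun e => hnle (le_sup_right.trans e.ge))
    rw [← SetLike.mem_coe, coe_mul_of_left_le_normalizer_right D.J R hJn] at hx
    obtain ⟨j, hj, r, hr, rfl⟩ := hx
    have hrN : r ∈ normalizer (D.J : Set G) := by
      have := mul_mem (inv_mem (le_normalizer hj)) hxN
      rwa [inv_mul_cancel_left] at this
    exact hxJ (mul_mem hj (hRJ r hr hrN))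
  have hJR : D.J ≤ R := fun j hj => hY (mem_centralizer_iff.2 fun r hr => D.J_comm r (hle hr) j hj)
  rw [← le_antisymm hle hJR]
  exact hnorm

theorem cent_yp_t [Finite G] (hc : centralizer ({U.yp} : Set G) ≤ normalizer (D.J : Set G)) {x : G}
    (hx : x * U.yp = U.yp * x) (ht : x * U.F.t = U.F.t * x) :
    x ∈ U.CD ∨ (U.g : G)⁻¹ * x ∈ U.CD := by
  have hxN : x ∈ U.ND := U.J_ND (hc (mem_centralizer_singleton_iff.2 hx)) ht
  obtain ⟨a, b, c, d, hd, e⟩ := U.ND_split hxN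
  obtain ⟨hdz, hdy, -⟩ := U.mem_CD.1 hd
  have hkz : ∀ c : Fin 2, U.k' ^ c.val * D.z * (U.k' ^ c.val)⁻¹ = D.z ^ (if c = 0 then 1 else 2) := by
    intro c; fin_cases c
    · simp
    · simp only [pow_one, Fin.reduceEq, if_false, U.k'_z]
      exact inv_eq_of_mul_eq_one_left (by rw [← pow_succ]; exact D.z_cube)
  have hky : ∀ b : Fin 2, U.F.k ^ b.val * U.F.y * (U.F.k ^ b.val)⁻¹ = U.F.y ^ (if b = 0 then 1 else 2) := by
    intro b; fin_cases b
    · simp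
    · simp only [pow_one, Fin.reduceEq, if_false, U.F.k_y]
      exact inv_eq_of_mul_eq_one_left (by rw [← pow_succ]; exact U.F.y_cube)
  set i := (if c = 0 then 1 else 2 : ℕ)
  set j := (if b = 0 then 1 else 2 : ℕ)
  have h1 : (U.g : G) ^ a.val * (D.z ^ i * U.F.y ^ j) * ((U.g : G) ^ a.val)⁻¹ = U.yp := by
    rw [← mul_inv_eq_iff_eq_mul.2 hx, e]
    have hbz : Commute (U.F.k ^ b.val) D.z := (show Commute U.F.k D.z from U.F.k_z).pow_left _
    have hcy : Commute (U.k' ^ c.val) U.F.y :=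
      (show Commute U.k' U.F.y from mul_inv_eq_iff_eq_mul.1 U.k'_y).pow_left _
    have e1 : D.z ^ i = U.F.k ^ b.val * (U.k' ^ c.val * D.z * (U.k' ^ c.val)⁻¹) * (U.F.k ^ b.val)⁻¹ := by
      rw [hkz, (hbz.pow_right _).eq, mul_inv_cancel_right]
    have e2 : U.F.y ^ j = U.F.k ^ b.val * (U.k' ^ c.val * U.F.y * (U.k' ^ c.val)⁻¹) * (U.F.k ^ b.val)⁻¹ := by
      rw [hcy.eq, mul_inv_cancel_right, hky]
    have e3 : d * U.yp * d⁻¹ = U.yp := by
      rw [((show Commute d D.z from hdz).mul_right (show Commute d U.F.y from hdy)).eq, mul_inv_cancel_right]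
    rw [e1, e2]
    conv_rhs =>
      rw [show (U.g : G) ^ a.val * U.F.k ^ b.val * U.k' ^ c.val * d * U.yp *
        ((U.g : G) ^ a.val * U.F.k ^ b.val * U.k' ^ c.val * d)⁻¹ = (U.g : G) ^ a.val * (U.F.k ^ b.val *
          (U.k' ^ c.val * (d * U.yp * d⁻¹) * (U.k' ^ c.val)⁻¹) * (U.F.k ^ b.val)⁻¹) * ((U.g : G) ^ a.val)⁻¹ by group,
        e3]
    group
  have h2 : D.z ^ i * U.F.y ^ j = D.z ^ 1 * U.F.y ^ 1 := by
    rw [pow_one, pow_one]
    have hg : Commute ((U.g : G) ^ a.val) U.yp := (show Commute (U.g : G) U.yp from U.g_yp).pow_left _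
    calc D.z ^ i * U.F.y ^ j = ((U.g : G) ^ a.val)⁻¹ *
          ((U.g : G) ^ a.val * (D.z ^ i * U.F.y ^ j) * ((U.g : G) ^ a.val)⁻¹) * (U.g : G) ^ a.val := by group
      _ = U.yp := by rw [h1, mul_assoc, ← hg.eq, inv_mul_cancel_left]
  obtain ⟨hi, hj⟩ := U.coord_inj h2
  have hb : b = 0 := by by_contra h; simp only [j, h, if_false] at hj; omega
  have hc0 : c = 0 := by by_contra h; simp only [i, h, if_false] at hi; omega
  subst hb hc0
  simp only [Fin.val_zero, pow_zero, mul_one] at e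
  fin_cases a
  · left; rw [e]; simpa using hd
  · right; rw [e]; simpa using hd

end Full

end CfsgLib.McLThree
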