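import Cfsg.Agent.Lib.McLThree.Frame

/-!
The abelian subgroup of order 81: it is unique in the Sylow subgroup and self-centralizing.
-/

set_option autoImplicit false

namespace CfsgLib.McLThree

open Subgroup
open scoped commutatorElement

universe u

theorem norm_of_conj_le {G : Type u} [Group G] [Finite G] {H : Subgroup G} {g : G}
    (h : ∀ x ∈ H, g * x * g⁻¹ ∈ H) : g ∈ normalizer (H : Set G) := by
  have e : H.map (MulAut.conj g).toMonoidHom = H := eq_of_le_of_card_ge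
    (by rintro _ ⟨x, hx, rfl⟩; exact h x hx) (by rw [card_map_of_injective (MulEquiv.injective _)])
  rw [Subgroup.mem_normalizer_iff]
  refine fun x => ⟨h x, fun hx => ?_⟩
  rw [← e] at hx
  obtain ⟨w, hw, he⟩ := hx
  rwa [← mul_left_cancel (mul_right_cancel (show g * w * g⁻¹ = g * x * g⁻¹ from he))]

theorem comm_sup {G : Type u} [Group G] {A : Subgroup G} (hA : ∀ a ∈ A, ∀ b ∈ A, a * b = b * a) {q : G}
    (hq : ∀ a ∈ A, q * a = a * q) : ∀ a ∈ A ⊔ zpowers q, ∀ b ∈ A ⊔ zpowers q, a * b = b * a := by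
  have h1 : A ⊔ zpowers q ≤ centralizer (A : Set G) := sup_le
    (fun a ha => mem_centralizer_iff.2 fun b hb => hA b hb a ha)
    (zpowers_le.2 (mem_centralizer_iff.2 fun b hb => (hq b hb).symm))
  have h2 : A ⊔ zpowers q ≤ centralizer ((zpowers q : Subgroup G) : Set G) := by
    refine sup_le (fun a ha => mem_centralizer_iff.2 fun b hb => ?_) (zpowers_le.2 (mem_centralizer_iff.2 fun b hb => ?_))
    · obtain ⟨i, rfl⟩ := mem_zpowers_iff.1 hb
      exact ((show Commute q a from hq a ha).zpow_left i).eq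
    · obtain ⟨i, rfl⟩ := mem_zpowers_iff.1 hb
      exact ((Commute.refl q).zpow_left i).eq
  have h3 : A ⊔ zpowers q ≤ centralizer ((A ⊔ zpowers q : Subgroup G) : Set G) :=
    le_centralizer_iff.1 (sup_le (le_centralizer_iff.1 h1) (le_centralizer_iff.1 h2))
  exact fun a ha b hb => mem_centralizer_iff.1 (h3 hb) a ha

namespace Setting

variable {G : Type u} [Group G] (D : Setting G)

/-- The intersection of the two subgroups. -/
abbrev A : Subgroup G := D.J ⊓ D.Q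

theorem dvd_243 [Finite G] {B : Subgroup G} (hB : B ≤ D.Q) : ∃ n ≤ 5, Nat.card B = 3 ^ n :=
  (Nat.dvd_prime_pow Nat.prime_three).1 (show Nat.card B ∣ 3 ^ 5 by
    have := card_dvd_of_le hB; rw [D.Q_card] at this; exact this)

/-- Abelian subgroups of the core have order at most 27. -/
theorem abelian_Q [Finite G] {B : Subgroup G} (hB : B ≤ D.Q) (hc : ∀ a ∈ B, ∀ b ∈ B, a * b = b * a) :
    Nat.card B ≤ 27 := by
  obtain ⟨n, hn5, hn⟩ := D.dvd_243 hB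
  by_contra hlt
  have h4 : 4 ≤ n := by
    by_contra h
    exact hlt (hn ▸ Nat.pow_le_pow_right (by norm_num) (show n ≤ 3 by omega))
  by_cases h5 : B = D.Q
  · have hQ : D.Q ≤ D.Zc := fun q hq => D.Q_centre q hq fun x hx => hc q (h5 ▸ hq) x (h5 ▸ hx)
    have := card_le_of_le hQ
    rw [D.Q_card, D.card_Zc] at this
    omega
  have hn4 : n = 4 := by
    by_contra h
    exact h5 (eq_of_le_of_card_ge hB (by rw [D.Q_card, hn, show n = 5 by omega]; norm_num))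
  subst hn4
  obtain ⟨q, hq, hqB⟩ : ∃ q ∈ D.Q, q ∉ B := SetLike.exists_of_lt (lt_of_le_of_ne hB h5)
  set C : Subgroup G := B ⊓ centralizer ({q} : Set G)
  have hC : C ≤ D.Zc := by
    intro c hc'
    refine D.Q_centre c (hB hc'.1) fun x hx => ?_
    have hle : B ⊔ zpowers q ≤ centralizer ({c} : Set G) := sup_le
      (fun b hb => mem_centralizer_singleton_iff.2 (hc b hb c hc'.1))
      (zpowers_le.2 (mem_centralizer_singleton_iff.2 (mem_centralizer_singleton_iff.1 hc'.2).symm))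
    have heq : B ⊔ zpowers q = D.Q := by
      have hsub : B ⊔ zpowers q ≤ D.Q := sup_le hB (zpowers_le.2 hq)
      refine eq_of_le_of_card_ge hsub ?_
      obtain ⟨m, hm5, hm⟩ := D.dvd_243 hsub
      have hne : Nat.card B ≠ Nat.card (B ⊔ zpowers q : Subgroup G) := fun e => hqB (by
        rw [eq_of_le_of_card_ge (le_sup_left : B ≤ B ⊔ zpowers q) e.ge]; exact mem_sup_right (mem_zpowers q))
      have hle' := card_le_of_le (le_sup_left : B ≤ B ⊔ zpowers q)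
      rw [hn, hm] at hne hle'
      rw [D.Q_card, hm]
      have : 5 ≤ m := by
        by_contra h
        exact hne (le_antisymm hle' (Nat.pow_le_pow_right (by norm_num) (show m ≤ 4 by omega)))
      rw [show m = 5 by omega]; norm_num
    exact (mem_centralizer_singleton_iff.1 (hle (heq.ge hx))).symm
  let f : B →* G :=
    { toFun := fun b => q * b * q⁻¹ * (b : G)⁻¹
      map_one' := by simp
      map_mul' := fun a b => by
        have h := D.conj_comm (x := (a : G)) (D.Q_z (hB a.2)) (D.Q_comm q hq b (hB b.2))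
        calc q * (a * b : B) * q⁻¹ * ((a * b : B) : G)⁻¹
            = q * a * q⁻¹ * (a : G)⁻¹ * ((a : G) * (q * b * q⁻¹ * (b : G)⁻¹) * (a : G)⁻¹) := by push_cast; group
          _ = _ := by rw [h] }
  have h1 := card_mul_index f.ker
  rw [index_ker, hn] at h1
  have hk : Nat.card f.ker ≤ 3 := by
    rw [← D.card_Zc]
    refine Nat.card_le_card_of_injective (fun b : f.ker => (⟨((b : B) : G), hC ⟨b.1.2,
      mem_centralizer_singleton_iff.2 ?_⟩⟩ : D.Zc)) fun a b e => ?_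
    · have hb : q * (b : B) * q⁻¹ * ((b : B) : G)⁻¹ = 1 := b.2
      rw [mul_inv_eq_one, mul_inv_eq_iff_eq_mul] at hb
      exact hb.symm
    · exact Subtype.ext (Subtype.ext (congrArg (fun x : D.Zc => (x : G)) e))
  have hr : Nat.card f.range ≤ 3 := by
    rw [← D.card_Zc]
    exact card_le_of_le (by rintro _ ⟨b, rfl⟩; exact D.Q_comm q hq b (hB b.2))
  have := Nat.mul_le_mul hk hr
  omega

theorem Zc_le_Q : D.Zc ≤ D.Q := zpowers_le.2 D.z_Q

end Setting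

namespace Frame

variable {G : Type u} [Group G] {D : Setting G} (F : Frame D)

include F

theorem K_le {x : G} (hx : x ∈ D.K F.t) : x ∈ D.Kc F.t :=
  (commutator_le.2 fun a ha b hb => by
    rw [commutatorElement_def]
    exact mul_mem (mul_mem (mul_mem ha hb) (inv_mem ha)) (inv_mem hb) : D.K F.t ≤ D.Kc F.t) hx

theorem K_t {x : G} (hx : x ∈ D.K F.t) : x * F.t = F.t * x := mem_centralizer_singleton_iff.1 (F.K_le hx).2

theorem y_L₀ : F.y ∈ D.L₀ := D.S_le_L₀ F.y_S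

theorem k_L₀ : F.k ∈ D.L₀ := (F.K_le F.k_K).1

theorem y_t : F.y * F.t = F.t * F.y := F.K_t F.y_K

theorem k_t : F.k * F.t = F.t * F.k := F.K_t F.k_K

theorem t_z : F.t * D.z = D.z * F.t := D.L₀_z F.t_L₀

theorem y_z : F.y * D.z = D.z * F.y := D.L₀_z F.y_L₀

theorem k_z : F.k * D.z = D.z * F.k := D.L₀_z F.k_L₀

theorem t_inv : F.t⁻¹ = F.t := inv_eq_of_mul_eq_one_right F.t_sq

theorem y_ord : orderOf F.y = 3 := orderOf_eq_prime F.y_cube F.y_ne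

theorem t_ne : F.t ≠ 1 := fun e => k5_basic.2.2.2.1 (by
  have h := F.t_φ
  rw [show (⟨F.t, F.t_L₀⟩ : D.L₀) = 1 from Subtype.ext e, map_one] at h
  exact h.symm)

/-- The image of `y`. -/
abbrev yφ : K5 := D.φL ⟨F.y, F.y_L₀⟩

theorem y_not_Q [Finite G] : F.y ∉ D.Q := fun h => F.y_ne (congrArg Subtype.val
  (D.K_inj F.t_L₀ F.t_sq F.t_φ (x := ⟨F.y, F.y_L₀⟩) F.y_K (D.φL_Q h)))

theorem yφ_conj [Finite G] : ∃ a : K5, a * u5 * a⁻¹ = F.yφ :=
  k5_three _ (by rw [← map_pow, show (⟨F.y, F.y_L₀⟩ : D.L₀) ^ 3 = 1 from Subtype.ext F.y_cube, map_one])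
    fun h => F.y_not_Q ((D.φL_ker _).1 h)

/-- The part of the core centralised by `y` modulo the centre. -/
abbrev U0 : Subgroup G := D.fixQ F.y F.y_z

theorem Zc_U0 : D.Zc ≤ F.U0 := zpowers_le.2 ⟨D.z_Q, by rw [F.y_z, mul_inv_cancel_right, mul_inv_cancel]; exact one_mem _⟩

theorem U0_small [Finite G] : Nat.card F.U0 ≤ 27 := by
  have hU : F.U0 ≤ D.Q := fun x hx => hx.1
  obtain ⟨n, hn5, hn⟩ := D.dvd_243 hU
  by_contra hlt
  have h4 : 4 ≤ n := by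
    by_contra h
    exact hlt (hn ▸ Nat.pow_le_pow_right (by norm_num) (show n ≤ 3 by omega))
  obtain ⟨a, ha⟩ := F.yφ_conj
  obtain ⟨f, hf⟩ := D.φL_surj (a * e5 * a⁻¹)
  set U' : Subgroup G := F.U0.map (MulAut.conj (f : G)).toMonoidHom
  have hU' : U' ≤ D.Q := by rintro _ ⟨x, hx, rfl⟩; exact D.norm_Q (D.L₀_norm f.2) hx.1
  set V : Subgroup G := F.U0 ⊓ U'
  have hV : 27 ≤ Nat.card V := by
    have h1 := CfsgLib.Products.card_mul_card_le F.U0 U'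
    rw [card_map_of_injective (MulEquiv.injective _)] at h1
    have h2 := card_le_of_le (sup_le hU hU')
    rw [D.Q_card] at h2
    have h3 : 81 ≤ Nat.card F.U0 := hn ▸ Nat.pow_le_pow_right (by norm_num : 0 < 3) h4
    have h5 : 81 * 81 ≤ 243 * Nat.card V :=
      (Nat.mul_le_mul h3 h3).trans (h1.trans (Nat.mul_le_mul_right _ h2))
    omega
  have hVQ : V ≤ D.Q := inf_le_left.trans hU
  let H : Subgroup G :=
    { carrier := {l | l * D.z = D.z * l ∧ ∀ v ∈ V, l * v * l⁻¹ * v⁻¹ ∈ D.Zc}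
      one_mem' := ⟨by simp, fun v _ => by simp⟩
      mul_mem' := fun {b c} hb hc => ⟨((show Commute b D.z from hb.1).mul_left hc.1).eq, fun v hv => by
        rw [show b * c * v * (b * c)⁻¹ * v⁻¹ = b * (c * v * c⁻¹ * v⁻¹) * b⁻¹ * (b * v * b⁻¹ * v⁻¹) by group,
          D.conj_comm hb.1 (hc.2 v hv)]
        exact mul_mem (hc.2 v hv) (hb.2 v hv)⟩
      inv_mem' := fun {b} hb => ⟨((show Commute b D.z from hb.1).inv_left).eq, fun v hv => by
        have hb' : b⁻¹ * D.z = D.z * b⁻¹ := ((show Commute b D.z from hb.1).inv_left).eq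
        rw [show b⁻¹ * v * b⁻¹⁻¹ * v⁻¹ = b⁻¹ * (b * v * b⁻¹ * v⁻¹)⁻¹ * b⁻¹⁻¹ by group,
          D.conj_comm hb' (inv_mem (hb.2 v hv))]
        exact inv_mem (hb.2 v hv)⟩ }
  let H' : Subgroup K5 := ((H.subgroupOf D.L₀).map D.φL).comap (MulAut.conj a).toMonoidHom
  have hy : F.y ∈ H := ⟨F.y_z, fun v hv => hv.1.2⟩
  have hfy : (f : G) * F.y * (f : G)⁻¹ ∈ H := by
    refine ⟨D.L₀_z (mul_mem (mul_mem f.2 F.y_L₀) (inv_mem f.2)), fun v hv => ?_⟩
    obtain ⟨w, hw, rfl⟩ := hv.2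
    show (f : G) * F.y * (f : G)⁻¹ * ((f : G) * w * (f : G)⁻¹) * ((f : G) * F.y * (f : G)⁻¹)⁻¹ *
      ((f : G) * w * (f : G)⁻¹)⁻¹ ∈ D.Zc
    rw [show (f : G) * F.y * (f : G)⁻¹ * ((f : G) * w * (f : G)⁻¹) * ((f : G) * F.y * (f : G)⁻¹)⁻¹ *
      ((f : G) * w * (f : G)⁻¹)⁻¹ = (f : G) * (F.y * w * F.y⁻¹ * w⁻¹) * (f : G)⁻¹ by group,
      D.conj_comm (D.L₀_z f.2) hw.2]
    exact hw.2
  have htop : H' = ⊤ := k5_gen ⟨⟨F.y, F.y_L₀⟩, hy, ha.symm⟩
    ⟨f * ⟨F.y, F.y_L₀⟩ * f⁻¹, hfy, by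
      show D.φL (f * ⟨F.y, F.y_L₀⟩ * f⁻¹) = a * (e5 * u5 * e5⁻¹) * a⁻¹
      rw [map_mul, map_mul, map_inv, hf, show D.φL ⟨F.y, F.y_L₀⟩ = a * u5 * a⁻¹ from ha.symm]
      group⟩
  obtain ⟨l, hl, hlφ⟩ : a * z5 * a⁻¹ ∈ (H.subgroupOf D.L₀).map D.φL := (htop.ge (mem_top z5) : z5 ∈ H')
  rw [k5_basic.2.2.2.2.1, mul_inv_cancel_right, ← F.t_φ] at hlφ
  have hq : (l : G)⁻¹ * F.t ∈ D.Q := (D.φL_ker (l⁻¹ * ⟨F.t, F.t_L₀⟩)).1 (by
    rw [map_mul, map_inv, hlφ, inv_mul_cancel])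
  have ht : F.t ∈ H := by
    have hq' : (l : G)⁻¹ * F.t ∈ H := ⟨D.Q_z hq, fun v hv => D.Q_comm _ hq v (hVQ hv)⟩
    simpa using H.mul_mem (mem_subgroupOf.1 hl) hq'
  have hVZ : V ≤ D.Zc := by
    intro v hv
    have h1 := ht.2 v hv
    have h2 := D.invert_Q F.t_L₀ F.t_sq F.t_φ v (hVQ hv)
    have h3 : v * v ∈ D.Zc := by
      have e : v * v = v * ((F.t * v * F.t⁻¹ * v⁻¹)⁻¹ * (F.t * v * F.t⁻¹ * v)) * v⁻¹ := by group
      rw [e, D.conj_comm (D.Q_z (hVQ hv)) (mul_mem (inv_mem h1) h2)]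
      exact mul_mem (inv_mem h1) h2
    obtain ⟨m, hm⟩ := D.Q_isP ⟨v, hVQ hv⟩
    obtain ⟨j, hj⟩ : Odd (3 ^ m) := Odd.pow (by decide)
    have hm' : v ^ 3 ^ m = 1 := congrArg Subtype.val hm
    have e : v = (v * v) ^ (j + 1) := by
      rw [← pow_two, ← pow_mul, show 2 * (j + 1) = 1 + (2 * j + 1) by omega, pow_add, ← hj, hm', mul_one, pow_one]
    rw [e]
    exact pow_mem h3 _
  have := card_le_of_le hVZ
  rw [D.card_Zc] at this
  omega

theorem S_mem [Finite G] {s : G} (hs : s ∈ (D.S : Subgroup G)) : ∃ q ∈ D.Q, ∃ i : ℕ, s = q * F.y ^ i := by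
  have hS := D.card_ker_inf D.S_le_L₀
  rw [D.S_card, inf_eq_right.2 D.Q_le, D.Q_card] at hS
  set P := ((D.S : Subgroup G).subgroupOf D.L₀).map D.φL
  have hP : Nat.card P = 3 := by omega
  have hy : F.yφ ∈ P := ⟨⟨F.y, F.y_L₀⟩, F.y_S, rfl⟩
  have hpow : zpowers F.yφ = P := by
    refine eq_of_le_of_card_ge (zpowers_le.2 hy) ?_
    rw [hP, Nat.card_zpowers, orderOf_eq_prime (p := 3)
      (by rw [← map_pow, show (⟨F.y, F.y_L₀⟩ : D.L₀) ^ 3 = 1 from Subtype.ext F.y_cube, map_one])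
      (fun h => F.y_not_Q ((D.φL_ker _).1 h))]
  have hmem : D.φL ⟨s, D.S_le_L₀ hs⟩ ∈ zpowers F.yφ := hpow.ge ⟨⟨s, D.S_le_L₀ hs⟩, hs, rfl⟩
  obtain ⟨i, hi⟩ := mem_powers_iff_mem_zpowers.2 hmem
  have h1 : s * (F.y ^ i)⁻¹ ∈ D.Q :=
    (D.φL_ker (⟨s, D.S_le_L₀ hs⟩ * ((⟨F.y, F.y_L₀⟩ : D.L₀) ^ i)⁻¹)).1 (by
      rw [map_mul, map_inv, map_pow]
      exact mul_inv_eq_one.2 hi.symm)
  exact ⟨_, h1, i, by group⟩

theorem eighty [Finite G] {B : Subgroup G} (hB : B ≤ D.S) (hc : ∀ a ∈ B, ∀ b ∈ B, a * b = b * a)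
    (h81 : Nat.card B = 81) : B ⊓ D.Q = F.U0 ∧ Nat.card F.U0 = 27 := by
  have hS := CfsgLib.Products.card_mul_relIndex_of_le D.Q_le
  rw [D.Q_card, D.S_card] at hS
  have hBQ := CfsgLib.Products.card_inf_mul_relIndex D.Q B
  rw [h81, inf_comm] at hBQ
  have hrel : D.Q.relIndex B ≤ 3 := by
    have := relIndex_le_of_le_right (H := D.Q) hB Subgroup.index_ne_zero_of_finite
    omega
  have hsmall := D.abelian_Q (inf_le_right : B ⊓ D.Q ≤ D.Q) fun a ha b hb => hc a ha.1 b hb.1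
  have h27 : Nat.card (B ⊓ D.Q : Subgroup G) = 27 := by
    have h := Nat.mul_le_mul_left (Nat.card (B ⊓ D.Q : Subgroup G)) hrel
    omega
  have hle : B ⊓ D.Q ≤ F.U0 := by
    obtain ⟨j, hj, hjQ⟩ : ∃ j ∈ B, j ∉ D.Q := by
      by_contra h
      push Not at h
      rw [inf_eq_left.2 (show B ≤ D.Q from h), h81] at h27
      omega
    obtain ⟨r, hr, i, hi⟩ := F.S_mem (hB hj)
    intro a ha
    refine ⟨ha.2, ?_⟩
    have h1 : F.y ^ i * a * (F.y ^ i)⁻¹ * a⁻¹ ∈ D.Zc := by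
      have e : F.y ^ i * a * (F.y ^ i)⁻¹ = r⁻¹ * a * r⁻¹⁻¹ := by
        have hja := hc j hj a ha.1
        rw [show F.y ^ i = r⁻¹ * j by rw [hi]; group,
          show r⁻¹ * j * a * (r⁻¹ * j)⁻¹ = r⁻¹ * (j * a) * j⁻¹ * r by group, hja]
        group
      rw [e]
      exact D.Q_comm _ (inv_mem hr) a ha.2
    have hi3 : ¬ 3 ∣ i := fun ⟨m, hm⟩ => hjQ (by rw [hi, hm, pow_mul, F.y_cube, one_pow, mul_one]; exact hr)
    have hpow : ∀ m : ℕ, F.y ^ (i * m) * a * (F.y ^ (i * m))⁻¹ * a⁻¹ ∈ D.Zc := by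
      intro m
      induction m with
      | zero => simp
      | succ m ih =>
        have hy : F.y ^ (i * m) * D.z = D.z * F.y ^ (i * m) := ((show Commute F.y D.z from F.y_z).pow_left _).eq
        rw [mul_add, mul_one, pow_add, show F.y ^ (i * m) * F.y ^ i * a * (F.y ^ (i * m) * F.y ^ i)⁻¹ * a⁻¹ =
          F.y ^ (i * m) * (F.y ^ i * a * (F.y ^ i)⁻¹ * a⁻¹) * (F.y ^ (i * m))⁻¹ *
            (F.y ^ (i * m) * a * (F.y ^ (i * m))⁻¹ * a⁻¹) by group, D.conj_comm hy h1]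
        exact mul_mem h1 ih
    have h2 := hpow i
    rwa [pow_eq_pow_mod (i * i) F.y_cube, show i * i % 3 = 1 by
      rw [Nat.mul_mod]; obtain h | h : i % 3 = 1 ∨ i % 3 = 2 := (by omega)
      all_goals rw [h], pow_one] at h2
  have e : B ⊓ D.Q = F.U0 := eq_of_le_of_card_ge hle (by rw [h27]; exact F.U0_small)
  exact ⟨e, e ▸ h27⟩

theorem A_eq [Finite G] : D.A = F.U0 := (F.eighty D.J_le D.J_comm D.J_card).1

theorem card_A [Finite G] : Nat.card D.A = 27 := F.A_eq ▸ (F.eighty D.J_le D.J_comm D.J_card).2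

theorem Zc_A [Finite G] : D.Zc ≤ D.A := F.A_eq ▸ F.Zc_U0

theorem z_J [Finite G] : D.z ∈ D.J := (F.Zc_A (mem_zpowers _)).1

theorem A_comm {a b : G} (ha : a ∈ D.A) (hb : b ∈ D.A) : a * b = b * a := D.J_comm a ha.1 b hb.1

theorem centA [Finite G] {q : G} (hq : q ∈ D.Q) (h : ∀ a ∈ D.A, q * a = a * q) : q ∈ D.A := by
  have hle : D.A ⊔ zpowers q ≤ D.Q := sup_le inf_le_right (zpowers_le.2 hq)
  have := D.abelian_Q hle (comm_sup (fun a ha b hb => F.A_comm ha hb) h)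
  have e : D.A = D.A ⊔ zpowers q := eq_of_le_of_card_ge le_sup_left (by rw [F.card_A]; exact this)
  rw [e]; exact mem_sup_right (mem_zpowers q)

theorem t_A [Finite G] {a : G} (ha : a ∈ D.A) : F.t * a * F.t⁻¹ ∈ D.A := by
  rw [F.A_eq] at ha ⊢
  refine ⟨D.norm_Q (D.L₀_norm F.t_L₀) ha.1, ?_⟩
  have e : F.y * (F.t * a * F.t⁻¹) * F.y⁻¹ * (F.t * a * F.t⁻¹)⁻¹ = F.t * (F.y * a * F.y⁻¹ * a⁻¹) * F.t⁻¹ := by
    calc F.y * (F.t * a * F.t⁻¹) * F.y⁻¹ * (F.t * a * F.t⁻¹)⁻¹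
        = (F.y * F.t) * a * (F.y * F.t)⁻¹ * (F.t * a⁻¹ * F.t⁻¹) := by group
      _ = _ := by rw [F.y_t]; group
  rw [e, D.conj_comm F.t_z ha.2]
  exact ha.2

theorem y_A [Finite G] {a : G} (ha : a ∈ D.A) : F.y * a = a * F.y := by
  have hU := F.A_eq.le ha
  set c := F.y * a * F.y⁻¹ * a⁻¹
  have hc : c ∈ D.Zc := hU.2
  have hd := D.invert_Q F.t_L₀ F.t_sq F.t_φ a ha.2
  set d := F.t * a * F.t⁻¹ * a
  have e1 : F.y * (F.t * a * F.t⁻¹) * F.y⁻¹ * (F.t * a * F.t⁻¹)⁻¹ = c := by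
    calc F.y * (F.t * a * F.t⁻¹) * F.y⁻¹ * (F.t * a * F.t⁻¹)⁻¹
        = (F.y * F.t) * a * (F.y * F.t)⁻¹ * (F.t * a⁻¹ * F.t⁻¹) := by group
      _ = F.t * c * F.t⁻¹ := by rw [F.y_t]; simp only [c]; group
      _ = c := D.conj_comm F.t_z hc
  have e2 : F.y * (d * a⁻¹) * F.y⁻¹ * (d * a⁻¹)⁻¹ = c⁻¹ := by
    have hyd : F.y * d * F.y⁻¹ = d := D.conj_comm F.y_z hd
    have hac : a⁻¹ * c⁻¹ * a⁻¹⁻¹ = c⁻¹ := D.conj_comm (D.Q_z (inv_mem ha.2)) (inv_mem hc)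
    have hdc : d * c⁻¹ * d⁻¹ = c⁻¹ := D.conj_comm (by
      obtain ⟨i, -, e⟩ := D.mem_Zc.1 hd
      rw [e, ← pow_succ, ← pow_succ']) (inv_mem hc)
    calc F.y * (d * a⁻¹) * F.y⁻¹ * (d * a⁻¹)⁻¹
        = (F.y * d * F.y⁻¹) * (a⁻¹ * (F.y * a * F.y⁻¹ * a⁻¹)⁻¹ * a⁻¹⁻¹) * d⁻¹ := by group
      _ = c⁻¹ := by rw [hyd, hac, hdc]
  rw [show F.t * a * F.t⁻¹ = d * a⁻¹ by simp [d], e2] at e1
  have hc2 : c * c = 1 := by nth_rw 1 [← e1]; exact inv_mul_cancel c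
  have hc1 : c = 1 := by
    have := D.Zc_cube hc
    rwa [pow_succ, pow_two, hc2, one_mul] at this
  exact mul_inv_eq_iff_eq_mul.1 (mul_inv_eq_one.1 hc1)

theorem y_mem [Finite G] {B : Subgroup G} (hB : B ≤ D.S) (hc : ∀ a ∈ B, ∀ b ∈ B, a * b = b * a)
    (h81 : Nat.card B = 81) : F.y ∈ B := by
  obtain ⟨e, e27⟩ := F.eighty hB hc h81
  obtain ⟨j, hj, hjQ⟩ : ∃ j ∈ B, j ∉ D.Q := by
    by_contra h
    push Not at h
    have e' := inf_eq_left.2 (show B ≤ D.Q from h)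
    rw [e] at e'
    rw [← e', e27] at h81
    omega
  obtain ⟨r, hr, i, hi⟩ := F.S_mem (hB hj)
  have hAB : D.A = B ⊓ D.Q := F.A_eq.trans e.symm
  have hrA : r ∈ D.A := F.centA hr fun a ha => by
    have h1 : Commute j a := hc j hj a (hAB.le ha).1
    have h2 : Commute (F.y ^ i) a := (show Commute F.y a from F.y_A ha).pow_left i
    rw [show r = j * (F.y ^ i)⁻¹ by rw [hi]; group]
    exact (h1.mul_left h2.inv_left).eq
  have hyi : F.y ^ i ∈ B := by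
    rw [show F.y ^ i = r⁻¹ * j by rw [hi]; group]
    exact mul_mem (inv_mem (hAB.le hrA).1) hj
  have hi3 : ¬ 3 ∣ i := fun ⟨m, hm⟩ => hjQ (by rw [hi, hm, pow_mul, F.y_cube, one_pow, mul_one]; exact hr)
  have h := pow_mem hyi i
  rwa [← pow_mul, pow_eq_pow_mod (i * i) F.y_cube, show i * i % 3 = 1 by
    rw [Nat.mul_mod]; obtain h | h : i % 3 = 1 ∨ i % 3 = 2 := (by omega)
    all_goals rw [h], pow_one] at h

theorem y_J [Finite G] : F.y ∈ D.J := F.y_mem D.J_le D.J_comm D.J_card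

theorem eighty_eq [Finite G] {B : Subgroup G} (hB : B ≤ D.S) (hc : ∀ a ∈ B, ∀ b ∈ B, a * b = b * a)
    (h81 : Nat.card B = 81) : B = D.J := by
  have key : ∀ C : Subgroup G, C ≤ D.S → (∀ a ∈ C, ∀ b ∈ C, a * b = b * a) → Nat.card C = 81 →
      C = F.U0 ⊔ zpowers F.y := by
    intro C hC hcC hC81
    obtain ⟨e, e27⟩ := F.eighty hC hcC hC81
    have hsub : F.U0 ⊔ zpowers F.y ≤ C := sup_le (e ▸ inf_le_left) (zpowers_le.2 (F.y_mem hC hcC hC81))
    refine (eq_of_le_of_card_ge hsub ?_).symm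
    have hd : Nat.card (F.U0 ⊔ zpowers F.y : Subgroup G) ∣ 3 ^ 4 := by
      have := card_dvd_of_le hsub; rw [hC81] at this; exact this
    obtain ⟨n, hn, hn'⟩ := (Nat.dvd_prime_pow Nat.prime_three).1 hd
    have hlt : Nat.card F.U0 < Nat.card (F.U0 ⊔ zpowers F.y : Subgroup G) := by
      refine lt_of_le_of_ne (card_le_of_le le_sup_left) fun h => F.y_not_Q ?_
      have := eq_of_le_of_card_ge (le_sup_left : F.U0 ≤ F.U0 ⊔ zpowers F.y) h.ge
      exact (this.ge (mem_sup_right (mem_zpowers _))).1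
    rw [e27, hn'] at hlt
    rw [hC81, hn']
    have : 4 ≤ n := by
      by_contra h
      exact absurd (Nat.pow_le_pow_right (by norm_num : 0 < 3) (show n ≤ 3 by omega)) (not_le.2 hlt)
    rw [show n = 4 by omega]; norm_num
  rw [key B hB hc h81, key D.J D.J_le D.J_comm D.J_card]

theorem J_mem [Finite G] {j : G} (hj : j ∈ D.J) : ∃ a ∈ D.A, ∃ i : ℕ, j = a * F.y ^ i := by
  obtain ⟨r, hr, i, hi⟩ := F.S_mem (D.J_le hj)
  refine ⟨r, ⟨?_, hr⟩, i, hi⟩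
  rw [show r = j * (F.y ^ i)⁻¹ by rw [hi]; group]
  exact D.J.mul_mem hj (D.J.inv_mem (D.J.pow_mem F.y_J i))

theorem norm_S_J [Finite G] {x : G} (hx : x ∈ normalizer ((D.S : Subgroup G) : Set G)) :
    x ∈ normalizer (D.J : Set G) := by
  have hB : D.J.map (MulAut.conj x).toMonoidHom ≤ D.S := by
    rintro _ ⟨j, hj, rfl⟩
    exact (Subgroup.mem_normalizer_iff.1 hx j).1 (D.J_le hj)
  have e := F.eighty_eq hB (by
    rintro _ ⟨a, ha, rfl⟩ _ ⟨b, hb, rfl⟩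
    rw [← map_mul, ← map_mul, D.J_comm a ha b hb])
    (by rw [card_map_of_injective (MulEquiv.injective _), D.J_card])
  exact norm_of_conj_le fun j hj => e ▸ mem_map_of_mem _ hj

theorem S_norm_J [Finite G] : (D.S : Subgroup G) ≤ normalizer (D.J : Set G) := fun s hs =>
  F.norm_S_J (le_normalizer hs)

theorem norm_S_z [Finite G] {x : G} (hx : x ∈ normalizer ((D.S : Subgroup G) : Set G)) :
    x ∈ normalizer (D.Zc : Set G) := by
  have h1 : x * D.z * x⁻¹ ∈ D.Zc := by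
    refine D.z_top _ ((Subgroup.mem_normalizer_iff.1 hx _).1 (D.Q_le D.z_Q)) fun s hs => ?_
    have hs' : x⁻¹ * s * x ∈ (D.S : Subgroup G) := by
      refine (Subgroup.mem_normalizer_iff.1 hx _).2 ?_
      rwa [show x * (x⁻¹ * s * x) * x⁻¹ = s by group]
    calc x * D.z * x⁻¹ * s = x * (D.z * (x⁻¹ * s * x)) * x⁻¹ := by group
      _ = x * (x⁻¹ * s * x * D.z) * x⁻¹ := by rw [D.z_comm _ hs']
      _ = s * (x * D.z * x⁻¹) := by group
  refine norm_of_conj_le fun w hw => ?_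
  obtain ⟨i, -, rfl⟩ := D.mem_Zc.1 hw
  rw [← conj_pow]
  exact pow_mem h1 i

theorem norm_S_of [Finite G] {x : G} (hJ : x ∈ normalizer (D.J : Set G)) (hZ : x ∈ normalizer (D.Zc : Set G)) :
    x ∈ normalizer ((D.S : Subgroup G) : Set G) := by
  refine norm_of_conj_le fun s hs => ?_
  obtain ⟨q, hq, i, rfl⟩ := F.S_mem hs
  rw [show x * (q * F.y ^ i) * x⁻¹ = x * q * x⁻¹ * (x * F.y ^ i * x⁻¹) by group]
  exact mul_mem (D.Q_le (D.norm_Q hZ hq))
    (D.J_le ((Subgroup.mem_normalizer_iff.1 hJ _).1 (pow_mem F.y_J i)))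

theorem t_norm_S [Finite G] : F.t ∈ normalizer ((D.S : Subgroup G) : Set G) := by
  refine norm_of_conj_le fun s hs => ?_
  obtain ⟨q, hq, i, rfl⟩ := F.S_mem hs
  have h : Commute F.t (F.y ^ i) := (show Commute F.t F.y from F.y_t.symm).pow_right i
  rw [show F.t * (q * F.y ^ i) * F.t⁻¹ = F.t * q * F.t⁻¹ * (F.t * F.y ^ i * F.t⁻¹) by group, h.eq,
    mul_inv_cancel_right]
  exact mul_mem (D.Q_le (D.norm_Q (D.L₀_norm F.t_L₀) hq)) (pow_mem F.y_S i)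

theorem k_norm_S [Finite G] : F.k ∈ normalizer ((D.S : Subgroup G) : Set G) := by
  refine norm_of_conj_le fun s hs => ?_
  obtain ⟨q, hq, i, rfl⟩ := F.S_mem hs
  rw [show F.k * (q * F.y ^ i) * F.k⁻¹ = F.k * q * F.k⁻¹ * (F.k * F.y * F.k⁻¹) ^ i by rw [conj_pow]; group, F.k_y]
  exact mul_mem (D.Q_le (D.norm_Q (D.L₀_norm F.k_L₀) hq)) (pow_mem (inv_mem F.y_S) i)

theorem t_J [Finite G] : F.t ∈ normalizer (D.J : Set G) := F.norm_S_J F.t_norm_S

theorem k_J [Finite G] : F.k ∈ normalizer (D.J : Set G) := F.norm_S_J F.k_norm_S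

/-- Elements stabilising the chain are three-elements. -/
theorem stable_chain [Finite G] {x : G} (hz : x * D.z = D.z * x) (hA : ∀ a ∈ D.A, x * a * x⁻¹ * a⁻¹ ∈ D.Zc)
    (hQ : ∀ q ∈ D.Q, x * q * x⁻¹ * q⁻¹ ∈ D.A) : ∃ k : ℕ, orderOf x = 3 ^ k := by
  have hA' : ∀ a ∈ D.A, x * a * x⁻¹ ∈ D.A := fun a ha => by
    rw [show x * a * x⁻¹ = x * a * x⁻¹ * a⁻¹ * a by group]
    exact mul_mem (F.Zc_A (hA a ha)) ha
  have hpow : ∀ n : ℕ, x ^ n * D.z = D.z * x ^ n ∧ (∀ a ∈ D.A, x ^ n * a * (x ^ n)⁻¹ * a⁻¹ ∈ D.Zc) ∧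
      (∀ q ∈ D.Q, x ^ n * q * (x ^ n)⁻¹ * q⁻¹ ∈ D.A) := by
    intro n
    induction n with
    | zero => exact ⟨by simp, fun a _ => by simp, fun q _ => by simp⟩
    | succ n ih =>
      refine ⟨((show Commute x D.z from hz).pow_left _).eq, fun a ha => ?_, fun q hq => ?_⟩
      · rw [pow_succ', show x * x ^ n * a * (x * x ^ n)⁻¹ * a⁻¹ =
          x * (x ^ n * a * (x ^ n)⁻¹ * a⁻¹) * x⁻¹ * (x * a * x⁻¹ * a⁻¹) by group, D.conj_comm hz (ih.2.1 a ha)]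
        exact mul_mem (ih.2.1 a ha) (hA a ha)
      · rw [pow_succ', show x * x ^ n * q * (x * x ^ n)⁻¹ * q⁻¹ =
          x * (x ^ n * q * (x ^ n)⁻¹ * q⁻¹) * x⁻¹ * (x * q * x⁻¹ * q⁻¹) by group]
        exact mul_mem (hA' _ (ih.2.2 q hq)) (hQ q hq)
  obtain ⟨m, n, hn, he⟩ := Nat.exists_eq_pow_mul_and_not_dvd (orderOf_pos x).ne' 3 (by norm_num)
  refine ⟨m, ?_⟩
  set w := x ^ 3 ^ m
  have hw : orderOf w = n := by
    rw [orderOf_pow, he, Nat.gcd_eq_right (dvd_mul_right _ _), Nat.mul_div_cancel_left _ (pow_pos (by norm_num) m)]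
  obtain ⟨hwz, hwA, hwQ⟩ := hpow (3 ^ m)
  have h3 : ¬ 3 ∣ orderOf w := hw ▸ hn
  have hfix : ∀ a ∈ D.A, w * a = a * w := by
    intro a ha
    set c := w * a * w⁻¹ * a⁻¹
    have e := pow_conj_mul (x := w) (q := a) (c := c) (by simp [c]) (D.comm_Zc hwz (hwA a ha)) (orderOf w)
    rw [pow_orderOf_eq_one, one_mul, inv_one, mul_one] at e
    have hc1 : c = 1 := eq_one_of_orders h3 (D.Zc_cube (hwA a ha)) (right_eq_mul.1 e)
    exact mul_inv_eq_iff_eq_mul.1 (mul_inv_eq_one.1 hc1)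
  have hw1 : w = 1 := by
    refine D.trivial_stable hwz (fun q hq => ?_) h3
    set c := w * q * w⁻¹ * q⁻¹
    have hc : c ∈ D.A := hwQ q hq
    have e := pow_conj_mul (x := w) (q := q) (c := c) (by simp [c]) (hfix c hc) (orderOf w)
    rw [pow_orderOf_eq_one, one_mul, inv_one, mul_one] at e
    rw [eq_one_of_orders h3 (D.J_exp c hc.1) (right_eq_mul.1 e)]
    exact one_mem _
  rw [hw1, orderOf_one] at hw
  rw [he, ← hw, mul_one]

/-- Three-elements of the first local group commuting with `y` lie in the Sylow subgroup. -/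
theorem three_S [Finite G] {x : G} (hx : x ∈ D.L₀) (h3 : ∃ k : ℕ, orderOf x = 3 ^ k) (hy : x * F.y = F.y * x) :
    x ∈ (D.S : Subgroup G) := by
  obtain ⟨a, ha⟩ := F.yφ_conj
  set w := a⁻¹ * D.φL ⟨x, hx⟩ * a
  have hw : w * u5 = u5 * w := by
    have h : D.φL ⟨x, hx⟩ * (a * u5 * a⁻¹) = a * u5 * a⁻¹ * D.φL ⟨x, hx⟩ := by
      rw [ha, ← map_mul, ← map_mul]; exact congrArg _ (Subtype.ext hy)
    calc w * u5 = a⁻¹ * (D.φL ⟨x, hx⟩ * (a * u5 * a⁻¹)) * a := by simp only [w]; group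
      _ = u5 * w := by rw [h]; simp only [w]; group
  obtain ⟨k, hk⟩ := h3
  have hwk : w ^ 3 ^ k = 1 := by
    rw [show w = a⁻¹ * D.φL ⟨x, hx⟩ * a⁻¹⁻¹ by rw [inv_inv], conj_pow, ← map_pow,
      show (⟨x, hx⟩ : D.L₀) ^ 3 ^ k = 1 from Subtype.ext (by
        show x ^ 3 ^ k = 1; rw [← hk]; exact pow_orderOf_eq_one x), map_one]
    group
  obtain ⟨i, hi | hi⟩ := k5_cent w hw
  · have hq : x * (F.y ^ i.val)⁻¹ ∈ D.Q :=
      (D.φL_ker (⟨x, hx⟩ * ((⟨F.y, F.y_L₀⟩ : D.L₀) ^ i.val)⁻¹)).1 (by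
        rw [map_mul, map_inv, map_pow, show D.φL ⟨F.y, F.y_L₀⟩ = a * u5 * a⁻¹ from ha.symm, conj_pow,
          show D.φL ⟨x, hx⟩ = a * w * a⁻¹ by simp [w, mul_assoc], hi, mul_inv_cancel])
    have := mul_mem (D.Q_le hq) (pow_mem F.y_S i.val)
    rwa [inv_mul_cancel_right] at this
  · exfalso
    obtain ⟨j, hj⟩ : Odd (3 ^ k) := Odd.pow (by decide)
    rw [hi, (show Commute (u5 ^ i.val) z5 from k5_basic.2.2.2.2.1 _).mul_pow] at hwk
    have hz : z5 ^ 3 ^ k = z5 := by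
      rw [hj, pow_add, pow_mul, pow_two, k5_basic.2.2.1, one_pow, one_mul, pow_one]
    rw [hz] at hwk
    have h3 : z5 ^ 3 = 1 := by
      rw [eq_inv_of_mul_eq_one_right hwk, inv_pow, ← pow_mul, ← pow_mul,
        show i.val * (3 ^ k * 3) = 3 * (i.val * 3 ^ k) by ring, pow_mul, k5_basic.1, one_pow, inv_one]
    rw [pow_succ, pow_two, k5_basic.2.2.1, one_mul] at h3
    exact k5_basic.2.2.2.1 h3

theorem centJ_S [Finite G] {s : G} (hs : s ∈ (D.S : Subgroup G)) (h : ∀ a ∈ D.A, s * a = a * s) : s ∈ D.J := by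
  obtain ⟨r, hr, i, rfl⟩ := F.S_mem hs
  refine mul_mem (F.centA hr fun a ha => ?_).1 (pow_mem F.y_J i)
  have h2 : Commute (F.y ^ i) a := (show Commute F.y a from F.y_A ha).pow_left i
  rw [show r = r * F.y ^ i * (F.y ^ i)⁻¹ by group]
  exact ((show Commute (r * F.y ^ i) a from h a ha).mul_left h2.inv_left).eq

theorem centJ [Finite G] : centralizer (D.J : Set G) ≤ D.J := by
  intro x hx
  have hxJ : ∀ j ∈ D.J, x * j = j * x := fun j hj => (mem_centralizer_iff.1 hx j hj).symm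
  have hzJ := hxJ D.z F.z_J
  have hN := D.comm_norm hzJ
  have h3 : ∃ k : ℕ, orderOf x = 3 ^ k := by
    refine F.stable_chain hzJ (fun a ha => by rw [hxJ a ha.1, mul_inv_cancel_right, mul_inv_cancel]; exact one_mem _)
      fun q hq => ?_
    have hcQ : x * q * x⁻¹ * q⁻¹ ∈ D.Q := mul_mem (D.norm_Q hN hq) (inv_mem hq)
    refine F.centA hcQ fun a ha => ?_
    have hqa : q⁻¹ * a * q ∈ D.J := by
      rw [show q⁻¹ * a * q = q⁻¹ * a * q⁻¹⁻¹ * a⁻¹ * a by group]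
      exact (mul_mem (F.Zc_A (D.Q_comm _ (inv_mem hq) a ha.2)) ha).1
    have e : x * q * x⁻¹ * q⁻¹ * a * (x * q * x⁻¹ * q⁻¹)⁻¹ = a := by
      calc x * q * x⁻¹ * q⁻¹ * a * (x * q * x⁻¹ * q⁻¹)⁻¹
          = x * q * x⁻¹ * ((q⁻¹ * a * q) * x) * q⁻¹ * x⁻¹ := by group
        _ = x * a * x⁻¹ := by rw [← hxJ _ hqa]; group
        _ = a := by rw [hxJ a ha.1, mul_inv_cancel_right]
    exact mul_inv_eq_iff_eq_mul.1 e
  exact F.centJ_S (F.three_S (D.three_mem_L₀ hN h3) h3 (hxJ _ F.y_J)) fun a ha => hxJ a ha.1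

end Frame

end CfsgLib.McLThree
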