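import Cfsg.Agent.Lib.McLThree.ND
import Cfsg.Agent.Lib.CoprimeGen

/-!
The odd core is trivial, and `t` is not central.
-/

set_option autoImplicit false

namespace CfsgLib.McLThree

open Subgroup

universe u

namespace Full

variable {G : Type u} [Group G] {D : Setting G} (U : Full D)

include U

theorem normal_eq_one [Finite G] {N : Subgroup G} [hN : N.Normal] (hodd : ¬ 3 ∣ Nat.card N) {x : G} (hx : x ∈ N)
    (h3 : ∀ j ∈ D.J, x * j * x⁻¹ * j⁻¹ ∈ D.J) : x = 1 := by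
  have hxJ : x ∈ centralizer (D.J : Set G) := by
    rw [mem_centralizer_iff]
    intro j hj
    have hc : x * j * x⁻¹ * j⁻¹ ∈ N := by
      rw [show x * j * x⁻¹ * j⁻¹ = x * (j * x⁻¹ * j⁻¹) by group]
      exact mul_mem hx (hN.conj_mem _ (inv_mem hx) j)
    by_contra hne
    have h1 : x * j * x⁻¹ * j⁻¹ ≠ 1 := fun e => hne (mul_inv_eq_iff_eq_mul.1 (mul_inv_eq_one.1 e)).symm
    refine hodd ?_
    rw [← orderOf_eq_prime (p := 3) (D.J_exp _ (h3 j hj)) h1]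
    exact Subgroup.orderOf_dvd_natCard N hc
  have hxj := U.F.centJ hxJ
  by_contra hx1
  refine hodd ?_
  rw [← orderOf_eq_prime (p := 3) (D.J_exp _ hxj) hx1]
  exact Subgroup.orderOf_dvd_natCard N hx

theorem cent_z_trivial [Finite G] {N : Subgroup G} [hN : N.Normal] (hodd : ¬ 3 ∣ Nat.card N) {x : G} (hx : x ∈ N)
    (hz : x * D.z = D.z * x) : x = 1 := by
  have h1 : ∀ q ∈ D.Q, x * q * x⁻¹ * q⁻¹ = 1 := by
    intro q hq
    have hQ : x * q * x⁻¹ * q⁻¹ ∈ D.Q := mul_mem (D.norm_Q (D.comm_norm hz) hq) (inv_mem hq)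
    have hc : x * q * x⁻¹ * q⁻¹ ∈ N := by
      rw [show x * q * x⁻¹ * q⁻¹ = x * (q * x⁻¹ * q⁻¹) by group]
      exact mul_mem hx (hN.conj_mem _ (inv_mem hx) q)
    by_contra hne
    obtain ⟨n, hn⟩ := D.Q_isP ⟨_, hQ⟩
    obtain ⟨i, -, hi⟩ := (Nat.dvd_prime_pow Nat.prime_three).1
      (orderOf_dvd_of_pow_eq_one (congrArg Subtype.val hn : (x * q * x⁻¹ * q⁻¹) ^ 3 ^ n = 1))
    rcases i with _ | i
    · exact hne (orderOf_eq_one_iff.1 (by simpa using hi))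
    · exact hodd ((hi ▸ dvd_pow_self 3 i.succ_ne_zero : 3 ∣ orderOf (x * q * x⁻¹ * q⁻¹)).trans
        (Subgroup.orderOf_dvd_natCard N hc))
  have hxQ : x ∈ D.Q := D.Q_self (mem_centralizer_iff.2 fun q hq =>
    (mul_inv_eq_iff_eq_mul.1 (mul_inv_eq_one.1 (h1 q hq))).symm)
  by_contra hx1
  obtain ⟨n, hn⟩ := D.Q_isP ⟨x, hxQ⟩
  obtain ⟨i, -, hi⟩ := (Nat.dvd_prime_pow Nat.prime_three).1
    (orderOf_dvd_of_pow_eq_one (congrArg Subtype.val hn : x ^ 3 ^ n = 1))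
  rcases i with _ | i
  · exact hx1 (orderOf_eq_one_iff.1 (by simpa using hi))
  · exact hodd ((hi ▸ dvd_pow_self 3 i.succ_ne_zero : 3 ∣ orderOf x).trans (Subgroup.orderOf_dvd_natCard N hx))

theorem z_mem_of_three [Finite G] {N : Subgroup G} [hN : N.Normal] {a : G} (haN : a ∈ N)
    (haS : a ∈ (D.S : Subgroup G)) (ha1 : a ≠ 1) : D.z ∈ N := by
  have hzc : ∀ c : G, c ∈ N → c ∈ D.Zc → c ≠ 1 → D.z ∈ N := by
    intro c hc hcz hc1
    obtain ⟨i, hi, rfl⟩ := D.mem_Zc.1 hcz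
    interval_cases i
    · exact absurd (pow_zero _) hc1
    · simpa using hc
    · have h := mul_mem hc hc
      rwa [← pow_add, show 2 + 2 = 3 + 1 from rfl, pow_add, D.z_cube, one_mul, pow_one] at h
  have hcm : ∀ w : G, w ∈ N → ∀ q : G, w * q * w⁻¹ * q⁻¹ ∈ N := fun w hw q => by
    rw [show w * q * w⁻¹ * q⁻¹ = w * (q * w⁻¹ * q⁻¹) by group]
    exact mul_mem hw (hN.conj_mem _ (inv_mem hw) q)
  have hQ : ∀ c : G, c ∈ N → c ∈ D.Q → c ≠ 1 → D.z ∈ N := by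
    intro c hc hcQ hc1
    by_cases h : ∀ x ∈ D.Q, c * x = x * c
    · exact hzc c hc (D.Q_centre c hcQ h) hc1
    · push Not at h
      obtain ⟨x, hx, hne⟩ := h
      exact hzc _ (hcm c hc x) (D.Q_comm c hcQ x hx)
        fun e => hne (mul_inv_eq_iff_eq_mul.1 (mul_inv_eq_one.1 e))
  by_cases h : ∀ x ∈ D.Q, a * x = x * a
  · exact hQ a haN (D.Q_self (mem_centralizer_iff.2 fun x hx => (h x hx).symm)) ha1
  · push Not at h
    obtain ⟨x, hx, hne⟩ := h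
    exact hQ _ (hcm a haN x) (mul_mem (D.norm_Q (D.S_norm haS) hx) (inv_mem hx))
      fun e => hne (mul_inv_eq_iff_eq_mul.1 (mul_inv_eq_one.1 e))

theorem t_mem_of_y [Finite G] {N : Subgroup G} [hN : N.Normal] (hy : U.F.y ∈ N) : U.F.t ∈ N := by
  obtain ⟨a, ha⟩ := U.F.yφ_conj
  obtain ⟨e, he, heφ⟩ := D.K_onto U.F.t_L₀ U.F.t_sq U.F.t_φ (a * e5 * a⁻¹)
  set H : Subgroup G := N ⊓ D.K U.F.t
  let H' : Subgroup K5 := ((H.subgroupOf D.L₀).map D.φL).comap (MulAut.conj a).toMonoidHom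
  have hyH : U.F.y ∈ H := ⟨hy, U.F.y_K⟩
  have htop : H' = ⊤ := k5_gen ⟨⟨U.F.y, U.F.y_L₀⟩, hyH, ha.symm⟩
    ⟨e * ⟨U.F.y, U.F.y_L₀⟩ * e⁻¹, ⟨hN.conj_mem _ hy _, (D.K U.F.t).mul_mem ((D.K U.F.t).mul_mem he U.F.y_K) ((D.K U.F.t).inv_mem he)⟩, by
      show D.φL (e * ⟨U.F.y, U.F.y_L₀⟩ * e⁻¹) = a * (e5 * u5 * e5⁻¹) * a⁻¹
      rw [map_mul, map_mul, map_inv, heφ, show D.φL ⟨U.F.y, U.F.y_L₀⟩ = a * u5 * a⁻¹ from ha.symm]
      group⟩
  obtain ⟨l, hl, hlφ⟩ : a * z5 * a⁻¹ ∈ (H.subgroupOf D.L₀).map D.φL := (htop.ge (mem_top z5) : z5 ∈ H')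
  rw [k5_basic.2.2.2.2.1, mul_inv_cancel_right, ← U.F.t_φ] at hlφ
  obtain ⟨hlN, hlK⟩ : (l : G) ∈ N ∧ (l : G) ∈ D.K U.F.t := mem_subgroupOf.1 hl
  have htK : U.F.t ∈ D.K U.F.t := by
    have h := mul_mem U.F.k_K U.F.k_K
    rwa [U.F.k_sq] at h
  have h1 := D.K_inj U.F.t_L₀ U.F.t_sq U.F.t_φ (x := l * (⟨U.F.t, U.F.t_L₀⟩ : D.L₀)⁻¹)
    (mul_mem hlK (inv_mem htK)) (by rw [map_mul, map_inv, hlφ, mul_inv_cancel])
  rw [← show (l : G) = U.F.t from mul_inv_eq_one.1 (congrArg Subtype.val h1)]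
  exact hlN

theorem three_not_dvd [Finite G] {N : Subgroup G} [hN : N.Normal] (hodd : ¬ 2 ∣ Nat.card N) :
    ¬ 3 ∣ Nat.card N := by
  haveI : Fact (Nat.Prime 3) := ⟨Nat.prime_three⟩
  intro h3
  obtain ⟨a, ha⟩ := exists_prime_orderOf_dvd_card' (G := N) 3 h3
  obtain ⟨P, hP⟩ := (IsPGroup.of_card (p := 3) (n := 1) (G := zpowers (a : G)) (by
    rw [Nat.card_zpowers, orderOf_coe, ha, pow_one])).exists_le_sylow
  obtain ⟨c, hc⟩ := MulAction.exists_smul_eq G P D.S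
  have haS : c * (a : G) * c⁻¹ ∈ (D.S : Subgroup G) := by
    rw [← hc, Sylow.coe_subgroup_smul]
    exact Subgroup.smul_mem_pointwise_smul _ (MulAut.conj c) _ (hP (mem_zpowers _))
  have hne : c * (a : G) * c⁻¹ ≠ 1 := fun e => by
    have h1 : (a : G) = 1 := conj_eq_one_iff.1 e
    rw [← orderOf_coe, h1, orderOf_one] at ha
    omega
  have hzN := U.z_mem_of_three (hN.conj_mem _ a.2 c) haS hne
  have hyN : U.F.y ∈ N := U.g_z ▸ hN.conj_mem _ hzN _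
  refine hodd ?_
  rw [← orderOf_eq_prime (p := 2) (by rw [pow_two]; exact U.F.t_sq) U.F.t_ne]
  exact Subgroup.orderOf_dvd_natCard N (U.t_mem_of_y hyN)

/-- The odd core is trivial. -/
theorem odd_bot [Finite G] (hc : centralizer ({U.yp} : Set G) ≤ normalizer (D.J : Set G)) :
    Cfsg.oddCore G = ⊥ := by
  set N := Cfsg.oddCore G
  haveI hNn : N.Normal := (CfsgLib.sSup_prop_of_closed_sup
    (fun M : Subgroup G => M.Normal ∧ (Nat.card M).Coprime 2)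
    ⟨inferInstance, by simp⟩ (fun _ _ h₁ h₂ => CfsgLib.pPrimeCore_mem_sup 2 h₁ h₂) fun _ h => h).1
  have h2 : ¬ 2 ∣ Nat.card N := CfsgLib.not_dvd_card_pPrimeCore Nat.prime_two
  have h3 := U.three_not_dvd h2
  have hcomm : IsMulCommutative U.Dt := ⟨⟨fun a b => Subtype.ext (D.J_comm _ (U.Dt_J a.2) _ (U.Dt_J b.2))⟩⟩
  have hcyc : ¬ IsCyclic U.Dt := fun h => by
    obtain ⟨d, hd⟩ := IsCyclic.exists_generator (α := U.Dt)
    have h1 : orderOf d ∣ 3 := orderOf_dvd_of_pow_eq_one (Subtype.ext (D.J_exp _ (U.Dt_J d.2)))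
    rw [orderOf_eq_card_of_forall_mem_zpowers hd, U.card_Dt] at h1
    norm_num at h1
  have hcop : (Nat.card U.Dt).Coprime (Nat.card N) := by
    rw [U.card_Dt, show 9 = 3 ^ 2 from rfl]
    exact Nat.Coprime.pow_left 2 ((Nat.Prime.coprime_iff_not_dvd Nat.prime_three).2 h3)
  haveI := hcomm
  have hgen := CfsgLib.coprime_generated_by_centralizers hcyc
    (fun x _ => by rw [normalizer_eq_top]; exact mem_top x) hcop
  -- centralizers of the four lines are trivial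
  have hz : ∀ x ∈ N, x * D.z = D.z * x → x = 1 := fun x hx h => U.cent_z_trivial h3 hx h
  have hy : ∀ x ∈ N, x * U.F.y = U.F.y * x → x = 1 := by
    intro x hx h
    have h1 := hz ((U.g : G)⁻¹ * x * (U.g : G)) (by simpa using hNn.conj_mem x hx (U.g : G)⁻¹) (by
      rw [← U.g_z] at h
      calc (U.g : G)⁻¹ * x * (U.g : G) * D.z
          = (U.g : G)⁻¹ * (x * ((U.g : G) * D.z * (U.g : G)⁻¹)) * (U.g : G) := by group
        _ = _ := by rw [h]; group)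
    rw [show x = (U.g : G) * ((U.g : G)⁻¹ * x * (U.g : G)) * (U.g : G)⁻¹ by group, h1]
    group
  have hp : ∀ x ∈ N, x * U.yp = U.yp * x → x = 1 := fun x hx h =>
    U.normal_eq_one h3 hx fun j hj => mul_mem
      ((Subgroup.mem_normalizer_iff.1 (hc (mem_centralizer_singleton_iff.2 h)) j).1 hj) (inv_mem hj)
  have hm : ∀ x ∈ N, x * (D.z * U.F.y⁻¹) = D.z * U.F.y⁻¹ * x → x = 1 := by
    intro x hx h
    have e : U.F.k * U.yp * U.F.k⁻¹ = D.z * U.F.y⁻¹ := by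
      rw [show U.F.k * (D.z * U.F.y) * U.F.k⁻¹ = U.F.k * D.z * U.F.k⁻¹ * (U.F.k * U.F.y * U.F.k⁻¹) by group,
        U.F.k_z, mul_inv_cancel_right, U.F.k_y]
    rw [← e] at h
    have h1 := hp (U.F.k⁻¹ * x * U.F.k) (by simpa using hNn.conj_mem x hx U.F.k⁻¹) (by
      calc U.F.k⁻¹ * x * U.F.k * U.yp = U.F.k⁻¹ * (x * (U.F.k * U.yp * U.F.k⁻¹)) * U.F.k := by group
        _ = _ := by rw [h]; group)
    rw [show x = U.F.k * (U.F.k⁻¹ * x * U.F.k) * U.F.k⁻¹ by group, h1]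
    group
  rw [← le_bot_iff, ← hgen]
  refine iSup₂_le fun a ha => ?_
  intro x hx
  rw [Subgroup.mem_bot]
  obtain ⟨hxN, hxa'⟩ := hx
  have hxa : Commute x a := mem_centralizer_singleton_iff.1 hxa'
  obtain ⟨i, j, rfl⟩ := U.mem_dt ha.1.1 (mem_centralizer_singleton_iff.1 ha.1.2)
  rw [pow_eq_pow_mod i D.z_cube, pow_eq_pow_mod j U.F.y_cube] at hxa
  have hne : ¬(i % 3 = 0 ∧ j % 3 = 0) := fun h => ha.2 (by
    rw [pow_eq_pow_mod i D.z_cube, pow_eq_pow_mod j U.F.y_cube, h.1, h.2, pow_zero, pow_zero, one_mul])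
  have hzy : Commute D.z U.F.y := U.F.y_z.symm
  have hz2 : D.z ^ 2 = D.z⁻¹ := (inv_eq_of_mul_eq_one_left (by rw [← pow_succ]; exact D.z_cube)).symm
  have hy2 : U.F.y ^ 2 = U.F.y⁻¹ := (inv_eq_of_mul_eq_one_left (by rw [← pow_succ]; exact U.F.y_cube)).symm
  have hyi : U.F.y⁻¹⁻¹ = U.F.y := inv_inv _
  obtain hi | hi | hi : i % 3 = 0 ∨ i % 3 = 1 ∨ i % 3 = 2 := by omega
  all_goals obtain hj | hj | hj : j % 3 = 0 ∨ j % 3 = 1 ∨ j % 3 = 2 := by omega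
  all_goals rw [hi, hj] at hxa
  all_goals simp only [pow_zero, pow_one, one_mul, mul_one, hz2, hy2] at hxa
  · exact absurd ⟨hi, hj⟩ hne
  · exact hy x hxN hxa.eq
  · exact hy x hxN (by simpa using hxa.inv_right.eq)
  · exact hz x hxN hxa.eq
  · exact hp x hxN hxa.eq
  · exact hm x hxN hxa.eq
  · exact hz x hxN (by simpa using hxa.inv_right.eq)
  · refine hm x hxN ?_
    have h := hxa.inv_right
    rw [mul_inv_rev, inv_inv, (hzy.inv_right).symm.eq] at h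
    exact h.eq
  · refine hp x hxN ?_
    have h := hxa.inv_right
    rw [mul_inv_rev, inv_inv, inv_inv, hzy.symm.eq] at h
    exact h.eq

theorem not_central [Finite G] {x : G} (hx : x ∈ D.Q) (hne : x ∉ D.Zc) : x * U.F.t ≠ U.F.t * x := fun h =>
  hne (D.centQ U.F.t_L₀ U.F.t_sq U.F.t_φ hx h)

theorem exists_Q_not_Zc [Finite G] : ∃ x ∈ D.Q, x ∉ D.Zc := by
  by_contra h
  push Not at h
  have := card_le_of_le (show D.Q ≤ D.Zc from h)
  rw [D.Q_card, D.card_Zc] at this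
  omega

end Full

end CfsgLib.McLThree
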