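import Cfsg.Agent.Lib.McLThree.Bar
import Cfsg.Agent.Lib.McLThree.OddCore
import Cfsg.Agent.S3334

/-!
The double cover of the alternating group of degree eight, and the simple case.
-/

set_option autoImplicit false
set_option synthInstance.maxSize 2000

namespace CfsgLib.McLThree

open Subgroup Equiv Equiv.Perm

universe u

theorem center_a8 : Subgroup.center (alternatingGroup (Fin 8)) = ⊥ :=
  alternatingGroup.center_eq_bot (by rw [Nat.card_fin]; norm_num)

/-- A central extension of `A8` by an involution that is a square is a non-split double cover. -/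
theorem double_cover_of {H : Type*} [Group H] [Finite H] (f : H →* alternatingGroup (Fin 8))
    (hs : Function.Surjective f) {τ κ : H} (hτ : ∀ x, x * τ = τ * x) (hτ1 : τ ≠ 1)
    (hk : ∀ x, f x = 1 ↔ x = 1 ∨ x = τ) (hκ : κ * κ = τ) :
    Cfsg.IsNonsplitDoubleCover H (alternatingGroup (Fin 8)) := by
  have hcen : Subgroup.center H = f.ker := by
    ext x
    rw [MonoidHom.mem_ker]
    constructor
    · intro hx
      have hm : f x ∈ Subgroup.center (alternatingGroup (Fin 8)) := Subgroup.mem_center_iff.2 fun w => by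
        obtain ⟨v, rfl⟩ := hs w
        rw [← map_mul, ← map_mul, Subgroup.mem_center_iff.1 hx v]
      rw [center_a8, Subgroup.mem_bot] at hm
      exact hm
    · intro hx
      rcases (hk x).1 hx with e | e
      · rw [e]; exact one_mem _
      · rw [e]; exact Subgroup.mem_center_iff.2 hτ
  have hτ2 : τ * τ = 1 := by
    rcases (hk (τ * τ)).1 (by rw [map_mul, (hk τ).2 (Or.inr rfl), one_mul]) with e | e
    · exact e
    · exact absurd (mul_eq_left.1 e) hτ1
  have hker : f.ker = zpowers τ := by
    refine le_antisymm (fun x hx => ?_) (zpowers_le.2 ((hk τ).2 (Or.inr rfl)))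
    rcases (hk x).1 hx with e | e
    · rw [e]; exact one_mem _
    · rw [e]; exact mem_zpowers τ
  have hc2 : Nat.card (Subgroup.center H) = 2 := by
    rw [hcen, hker, Nat.card_zpowers, orderOf_eq_prime (p := 2) (by rw [pow_two]; exact hτ2) hτ1]
  refine ⟨hc2, ⟨(QuotientGroup.quotientMulEquivOfEq hcen).trans (QuotientGroup.quotientKerEquivOfSurjective f hs)⟩,
    fun L hL => ?_⟩
  have hidx : L.index = 2 := by rw [hL.index_eq_card, hc2]
  have hτL : τ ∈ L := hκ ▸ Subgroup.mul_self_mem_of_index_two hidx κ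
  have hτC : τ ∈ Subgroup.center H := by rw [hcen]; exact (hk τ).2 (Or.inr rfl)
  have h := disjoint_def.1 hL.disjoint hτC hτL
  exact hτ1 h

namespace Full

variable {G : Type u} [Group G] {D : Setting G} (U : Full D)

include U

theorem Ct_ne_top [Finite G] : U.Ct ≠ ⊤ := fun e => by
  obtain ⟨x, hx, hne⟩ := U.exists_Q_not_Zc
  exact U.not_central hx hne (mem_centralizer_singleton_iff.1 (e.ge (mem_top x)))

theorem t_ord [Finite G] : orderOf U.F.t = 2 := orderOf_eq_prime (by rw [pow_two]; exact U.F.t_sq) U.F.t_ne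

/-- The simple case. -/
theorem nonempty_McL [Finite G] (hc : centralizer ({U.yp} : Set G) ≤ normalizer (D.J : Set G))
    (hI : ∀ x ∈ U.CD, x ∈ U.Dt ∨ x * U.F.t ∈ U.Dt) : Nonempty (G ≃* Cfsg.Spor.McL) := by
  obtain ⟨e⟩ := U.bar_A8 hc hI
  have hcov : Cfsg.IsNonsplitDoubleCover U.Ct (alternatingGroup (Fin 8)) :=
    double_cover_of (e.toMonoidHom.comp U.bar) (e.surjective.comp (QuotientGroup.mk'_surjective _))
      (τ := ⟨U.F.t, U.t_Ct⟩) (κ := ⟨U.F.k, mem_centralizer_singleton_iff.2 U.F.k_t⟩)
      (fun x => Subtype.ext (mem_centralizer_singleton_iff.1 x.2)) (fun h => U.F.t_ne (congrArg Subtype.val h))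
      (fun x => (MulEquiv.map_eq_one_iff e).trans (U.bar_one.trans
        ⟨fun h => h.imp (fun e' => Subtype.ext e') (fun e' => Subtype.ext e'),
          fun h => h.imp (fun e' => congrArg Subtype.val e') (fun e' => congrArg Subtype.val e')⟩))
      (Subtype.ext U.F.k_sq)
  rcases Cfsg.Agent.S3334.result U.F.t U.t_ord hcov with h | h
  · rw [U.odd_bot hc, sup_bot_eq] at h
    exact absurd h U.Ct_ne_top
  · exact h

end Full

end CfsgLib.McLThree
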