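import Cfsg.Agent.Lib.McLThree.IndexTwo
import Cfsg.Agent.Lib.McLThree.Cover
import Cfsg.Agent.S2073

/-!
The case of the automorphism group.
-/

set_option autoImplicit false
set_option synthInstance.maxSize 2000
set_option maxRecDepth 20000

namespace CfsgLib.McLThree

open Subgroup Equiv Equiv.Perm

universe u

/-- The odd core of a normal subgroup with trivial odd core above is trivial. -/
theorem odd_normal_bot {G : Type u} [Group G] [Finite G] (M : Subgroup G) [M.Normal] (h : Cfsg.oddCore G = ⊥) :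
    Cfsg.oddCore M = ⊥ := by
  have hn : ((Cfsg.oddCore M).map M.subtype).Normal := ⟨by
    rintro _ ⟨v, hv, rfl⟩ g
    exact ⟨MulAut.conjNormal g v,
      (CfsgLib.pPrimeCore_map_equiv 2 (MulAut.conjNormal g : MulAut M)).le ⟨v, hv, rfl⟩,
      MulAut.conjNormal_apply g v⟩⟩
  haveI := hn
  have hle : (Cfsg.oddCore M).map M.subtype ≤ Cfsg.oddCore G := CfsgLib.le_oddCore (by
    rw [card_map_of_injective Subtype.val_injective]; exact CfsgLib.odd_card_oddCore)
  rw [h, le_bot_iff, map_eq_bot_iff_of_injective _ Subtype.val_injective] at hle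
  exact hle

/-- A group containing McL with index two and with trivial centralizer is the automorphism group. -/
theorem aut_of_index_two {G : Type u} [Group G] [Finite G] (M : Subgroup G) [M.Normal] (hi : M.index = 2)
    (e : M ≃* Cfsg.Spor.McL) (hna : ∃ a ∈ M, ∃ b ∈ M, a * b ≠ b * a)
    (hcen : ∀ c : G, (∀ x : G, c * x = x * c) → c = 1) : Nonempty (G ≃* MulAut Cfsg.Spor.McL) := by
  obtain ⟨e1⟩ := CfsgLeech.spor_mcl_equiv
  haveI := CfsgLeech.mcl_simple
  haveI : Nontrivial M := (e.trans e1).toEquiv.nontrivial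
  haveI : IsSimpleGroup M :=
    IsSimpleGroup.isSimpleGroup_of_surjective (H := M) (e.trans e1).symm.toMonoidHom (e.trans e1).symm.surjective
  have hZ : Subgroup.center M = ⊥ := by
    refine (IsSimpleGroup.eq_bot_or_eq_top_of_normal _ inferInstance).resolve_right fun h => ?_
    obtain ⟨a, ha, b, hb, hne⟩ := hna
    exact hne (congrArg Subtype.val (Subgroup.mem_center_iff.1 (h.ge (mem_top (⟨b, hb⟩ : M))) ⟨a, ha⟩))
  have hinjM : Function.Injective (MulAut.conj : M →* MulAut M) := (injective_iff_map_eq_one _).2 fun v hv => by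
    refine Subgroup.mem_bot.1 (hZ.le (Subgroup.mem_center_iff.2 fun w => ?_))
    have h : v * w * v⁻¹ = w := by
      have h' := DFunLike.congr_fun hv w
      exact h'
    exact (mul_inv_eq_iff_eq_mul.1 h).symm
  -- the centralizer of `M` is trivial
  have hC : ∀ v : G, (∀ x ∈ M, v * x = x * v) → v = 1 := by
    intro v hv
    have key : ∀ w : G, (∀ x ∈ M, w * x = x * w) → w ∈ M → w = 1 := fun w hw hwM =>
      congrArg Subtype.val (Subgroup.mem_bot.1 (hZ.le (Subgroup.mem_center_iff.2
        (fun x => Subtype.ext (hw x x.2).symm : ∀ x : M, x * ⟨w, hwM⟩ = ⟨w, hwM⟩ * x))))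
    by_cases hvM : v ∈ M
    · exact key v hv hvM
    have hmem : ∀ x : G, x ∈ M ∨ ∃ m ∈ M, x = v * m := fun x => by
      by_cases hx : x ∈ M
      · exact Or.inl hx
      · refine Or.inr ⟨v⁻¹ * x, (mul_mem_iff_of_index_two hi).2 (iff_of_false (fun h => hvM ?_) hx), by group⟩
        simpa using inv_mem h
    refine hcen v fun x => ?_
    rcases hmem x with h | ⟨m, hm, rfl⟩
    · exact hv x h
    · rw [mul_assoc v m v, ← hv m hm]
  have hinj : Function.Injective (MulAut.conjNormal : G →* MulAut M) := (injective_iff_map_eq_one _).2 fun v hv =>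
    hC v fun x hx => by
      have h' : ((MulAut.conjNormal v : MulAut M) ⟨x, hx⟩ : G) = x := by rw [hv]; rfl
      rw [MulAut.conjNormal_apply] at h'
      exact mul_inv_eq_iff_eq_mul.1 h'
  have hout : Nat.card (Cfsg.Out Cfsg.Spor.McL) = 2 := Cfsg.Agent.S2073.result
  let φ : MulAut M ≃* MulAut Cfsg.Spor.McL := MulAut.congr e
  have hinjL : Function.Injective (MulAut.conj : Cfsg.Spor.McL →* MulAut Cfsg.Spor.McL) := by
    intro a b h
    apply e.symm.injective
    apply hinjM
    apply MulEquiv.ext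
    intro w
    have h' := DFunLike.congr_fun h (e w)
    simp only [MulAut.conj_apply] at h' ⊢
    apply e.injective
    simpa [map_mul, map_inv] using h'
  have hcard : Nat.card (MulAut Cfsg.Spor.McL) = Nat.card G := by
    rw [Subgroup.card_eq_card_quotient_mul_card_subgroup (Cfsg.Inn Cfsg.Spor.McL), ← M.card_mul_index, hi,
      show Nat.card (MulAut Cfsg.Spor.McL ⧸ Cfsg.Inn Cfsg.Spor.McL) = 2 from hout,
      show Nat.card (Cfsg.Inn Cfsg.Spor.McL) = Nat.card M from
        (Nat.card_congr (MonoidHom.ofInjective hinjL).toEquiv).symm.trans (Nat.card_congr e.toEquiv).symm,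
      mul_comm]
  let ψ : G →* MulAut Cfsg.Spor.McL := φ.toMonoidHom.comp MulAut.conjNormal
  have hψ : Function.Injective ψ := φ.injective.comp hinj
  haveI : Finite (MulAut Cfsg.Spor.McL) := Nat.finite_of_card_ne_zero (by rw [hcard]; exact Nat.card_pos.ne')
  exact ⟨MulEquiv.ofBijective ψ ((Nat.bijective_iff_injective_and_card ψ).2 ⟨hψ, hcard.symm⟩)⟩

namespace Full

variable {G : Type u} [Group G] {D : Setting G} (U : Full D)

include U

/-- The case of the automorphism group. -/
theorem nonempty_Aut [Finite G] (hc : centralizer ({U.yp} : Set G) ≤ normalizer (D.J : Set G)) (E : U.Rot) :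
    Nonempty (G ≃* MulAut Cfsg.Spor.McL) := by
  obtain ⟨C, hτ, hk⟩ := U.exists_cov hc E
  obtain ⟨M, hMn, hMi, hmem⟩ := U.index_two hτ
  haveI := hMn
  have hsq : ∀ v : G, v * v ∈ M := fun v => Subgroup.mul_self_mem_of_index_two hMi v
  have hQM : ∀ q ∈ D.Q, q ∈ M := by
    intro q hq
    have h : q ^ 243 = 1 := by
      rw [← D.Q_card]
      exact congrArg Subtype.val (pow_card_eq_one' (x := (⟨q, hq⟩ : D.Q)))
    have h2 : q = q ^ 122 * q ^ 122 := by rw [← pow_add, show 122 + 122 = 243 + 1 from rfl, pow_succ, h, one_mul]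
    rw [h2]; exact hsq _
  have htM : U.F.t ∈ M := U.F.k_sq ▸ hsq _
  have hkM : U.F.k ∈ M := (hmem ⟨U.F.k, mem_centralizer_singleton_iff.2 U.F.k_t⟩).2 hk
  set tM : M := ⟨U.F.t, htM⟩
  set H1 := centralizer ({tM} : Set M)
  have hmemC : ∀ x : H1, ((x : M) : G) ∈ U.Ct := fun x =>
    mem_centralizer_singleton_iff.2 (congrArg Subtype.val (mem_centralizer_singleton_iff.1 x.2))
  let ι : H1 →* U.Ct := (M.subtype.comp H1.subtype).codRestrict U.Ct hmemC
  let f1 : H1 →* alternatingGroup (Fin 8) := (C.f.comp ι).codRestrict _ fun x =>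
    Perm.mem_alternatingGroup.2 ((hmem (ι x)).1 (x : M).2)
  have hs : Function.Surjective f1 := by
    rintro ⟨σ, hσ⟩
    obtain ⟨x, hx⟩ := C.surj σ
    have hxM : (x : G) ∈ M := (hmem x).2 (by rw [hx]; exact Perm.mem_alternatingGroup.1 hσ)
    exact ⟨⟨⟨(x : G), hxM⟩, mem_centralizer_singleton_iff.2 (Subtype.ext (mem_centralizer_singleton_iff.1 x.2))⟩,
      Subtype.ext hx⟩
  have hτc : ∀ x : H1, x * ⟨tM, mem_centralizer_singleton_iff.2 rfl⟩ = ⟨tM, mem_centralizer_singleton_iff.2 rfl⟩ * x :=
    fun x => Subtype.ext (mem_centralizer_singleton_iff.1 x.2)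
  have hker : ∀ x : H1, f1 x = 1 ↔ x = 1 ∨ x = ⟨tM, mem_centralizer_singleton_iff.2 rfl⟩ := by
    intro x
    rw [show f1 x = 1 ↔ C.f (ι x) = 1 from ⟨fun h => congrArg Subtype.val h, fun h => Subtype.ext h⟩, C.ker, hτ]
    refine or_congr ⟨fun h => ?_, fun h => ?_⟩ ⟨fun h => ?_, fun h => ?_⟩
    · exact Subtype.ext (Subtype.ext (congrArg Subtype.val h :))
    · rw [h, map_one]
    · exact Subtype.ext (Subtype.ext (congrArg Subtype.val h :))
    · rw [h]; rfl
  have hcov : Cfsg.IsNonsplitDoubleCover H1 (alternatingGroup (Fin 8)) :=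
    double_cover_of f1 hs hτc (fun h => U.F.t_ne (congrArg (fun v : H1 => ((v : M) : G)) h)) hker
      (κ := ⟨⟨U.F.k, hkM⟩, mem_centralizer_singleton_iff.2 (Subtype.ext U.F.k_t)⟩)
      (Subtype.ext (Subtype.ext U.F.k_sq))
  have htord : orderOf tM = 2 := (Subgroup.orderOf_coe tM).symm.trans U.t_ord
  obtain ⟨q, hqQ, hqZ⟩ := U.exists_Q_not_Zc
  have hne : centralizer ({tM} : Set M) ≠ ⊤ := fun h => U.not_central hqQ hqZ
    (congrArg Subtype.val (mem_centralizer_singleton_iff.1 (h.ge (mem_top (⟨q, hQM q hqQ⟩ : M)))))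
  rcases Cfsg.Agent.S3334.result tM htord hcov with h | h
  · rw [odd_normal_bot M (U.odd_bot hc), sup_bot_eq] at h
    exact absurd h hne
  obtain ⟨e⟩ := h
  refine aut_of_index_two M hMi e ?_ fun c hc' => ?_
  · by_contra h
    push Not at h
    exact hqZ (D.Q_centre q hqQ fun x hx => h q (hQM q hqQ) x (hQM x hx))
  · have hcQ : c ∈ D.Q := D.Q_self (mem_centralizer_iff.2 fun x _ => (hc' x).symm)
    by_cases hcZ : c ∈ D.Zc
    · obtain ⟨i, hi, rfl⟩ := D.mem_Zc.1 hcZ
      interval_cases i
      · exact pow_zero _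
      · exact absurd (hc' U.p) fun h => by
          rw [pow_one] at h
          have h3 := U.p_z
          rw [← h, mul_inv_cancel_right] at h3
          have h4 : D.z * D.z = 1 := by nth_rw 1 [h3]; exact inv_mul_cancel _
          have h5 := D.z_cube
          rw [pow_succ, pow_two, h4, one_mul] at h5
          exact D.z_ne h5
      · exact absurd (hc' U.p) fun h => by
          have h2 : D.z ^ 2 = D.z⁻¹ := (inv_eq_of_mul_eq_one_left (by rw [← pow_succ]; exact D.z_cube)).symm
          rw [h2] at h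
          have h3 := U.p_z
          have h4 : (U.p : G) * D.z * (U.p : G)⁻¹ = D.z := by
            have hh : Commute (U.p : G) D.z⁻¹ := h.symm
            rw [(Commute.inv_right_iff.1 hh).eq, mul_inv_cancel_right]
          rw [h4] at h3
          have h4' : D.z * D.z = 1 := by nth_rw 1 [h3]; exact inv_mul_cancel _
          have h5 := D.z_cube
          rw [pow_succ, pow_two, h4', one_mul] at h5
          exact D.z_ne h5
    · exact absurd (hc' U.F.t) (U.not_central hcQ hcZ)

end Full

end CfsgLib.McLThree
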