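import Cfsg.Agent.Lib.McLThree.ND

/-!
Orders of the subgroups around the Sylow subgroup of the centralizer of `t`.
-/

set_option autoImplicit false

namespace CfsgLib.McLThree

open Subgroup

universe u

set_option maxRecDepth 100000 in
theorem rot_ne : R2 ≠ I2 ∧ R2.neg ≠ I2 ∧ I2.neg ≠ I2 ∧ R2.neg.mul R2 = I2 ∧ I2.neg.mul R2 = R2.neg := by
  decide +kernel

namespace Full

variable {G : Type u} [Group G] {D : Setting G} (U : Full D)

include U

theorem Dt_comm [Finite G] {d c : G} (hd : d ∈ U.Dt) (hc : c ∈ U.CD) : c * d = d * c := by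
  obtain ⟨hz, hy, -⟩ := U.mem_CD.1 hc
  obtain ⟨a, b, rfl⟩ := U.mem_dt hd.1 (mem_centralizer_singleton_iff.1 hd.2)
  exact (((show Commute c D.z from hz).pow_right a).mul_right ((show Commute c U.F.y from hy).pow_right b)).eq

theorem t_not_Dt [Finite G] : U.F.t ∉ U.Dt := fun h =>
  rot_ne.2.2.1 (U.mat_unique U.mat_t (U.mat_J (U.Dt_J h)))

theorem card_CD_aux [Finite G] {e : G} (he : e ∈ U.CD) {N : ℕ}
    (hN : ∀ n, 0 < n → n < N → e ^ n ∉ U.Dt) (hcov : ∀ x ∈ U.CD, ∃ n < N, x * (e ^ n)⁻¹ ∈ U.Dt) :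
    Nat.card U.CD = 9 * N := by
  let f : U.Dt × Fin N → U.CD := fun p => ⟨p.1 * e ^ p.2.val, mul_mem (U.Dt_CD p.1.2) (pow_mem he _)⟩
  have hdiff : ∀ d d' : U.Dt, ∀ n n' : ℕ, n ≤ n' → n' < N → (d : G) * e ^ n = d' * e ^ n' → n = n' := by
    intro d d' n n' hle hlt h
    by_contra hne
    refine hN (n' - n) (by omega) (by omega) ?_
    obtain ⟨m, rfl⟩ := Nat.exists_eq_add_of_le hle
    rw [Nat.add_sub_cancel_left]
    have h1 : e ^ m = (d' : G)⁻¹ * d := by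
      rw [add_comm n m, pow_add, ← mul_assoc] at h
      rw [mul_right_cancel h, inv_mul_cancel_left]
    rw [h1]
    exact mul_mem (inv_mem d'.2) d.2
  have hf : Function.Bijective f := by
    refine ⟨fun p q h => ?_, fun x => ?_⟩
    · have h' : (p.1 : G) * e ^ p.2.val = q.1 * e ^ q.2.val := congrArg Subtype.val h
      have hn : p.2.val = q.2.val := by
        rcases le_total p.2.val q.2.val with hle | hle
        · exact hdiff _ _ _ _ hle q.2.2 h'
        · exact (hdiff _ _ _ _ hle p.2.2 h'.symm).symm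
      rw [hn] at h'
      exact Prod.ext (Subtype.ext (mul_right_cancel h')) (Fin.ext hn)
    · obtain ⟨n, hn, hx⟩ := hcov x x.2
      exact ⟨(⟨_, hx⟩, ⟨n, hn⟩), Subtype.ext (inv_mul_cancel_right _ _)⟩
  rw [← Nat.card_eq_of_bijective f hf, Nat.card_prod, Nat.card_fin, U.card_Dt]

theorem card_CD_I [Finite G] (h : ∀ x ∈ U.CD, x ∈ U.Dt ∨ x * U.F.t ∈ U.Dt) : Nat.card U.CD = 18 := by
  refine U.card_CD_aux U.t_CD (N := 2) (fun n h0 h2 => ?_) fun x hx => ?_
  · rw [show n = 1 by omega, pow_one]; exact U.t_not_Dt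
  · rcases h x hx with e | e
    · exact ⟨0, by norm_num, by simpa using e⟩
    · exact ⟨1, by norm_num, by rwa [pow_one, U.F.t_inv]⟩

theorem card_CD_II [Finite G] (E : U.Rot) : Nat.card U.CD = 36 := by
  refine U.card_CD_aux E.mem (N := 4) (fun n h0 h4 hd => ?_) fun x hx => U.rot_mem E hx
  have hm := U.mat_J (U.Dt_J hd)
  have ht : E.e ^ 2 = U.F.t := by rw [pow_two, E.sq]
  interval_cases n
  · rw [pow_one] at hm
    exact rot_ne.1 (U.mat_unique E.mat hm)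
  · rw [ht] at hd
    exact U.t_not_Dt hd
  · rw [pow_succ, ht] at hm
    have h := U.mat_unique (U.mat_mul U.mat_t E.mat) hm
    rw [rot_ne.2.2.2.2] at h
    exact rot_ne.2.1 h

/-- The eight cosets. -/
def rep8 (p : Fin 2 × Fin 2 × Fin 2) : G := (U.g : G) ^ p.1.val * U.F.k ^ p.2.1.val * U.k' ^ p.2.2.val

theorem rep8_ND [Finite G] (p : Fin 2 × Fin 2 × Fin 2) : U.rep8 p ∈ U.ND :=
  mul_mem (mul_mem (pow_mem U.g_ND _) (pow_mem U.k_ND _)) (pow_mem U.k'_ND _)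

omit U in
/-- The exponents of the image of `z`. -/
def imgZ (p : Fin 2 × Fin 2 × Fin 2) : ℕ × ℕ :=
  if p.1 = 0 then (if p.2.2 = 0 then 1 else 2, 0) else (0, if p.2.2 = 0 then 1 else 2)

omit U in
/-- The exponents of the image of `y`. -/
def imgY (p : Fin 2 × Fin 2 × Fin 2) : ℕ × ℕ :=
  if p.1 = 0 then (0, if p.2.1 = 0 then 1 else 2) else (if p.2.1 = 0 then 1 else 2, 0)

omit U in
theorem img_inj : ∀ p q : Fin 2 × Fin 2 × Fin 2, imgZ p = imgZ q → imgY p = imgY q → p = q := by decide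

theorem rep8_img [Finite G] (p : Fin 2 × Fin 2 × Fin 2) {d : G} (hd : d ∈ U.CD) :
    U.rep8 p * d * D.z * (U.rep8 p * d)⁻¹ = D.z ^ (imgZ p).1 * U.F.y ^ (imgZ p).2 ∧
      U.rep8 p * d * U.F.y * (U.rep8 p * d)⁻¹ = D.z ^ (imgY p).1 * U.F.y ^ (imgY p).2 := by
  obtain ⟨hdz, hdy, -⟩ := U.mem_CD.1 hd
  obtain ⟨a, b, c⟩ := p
  have hz2 : D.z⁻¹ = D.z ^ 2 := inv_eq_of_mul_eq_one_left (by rw [← pow_succ]; exact D.z_cube)
  have hy2 : U.F.y⁻¹ = U.F.y ^ 2 := inv_eq_of_mul_eq_one_left (by rw [← pow_succ]; exact U.F.y_cube)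
  have hkz : U.F.k * D.z * U.F.k⁻¹ = D.z := by rw [U.F.k_z, mul_inv_cancel_right]
  have hkzi : U.F.k * D.z⁻¹ * U.F.k⁻¹ = D.z⁻¹ := by rw [← conj_inv, hkz]
  refine ⟨?_, ?_⟩
  · rw [show U.rep8 (a, b, c) * d * D.z * (U.rep8 (a, b, c) * d)⁻¹ = (U.g : G) ^ a.val * (U.F.k ^ b.val *
      (U.k' ^ c.val * (d * D.z * d⁻¹) * (U.k' ^ c.val)⁻¹) * (U.F.k ^ b.val)⁻¹) * ((U.g : G) ^ a.val)⁻¹ by
      simp only [rep8]; group, hdz, mul_inv_cancel_right]
    have hk'z := U.k'_z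
    generalize U.k' = w at hk'z ⊢
    fin_cases a <;> fin_cases b <;> fin_cases c <;>
      simp [imgZ, hk'z, hkz, hkzi, U.g_z, ← conj_inv, ← hz2, ← hy2]
  · rw [show U.rep8 (a, b, c) * d * U.F.y * (U.rep8 (a, b, c) * d)⁻¹ = (U.g : G) ^ a.val * (U.F.k ^ b.val *
      (U.k' ^ c.val * (d * U.F.y * d⁻¹) * (U.k' ^ c.val)⁻¹) * (U.F.k ^ b.val)⁻¹) * ((U.g : G) ^ a.val)⁻¹ by
      simp only [rep8]; group, hdy, mul_inv_cancel_right]
    have hk'y := U.k'_y
    generalize U.k' = w at hk'y ⊢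
    fin_cases a <;> fin_cases b <;> fin_cases c <;>
      simp [imgY, hk'y, U.F.k_y, U.g_y, ← conj_inv, ← hz2, ← hy2]

theorem card_ND [Finite G] : Nat.card U.ND = 8 * Nat.card U.CD := by
  let f : (Fin 2 × Fin 2 × Fin 2) × U.CD → U.ND := fun p => ⟨U.rep8 p.1 * p.2, mul_mem (U.rep8_ND p.1) (U.CD_ND p.2.2)⟩
  have hf : Function.Bijective f := by
    refine ⟨fun p q h => ?_, fun x => ?_⟩
    · have h' : U.rep8 p.1 * p.2 = U.rep8 q.1 * q.2 := congrArg Subtype.val h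
      obtain ⟨hp1, hp2⟩ := U.rep8_img p.1 p.2.2
      obtain ⟨hq1, hq2⟩ := U.rep8_img q.1 q.2.2
      rw [h'] at hp1 hp2
      obtain ⟨e1, e2⟩ := U.coord_inj (hp1.symm.trans hq1)
      obtain ⟨e3, e4⟩ := U.coord_inj (hp2.symm.trans hq2)
      have hlt : ∀ r, (imgZ r).1 < 3 ∧ (imgZ r).2 < 3 ∧ (imgY r).1 < 3 ∧ (imgY r).2 < 3 := by decide
      obtain ⟨l1, l2, l3, l4⟩ := hlt p.1
      obtain ⟨r1, r2, r3, r4⟩ := hlt q.1
      rw [Nat.mod_eq_of_lt l1, Nat.mod_eq_of_lt r1] at e1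
      rw [Nat.mod_eq_of_lt l2, Nat.mod_eq_of_lt r2] at e2
      rw [Nat.mod_eq_of_lt l3, Nat.mod_eq_of_lt r3] at e3
      rw [Nat.mod_eq_of_lt l4, Nat.mod_eq_of_lt r4] at e4
      have hpq := img_inj p.1 q.1 (Prod.ext e1 e2) (Prod.ext e3 e4)
      rw [hpq] at h'
      exact Prod.ext hpq (Subtype.ext (mul_left_cancel h'))
    · obtain ⟨a, b, c, d, hd, e⟩ := U.ND_split x.2
      exact ⟨((a, b, c), ⟨d, hd⟩), Subtype.ext e.symm⟩
  rw [← Nat.card_eq_of_bijective f hf]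
  simp only [Nat.card_prod, Nat.card_fin]

/-- The centralizer of the diagonal element and of `t`. -/
abbrev Cyp : Subgroup G := centralizer ({U.yp} : Set G) ⊓ centralizer ({U.F.t} : Set G)

theorem CD_Cyp [Finite G] : U.CD ≤ U.Cyp := fun x hx => by
  obtain ⟨hz, hy, ht⟩ := U.mem_CD.1 hx
  exact ⟨mem_centralizer_singleton_iff.2 ((show Commute x D.z from hz).mul_right (show Commute x U.F.y from hy)).eq,
    mem_centralizer_singleton_iff.2 ht⟩

theorem g_Cyp [Finite G] : (U.g : G) ∈ U.Cyp :=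
  ⟨mem_centralizer_singleton_iff.2 U.g_yp, mem_centralizer_singleton_iff.2 U.g_t⟩

theorem g_not_CD [Finite G] : (U.g : G) ∉ U.CD := fun h => by
  have h1 := U.g_z
  rw [(U.mem_CD.1 h).1, mul_inv_cancel_right] at h1
  exact U.F.y_not_Q (h1 ▸ D.z_Q)

theorem card_Cyp [Finite G] (hc : centralizer ({U.yp} : Set G) ≤ normalizer (D.J : Set G)) :
    Nat.card U.Cyp = 2 * Nat.card U.CD := by
  let f : Fin 2 × U.CD → U.Cyp := fun p =>
    ⟨(U.g : G) ^ p.1.val * p.2, mul_mem (pow_mem U.g_Cyp _) (U.CD_Cyp p.2.2)⟩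
  have hf : Function.Bijective f := by
    refine ⟨fun p q h => ?_, fun x => ?_⟩
    · have h' : (U.g : G) ^ p.1.val * p.2 = (U.g : G) ^ q.1.val * q.2 := congrArg Subtype.val h
      have e : p.1 = q.1 := by
        by_contra hne
        refine U.g_not_CD ?_
        obtain ⟨hp, hq⟩ | ⟨hp, hq⟩ : (p.1 = 0 ∧ q.1 = 1) ∨ (p.1 = 1 ∧ q.1 = 0) := by omega
        · rw [hp, hq] at h'
          simp only [Fin.val_zero, pow_zero, one_mul, Fin.val_one, pow_one] at h'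
          have := mul_mem p.2.2 (inv_mem q.2.2)
          rwa [h', mul_inv_cancel_right] at this
        · rw [hp, hq] at h'
          simp only [Fin.val_zero, pow_zero, one_mul, Fin.val_one, pow_one] at h'
          have := mul_mem q.2.2 (inv_mem p.2.2)
          rwa [← h', mul_inv_cancel_right] at this
      rw [e] at h'
      exact Prod.ext e (Subtype.ext (mul_left_cancel h'))
    · rcases U.cent_yp_t hc (mem_centralizer_singleton_iff.1 x.2.1) (mem_centralizer_singleton_iff.1 x.2.2) with h | h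
      · exact ⟨(0, ⟨_, h⟩), Subtype.ext (by simp [f])⟩
      · exact ⟨(1, ⟨_, h⟩), Subtype.ext (by simp [f])⟩
  rw [← Nat.card_eq_of_bijective f hf, Nat.card_prod, Nat.card_fin]

/-- The elements of the Sylow subgroup times powers of `t`. -/
def Dtt [Finite G] : Subgroup G where
  carrier := {x | ∃ d ∈ U.Dt, ∃ n : ℕ, x = d * U.F.t ^ n}
  one_mem' := ⟨1, one_mem _, 0, by simp⟩
  mul_mem' := by
    rintro _ _ ⟨d, hd, n, rfl⟩ ⟨d', hd', n', rfl⟩
    refine ⟨d * d', mul_mem hd hd', n + n', ?_⟩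
    have h : Commute (U.F.t ^ n) d' := (show Commute U.F.t d' from (mem_centralizer_singleton_iff.1 hd'.2).symm).pow_left n
    rw [show d * U.F.t ^ n * (d' * U.F.t ^ n') = d * (U.F.t ^ n * d') * U.F.t ^ n' by group, h.eq, pow_add]
    group
  inv_mem' := by
    rintro _ ⟨d, hd, n, rfl⟩
    refine ⟨d⁻¹, inv_mem hd, n, ?_⟩
    have h : Commute (U.F.t ^ n) d⁻¹ :=
      ((show Commute U.F.t d from (mem_centralizer_singleton_iff.1 hd.2).symm).inv_right).pow_left n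
    rw [mul_inv_rev, ← inv_pow, U.F.t_inv, h.eq]

theorem CD_comm_II [Finite G] (E : U.Rot) {a b : G} (ha : a ∈ U.CD) (hb : b ∈ U.CD) : a * b = b * a := by
  obtain ⟨n, -, hn⟩ := U.rot_mem E ha
  obtain ⟨m, -, hm⟩ := U.rot_mem E hb
  have h1 : Commute (a * (E.e ^ n)⁻¹) b := (U.Dt_comm hn hb).symm
  have h2 : Commute (E.e ^ n) b := by
    rw [show b = b * (E.e ^ m)⁻¹ * E.e ^ m by group]
    exact (show Commute (E.e ^ n) (b * (E.e ^ m)⁻¹) from U.Dt_comm hm (pow_mem E.mem n)).mul_right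
      ((Commute.refl E.e).pow_pow n m)
  have := h1.mul_left h2
  rwa [inv_mul_cancel_right] at this

theorem sq_Cyp [Finite G] (hc : centralizer ({U.yp} : Set G) ≤ normalizer (D.J : Set G)) (E : U.Rot) {x : G}
    (hx : x ∈ U.Cyp) : x * x ∈ U.Dtt := by
  have hconj : ∀ c ∈ U.CD, (U.g : G) * c * (U.g : G)⁻¹ ∈ U.CD := by
    intro c hc'
    obtain ⟨hz, hy, ht⟩ := U.mem_CD.1 hc'
    have hgt : Commute (U.g : G) U.F.t := U.g_t
    refine U.mem_CD.2 ⟨?_, ?_, ((hgt.mul_left (show Commute c U.F.t from ht)).mul_left hgt.inv_left).eq⟩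
    · rw [← U.g_y]
      calc (U.g : G) * c * (U.g : G)⁻¹ * ((U.g : G) * U.F.y * (U.g : G)⁻¹) = (U.g : G) * (c * U.F.y) * (U.g : G)⁻¹ := by
            group
        _ = _ := by rw [hy]; group
    · rw [← U.g_z]
      calc (U.g : G) * c * (U.g : G)⁻¹ * ((U.g : G) * D.z * (U.g : G)⁻¹) = (U.g : G) * (c * D.z) * (U.g : G)⁻¹ := by group
        _ = _ := by rw [hz]; group
  have hDt : U.Dt ≤ U.Dtt := fun d hd => ⟨d, hd, 0, by simp⟩
  have htt : U.F.t ∈ U.Dtt := ⟨1, one_mem _, 1, by simp⟩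
  set e' := (U.g : G) * E.e * (U.g : G)⁻¹
  have he' : e' * E.e ∈ U.Dtt := by
    obtain ⟨n, hn4, hn⟩ := U.rot_mem E (hconj _ E.mem)
    set d := e' * (E.e ^ n)⁻¹
    have hde : Commute d (E.e ^ n) := (U.Dt_comm hn (pow_mem E.mem n)).symm
    have hgt : Commute (U.g : G) U.F.t := U.g_t
    have hsq : e' * e' = U.F.t := by
      rw [show e' * e' = (U.g : G) * (E.e * E.e) * (U.g : G)⁻¹ by simp only [e']; group, E.sq, hgt.eq,
        mul_inv_cancel_right]
    have h2 : d * d * U.F.t ^ n = U.F.t := by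
      refine Eq.trans (Eq.symm ?_) hsq
      rw [show e' = d * E.e ^ n by simp only [d]; group,
        show d * E.e ^ n * (d * E.e ^ n) = d * (E.e ^ n * d) * E.e ^ n by group, ← hde.eq,
        show d * (d * E.e ^ n) * E.e ^ n = d * d * (E.e ^ n * E.e ^ n) by group, ← (Commute.refl E.e).mul_pow, E.sq]
    rcases Nat.even_or_odd' n with ⟨m, rfl | rfl⟩
    · exfalso
      rw [pow_mul, pow_two, U.F.t_sq, one_pow, mul_one] at h2
      exact U.t_not_Dt (h2 ▸ mul_mem hn hn)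
    · refine ⟨d, hn, m + 1, ?_⟩
      rw [← E.sq, ← pow_two, ← pow_mul, show 2 * (m + 1) = 2 * m + 1 + 1 by ring, pow_succ, ← mul_assoc]
      simp only [d, inv_mul_cancel_right]
  rcases U.cent_yp_t hc (mem_centralizer_singleton_iff.1 hx.1) (mem_centralizer_singleton_iff.1 hx.2) with h | h
  · obtain ⟨n, -, hn⟩ := U.rot_mem E h
    set d := x * (E.e ^ n)⁻¹
    have hde : Commute d (E.e ^ n) := (U.Dt_comm hn (pow_mem E.mem n)).symm
    refine ⟨d * d, mul_mem hn hn, n, ?_⟩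
    rw [show x = d * E.e ^ n by simp only [d]; group,
      show d * E.e ^ n * (d * E.e ^ n) = d * (E.e ^ n * d) * E.e ^ n by group, ← hde.eq,
      show d * (d * E.e ^ n) * E.e ^ n = d * d * (E.e ^ n * E.e ^ n) by group, ← (Commute.refl E.e).mul_pow, E.sq]
  · set c := (U.g : G)⁻¹ * x
    have hg2 : (U.g : G) * U.g ∈ U.Dt := ⟨D.J_le U.g_sq_J, mem_centralizer_singleton_iff.2
      ((show Commute (U.g : G) U.F.t from U.g_t).mul_left (show Commute (U.g : G) U.F.t from U.g_t)).eq⟩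
    have e0 : x * x = ((U.g : G) * c * (U.g : G)⁻¹) * ((U.g : G) * U.g) * c := by simp only [c]; group
    rw [e0, U.Dt_comm hg2 (hconj c h), mul_assoc]
    refine mul_mem (hDt hg2) ?_
    obtain ⟨n, -, hn⟩ := U.rot_mem E h
    set d := c * (E.e ^ n)⁻¹
    have e1 : c = d * E.e ^ n := by simp only [d]; group
    have hgd : (U.g : G) * d * (U.g : G)⁻¹ ∈ U.Dt :=
      (Subgroup.mem_normalizer_iff.1 U.g_ND.1 d).1 hn
    rw [e1, show (U.g : G) * (d * E.e ^ n) * (U.g : G)⁻¹ * (d * E.e ^ n) =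
      (U.g : G) * d * (U.g : G)⁻¹ * ((((U.g : G) * E.e * (U.g : G)⁻¹) ^ n * d) * E.e ^ n) by rw [conj_pow]; group,
      U.Dt_comm hn (pow_mem (hconj _ E.mem) n),
      show d * e' ^ n * E.e ^ n = d * (e' ^ n * E.e ^ n) by group,
      ← (show Commute e' E.e from U.CD_comm_II E (hconj _ E.mem) E.mem).mul_pow]
    exact mul_mem (hDt hgd) (mul_mem (hDt hn) (pow_mem he' n))

end Full

end CfsgLib.McLThree
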