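import Cfsg.Agent.Lib.McLThree.Nz
import Cfsg.Agent.Lib.McLThree.Count
import Cfsg.Agent.Lib.A8ThreeLocal.Main
import Cfsg.Agent.Lib.S8ThreeLocal.AMain
import Cfsg.Agent.Lib.S8ThreeLocal.BMain

/-!
The centralizer of `t` modulo `t`.
-/

set_option autoImplicit false
set_option synthInstance.maxSize 2000

namespace CfsgLib.McLThree

open Subgroup Equiv Equiv.Perm CfsgLib.A8ThreeLocal CfsgLib.S8ThreeLocal

universe u

set_option maxRecDepth 100000 in
theorem a5_centralizer : ∀ a : alternatingGroup (Fin 5), a ≠ 1 → ∀ x, x * a = a * x → ∀ y, y * a = a * y →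
    x * y = y * x := by decide +kernel

set_option maxRecDepth 100000 in
theorem s5_centralizer : ∀ σ : Perm (Fin 5), (∀ τ : Perm (Fin 5), sign τ = 1 → σ * τ = τ * σ) → σ = 1 := by
  decide +kernel

theorem card_ker_sign35 :
    Nat.card (((Equiv.Perm.sign).comp ((MonoidHom.fst (Perm (Fin 3)) (Perm (Fin 5))).comp M35.subtype)).ker) = 180 ∧
      Nat.card M35 = 360 := by
  have hs : Function.Surjective sgn35 := fun e => by
    rcases Int.units_eq_one_or e with rfl | rfl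
    · exact ⟨1, map_one _⟩
    · exact ⟨(swap 0 1, 1), by decide +kernel⟩
  have h := M35.card_mul_index
  rw [Subgroup.index_ker, MonoidHom.range_eq_top.2 hs, Subgroup.card_top, Nat.card_prod, Nat.card_perm, Nat.card_perm,
    Nat.card_fin, Nat.card_fin, Nat.card_eq_fintype_card (α := ℤˣ), Fintype.card_units_int] at h
  rw [show Nat.factorial 3 = 6 from rfl, show Nat.factorial 5 = 120 from rfl] at h
  have hM : Nat.card M35 = 360 := by omega
  refine ⟨?_, hM⟩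
  set f : M35 →* ℤˣ := (Equiv.Perm.sign).comp ((MonoidHom.fst (Perm (Fin 3)) (Perm (Fin 5))).comp M35.subtype)
  have hf : Function.Surjective f := fun e => by
    rcases Int.units_eq_one_or e with rfl | rfl
    · exact ⟨1, map_one _⟩
    · exact ⟨⟨(swap 0 1, swap 0 1), mem_M35'.2 rfl⟩, by decide +kernel⟩
  have h2 := f.ker.card_mul_index
  rw [Subgroup.index_ker, MonoidHom.range_eq_top.2 hf, Subgroup.card_top, Nat.card_eq_fintype_card (α := ℤˣ),
    Fintype.card_units_int, hM] at h2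
  omega

theorem card_ker_sign_prod :
    Nat.card (((Equiv.Perm.sign).comp (MonoidHom.fst (Perm (Fin 3)) (Perm (Fin 5)))).ker) = 360 := by
  set f : Perm (Fin 3) × Perm (Fin 5) →* ℤˣ := (Equiv.Perm.sign).comp (MonoidHom.fst (Perm (Fin 3)) (Perm (Fin 5)))
  have hf : Function.Surjective f := fun e => by
    rcases Int.units_eq_one_or e with rfl | rfl
    · exact ⟨1, map_one _⟩
    · exact ⟨(swap 0 1, 1), by decide +kernel⟩
  have h2 := f.ker.card_mul_index
  rw [Subgroup.index_ker, MonoidHom.range_eq_top.2 hf, Subgroup.card_top, Nat.card_eq_fintype_card (α := ℤˣ),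
    Fintype.card_units_int, Nat.card_prod, Nat.card_perm, Nat.card_perm, Nat.card_fin, Nat.card_fin] at h2
  rw [show Nat.factorial 3 = 6 from rfl, show Nat.factorial 5 = 120 from rfl] at h2
  omega

namespace Full

variable {G : Type u} [Group G] {D : Setting G} (U : Full D)

include U

/-- The centralizer of `t`. -/
abbrev Ct : Subgroup G := centralizer ({U.F.t} : Set G)

theorem t_Ct [Finite G] : U.F.t ∈ U.Ct := mem_centralizer_singleton_iff.2 rfl

/-- The subgroup generated by `t`. -/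
abbrev Tn [Finite G] : Subgroup U.Ct := zpowers (⟨U.F.t, U.t_Ct⟩ : U.Ct)

instance tn_normal [Finite G] : (U.Tn).Normal := ⟨fun n hn x => by
  obtain ⟨i, rfl⟩ := mem_zpowers_iff.1 hn
  have h : Commute x (⟨U.F.t, U.t_Ct⟩ : U.Ct) := Subtype.ext (mem_centralizer_singleton_iff.1 x.2)
  rw [(h.zpow_right i).eq, mul_inv_cancel_right]
  exact zpow_mem (mem_zpowers _) i⟩

/-- The centralizer of `t` modulo `t`. -/
abbrev Bq [Finite G] : Type u := U.Ct ⧸ U.Tn

/-- The projection. -/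
abbrev bar [Finite G] : U.Ct →* U.Bq := QuotientGroup.mk' U.Tn

theorem bar_one [Finite G] {a : U.Ct} : U.bar a = 1 ↔ (a : G) = 1 ∨ (a : G) = U.F.t := by
  rw [QuotientGroup.mk'_apply, QuotientGroup.eq_one_iff]
  constructor
  · intro h
    obtain ⟨n, rfl⟩ := mem_powers_iff_mem_zpowers.2 h
    show U.F.t ^ n = 1 ∨ U.F.t ^ n = U.F.t
    rcases Nat.even_or_odd' n with ⟨m, rfl | rfl⟩
    · exact Or.inl (by rw [pow_mul, pow_two, U.F.t_sq, one_pow])
    · exact Or.inr (by rw [pow_add, pow_mul, pow_two, U.F.t_sq, one_pow, one_mul, pow_one])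
  · rintro (e | e)
    · rw [show a = 1 from Subtype.ext e]; exact one_mem _
    · rw [show a = ⟨U.F.t, U.t_Ct⟩ from Subtype.ext e]; exact mem_zpowers _

theorem bar_lift [Finite G] {a b : U.Ct} (ha : (a : G) ^ 3 = 1) (hb : (b : G) ^ 3 = 1) (h : U.bar a = U.bar b) :
    (a : G) = b := by
  have h1 : U.bar (a⁻¹ * b) = 1 := by rw [map_mul, map_inv, h, inv_mul_cancel]
  rcases U.bar_one.1 h1 with e | e
  · exact inv_mul_eq_one.1 e
  · exfalso
    have hb' : (b : G) = (a : G) * U.F.t := by rw [← e]; push_cast; group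
    rw [hb', (show Commute (a : G) U.F.t from mem_centralizer_singleton_iff.1 a.2).mul_pow, ha, one_mul, pow_succ,
      pow_two, U.F.t_sq, one_mul] at hb
    exact U.F.t_ne hb

/-- The image of a subgroup of the centralizer. -/
abbrev img [Finite G] (H : Subgroup G) : Subgroup U.Bq := (H.subgroupOf U.Ct).map U.bar

theorem card_img [Finite G] {H : Subgroup G} (hH : H ≤ U.Ct) (ht : U.F.t ∈ H) :
    2 * Nat.card (U.img H) = Nat.card H := by
  have h := card_mul_index ((U.bar.comp (inclusion hH)).ker)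
  rw [index_ker, MonoidHom.range_comp, Subgroup.inclusion_range] at h
  have hk : Nat.card (U.bar.comp (inclusion hH)).ker = 2 := by
    rw [show (U.bar.comp (inclusion hH)).ker = zpowers (⟨U.F.t, ht⟩ : H) from ?_, Nat.card_zpowers,
      ← orderOf_submonoid, orderOf_eq_prime (p := 2) (by rw [pow_two]; exact U.F.t_sq) U.F.t_ne]
    refine le_antisymm (fun x hx => ?_) (zpowers_le.2 (MonoidHom.mem_ker.2 (U.bar_one.2 (Or.inr rfl))))
    rcases U.bar_one.1 (MonoidHom.mem_ker.1 hx) with e | e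
    · rw [show x = 1 from Subtype.ext e]; exact one_mem _
    · rw [show x = ⟨U.F.t, ht⟩ from Subtype.ext e]; exact mem_zpowers _
  rw [hk] at h
  exact h

theorem mem_img [Finite G] {H : Subgroup G} (ht : U.F.t ∈ H) {x : U.Ct} : U.bar x ∈ U.img H ↔ (x : G) ∈ H := by
  refine ⟨?_, fun h => ⟨x, h, rfl⟩⟩
  rintro ⟨w, hw, e⟩
  have h1 : U.bar (w⁻¹ * x) = 1 := by rw [map_mul, map_inv, e, inv_mul_cancel]
  rcases U.bar_one.1 h1 with h | h
  · rwa [← inv_mul_eq_one.1 h]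
  · have hm := mul_mem (mem_subgroupOf.1 hw) ht
    rw [show (w : G) * U.F.t = (x : G) by rw [← h]; push_cast; group] at hm
    exact hm

theorem cent_bar [Finite G] {d : U.Ct} (hd : (d : G) ^ 3 = 1) :
    centralizer ({U.bar d} : Set U.Bq) = U.img (centralizer ({(d : G)} : Set G) ⊓ U.Ct) := by
  ext x
  obtain ⟨x, rfl⟩ := QuotientGroup.mk'_surjective U.Tn x
  rw [U.mem_img (H := centralizer ({(d : G)} : Set G) ⊓ U.Ct)
    ⟨mem_centralizer_singleton_iff.2 (mem_centralizer_singleton_iff.1 d.2).symm, U.t_Ct⟩,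
    mem_centralizer_singleton_iff]
  constructor
  · intro h
    refine ⟨mem_centralizer_singleton_iff.2 (mul_inv_eq_iff_eq_mul.1 ?_), x.2⟩
    refine U.bar_lift (a := x * d * x⁻¹) (b := d) ?_ hd ?_
    · push_cast; rw [conj_pow, hd, mul_one, mul_inv_cancel]
    · rw [map_mul, map_mul, map_inv]; exact mul_inv_eq_iff_eq_mul.2 h
  · rintro ⟨h, -⟩
    rw [← map_mul, ← map_mul]
    exact congrArg U.bar (Subtype.ext (mem_centralizer_singleton_iff.1 h))

/-- The image of `z`. -/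
abbrev zb [Finite G] : U.Bq := U.bar ⟨D.z, mem_centralizer_singleton_iff.2 U.F.t_z.symm⟩

/-- The image of the diagonal element. -/
abbrev ypb [Finite G] : U.Bq :=
  U.bar ⟨U.yp, mem_centralizer_singleton_iff.2
    ((show Commute D.z U.F.t from U.F.t_z.symm).mul_left (show Commute U.F.y U.F.t from U.F.y_t)).eq⟩

theorem norm_zb [Finite G] : normalizer (zpowers U.zb : Set U.Bq) = U.img U.Nz := by
  ext x
  obtain ⟨x, rfl⟩ := QuotientGroup.mk'_surjective U.Tn x
  rw [U.mem_img (H := U.Nz) ⟨D.L₀_norm U.F.t_L₀, U.t_Ct⟩]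
  set zc : U.Ct := ⟨D.z, mem_centralizer_singleton_iff.2 U.F.t_z.symm⟩
  constructor
  · intro h
    have hc : U.bar (x * zc * x⁻¹) ∈ zpowers (U.bar zc) := by
      rw [map_mul, map_mul, map_inv]
      exact (Subgroup.mem_normalizer_iff.1 h _).1 (mem_zpowers _)
    obtain ⟨n, hn⟩ := mem_powers_iff_mem_zpowers.2 hc
    have e := U.bar_lift (a := zc ^ n) (b := x * zc * x⁻¹) (by
      push_cast; rw [← pow_mul, mul_comm, pow_mul, D.z_cube, one_pow]) (by
      push_cast; rw [conj_pow, D.z_cube, mul_one, mul_inv_cancel]) (by rw [map_pow]; exact hn)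
    refine ⟨norm_of_conj_le fun w hw => ?_, x.2⟩
    obtain ⟨i, -, rfl⟩ := D.mem_Zc.1 hw
    rw [← conj_pow]
    push_cast at e
    rw [← e]
    exact pow_mem (pow_mem (mem_zpowers _) n) i
  · rintro ⟨h, -⟩
    refine norm_of_conj_le fun w hw => ?_
    obtain ⟨n, rfl⟩ := mem_powers_iff_mem_zpowers.2 hw
    obtain ⟨i, -, hi⟩ := D.mem_Zc.1 ((Subgroup.mem_normalizer_iff.1 h _).1 (pow_mem (mem_zpowers D.z) n))
    beta_reduce
    rw [show U.zb ^ n = U.bar (zc ^ n) from (map_pow _ _ _).symm, ← map_inv, ← map_mul, ← map_mul,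
      show x * zc ^ n * x⁻¹ = zc ^ i from Subtype.ext (by push_cast; exact hi), map_pow]
    exact pow_mem (mem_zpowers _) i

/-- The image of the Sylow subgroup. -/
abbrev Db [Finite G] : Subgroup U.Bq := U.img U.Dt

theorem Db_mem [Finite G] {x : U.Bq} (hx : x ∈ U.Db) : ∃ w : U.Ct, (w : G) ∈ U.Dt ∧ U.bar w = x := hx

theorem card_Db [Finite G] : Nat.card U.Db = 9 := by
  rw [← U.card_Dt]
  refine (Nat.card_congr (Equiv.ofBijective
    (fun w : U.Dt => (⟨U.bar ⟨w, w.2.2⟩, ⟨w, w.2.2⟩, w.2, rfl⟩ : U.Db)) ⟨fun v w h => ?_, ?_⟩)).symm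
  · exact Subtype.ext (U.bar_lift (D.J_exp _ (U.Dt_J v.2)) (D.J_exp _ (U.Dt_J w.2)) (congrArg Subtype.val h))
  · rintro ⟨_, w, hw, rfl⟩
    exact ⟨⟨w, hw⟩, rfl⟩

theorem norm_Db [Finite G] : normalizer (U.Db : Set U.Bq) = U.img U.ND := by
  ext x
  obtain ⟨x, rfl⟩ := QuotientGroup.mk'_surjective U.Tn x
  rw [U.mem_img (U.CD_ND U.t_CD)]
  constructor
  · intro h
    refine ⟨norm_of_conj_le fun v hv => ?_, x.2⟩
    have hc : U.bar (x * ⟨v, hv.2⟩ * x⁻¹) ∈ U.Db := by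
      rw [map_mul, map_mul, map_inv]
      exact (Subgroup.mem_normalizer_iff.1 h _).1 ⟨⟨v, hv.2⟩, hv, rfl⟩
    obtain ⟨w, hw, e⟩ := U.Db_mem hc
    have h' := U.bar_lift (a := w) (b := x * ⟨v, hv.2⟩ * x⁻¹) (D.J_exp _ (U.Dt_J hw)) (by
      push_cast; rw [conj_pow, D.J_exp _ (U.Dt_J hv), mul_one, mul_inv_cancel]) e
    push_cast at h'
    exact h' ▸ hw
  · intro h
    refine norm_of_conj_le ?_
    rintro _ ⟨w, hw, rfl⟩
    exact ⟨x * w * x⁻¹, (Subgroup.mem_normalizer_iff.1 h.1 _).1 hw, by rw [map_mul, map_mul, map_inv]⟩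

theorem cent_Db [Finite G] : centralizer (U.Db : Set U.Bq) = U.img U.CD := by
  ext x
  obtain ⟨x, rfl⟩ := QuotientGroup.mk'_surjective U.Tn x
  rw [U.mem_img U.t_CD]
  constructor
  · intro h
    have key : ∀ v : G, v ∈ U.Dt → (x : G) * v = v * x := by
      intro v hv
      refine mul_inv_eq_iff_eq_mul.1 (U.bar_lift (a := x * ⟨v, hv.2⟩ * x⁻¹) (b := ⟨v, hv.2⟩) (by
        push_cast; rw [conj_pow, D.J_exp _ (U.Dt_J hv), mul_one, mul_inv_cancel]) (D.J_exp _ (U.Dt_J hv)) ?_)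
      rw [map_mul, map_mul, map_inv]
      exact mul_inv_eq_iff_eq_mul.2 (mem_centralizer_iff.1 h _ ⟨⟨v, hv.2⟩, hv, rfl⟩).symm
    exact U.mem_CD.2 ⟨key _ U.z_Dt, key _ U.y_Dt, mem_centralizer_singleton_iff.1 x.2⟩
  · intro h
    refine mem_centralizer_iff.2 ?_
    rintro _ ⟨w, hw, rfl⟩
    rw [← map_mul, ← map_mul]
    exact congrArg U.bar (Subtype.ext (U.Dt_comm hw h).symm)

theorem Db_comm [Finite G] : IsMulCommutative U.Db := ⟨⟨fun a b => Subtype.ext (by
  obtain ⟨v, hv, e⟩ := U.Db_mem a.2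
  obtain ⟨w, hw, e'⟩ := U.Db_mem b.2
  show (a : U.Bq) * b = b * a
  rw [← e, ← e', ← map_mul, ← map_mul]
  exact congrArg U.bar (Subtype.ext (D.J_comm _ (U.Dt_J hv) _ (U.Dt_J hw))))⟩⟩

theorem Db_exp [Finite G] : ∀ a ∈ U.Db, a ^ 3 = 1 := by
  rintro _ ⟨w, hw, rfl⟩
  rw [← map_pow, show w ^ 3 = 1 from Subtype.ext (D.J_exp _ (U.Dt_J hw)), map_one]

theorem not27 [Finite G] : ¬ 27 ∣ Nat.card U.Bq := by
  haveI : Fact (Nat.Prime 3) := ⟨Nat.prime_three⟩
  intro h
  have hC : 27 ∣ Nat.card U.Ct := by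
    rw [Subgroup.card_eq_card_quotient_mul_card_subgroup U.Tn]; exact h.mul_right _
  have hP0 : IsPGroup 3 (U.Dt.subgroupOf U.Ct) :=
    (CfsgLib.Local.isPGroup_of_le inf_le_left D.S.2).of_injective (subgroupOfEquivOfLe inf_le_right).toMonoidHom
      (MulEquiv.injective _)
  obtain ⟨P, hP⟩ := hP0.exists_le_sylow
  have h27 : 3 ^ 3 ∣ Nat.card (P : Subgroup U.Ct) := Sylow.pow_dvd_card_of_pow_dvd_card P hC
  have e := U.three_bound (P.2.map U.Ct.subtype) (map_subtype_le _) (fun d hd => ⟨⟨d, hd.2⟩, hP hd, rfl⟩)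
  rw [← card_map_of_injective (f := U.Ct.subtype) Subtype.val_injective, e, U.card_Dt] at h27
  norm_num at h27

theorem card_cent_ypb [Finite G] (hc : centralizer ({U.yp} : Set G) ≤ normalizer (D.J : Set G)) :
    Nat.card (centralizer ({U.ypb} : Set U.Bq)) = Nat.card U.CD := by
  rw [U.cent_bar (D.J_exp _ U.yp_J)]
  show Nat.card (U.img (centralizer ({U.yp} : Set G) ⊓ U.Ct)) = _
  have h := U.card_img (H := centralizer ({U.yp} : Set G) ⊓ U.Ct) inf_le_right (U.CD_Cyp U.t_CD)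
  rw [U.card_Cyp hc] at h
  omega

theorem Nz_iso [Finite G] {M : Type} [Group M] (Ψ : U.Nz →* M) (hs : Function.Surjective Ψ)
    (hk : ∀ x : U.Nz, Ψ x = 1 ↔ (x : G) = 1 ∨ (x : G) = U.F.t) :
    Nonempty (normalizer (zpowers U.zb : Set U.Bq) ≃* M) ∧
      ∀ f : M →* ℤˣ, (∀ x : U.Nz, (x : G) * D.z = D.z * x ↔ f (Ψ x) = 1) →
        Nat.card (centralizer ({U.zb} : Set U.Bq)) = Nat.card f.ker := by
  let π₁ : U.Nz →* U.Bq := U.bar.comp (inclusion inf_le_right)
  have hker : π₁.ker = Ψ.ker := by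
    ext x
    rw [MonoidHom.mem_ker, MonoidHom.mem_ker, hk]
    exact U.bar_one
  have hrange : π₁.range = normalizer (zpowers U.zb : Set U.Bq) := by
    rw [U.norm_zb, MonoidHom.range_comp, Subgroup.inclusion_range]
  constructor
  · exact ⟨((MulEquiv.subgroupCongr hrange).symm.trans (QuotientGroup.quotientKerEquivRange π₁).symm).trans
      ((QuotientGroup.quotientMulEquivOfEq hker).trans (QuotientGroup.quotientKerEquivOfSurjective Ψ hs))⟩
  · intro f hf
    rw [U.cent_bar (d := ⟨D.z, mem_centralizer_singleton_iff.2 U.F.t_z.symm⟩) D.z_cube]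
    set H := centralizer ({D.z} : Set G) ⊓ U.Ct
    have hH : H ≤ U.Nz := fun x hx => ⟨D.comm_norm (mem_centralizer_singleton_iff.1 hx.1), hx.2⟩
    have h1 := U.card_img (H := H) inf_le_right ⟨mem_centralizer_singleton_iff.2 U.F.t_z, U.t_Ct⟩
    have h2 := card_mul_index ((Ψ.comp (inclusion hH)).ker)
    rw [index_ker, MonoidHom.range_comp, Subgroup.inclusion_range] at h2
    have e : (H.subgroupOf U.Nz).map Ψ = f.ker := by
      ext m
      constructor
      · rintro ⟨x, hx, rfl⟩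
        exact (hf x).1 (mem_centralizer_singleton_iff.1 hx.1)
      · intro hm
        obtain ⟨x, rfl⟩ := hs m
        exact ⟨x, ⟨mem_centralizer_singleton_iff.2 ((hf x).2 hm), x.2.2⟩, rfl⟩
    have hk2 : Nat.card (Ψ.comp (inclusion hH)).ker = 2 := by
      have htH : U.F.t ∈ H := ⟨mem_centralizer_singleton_iff.2 U.F.t_z, U.t_Ct⟩
      rw [show (Ψ.comp (inclusion hH)).ker = zpowers (⟨U.F.t, htH⟩ : H) from ?_, Nat.card_zpowers,
        ← orderOf_submonoid, orderOf_eq_prime (p := 2) (by rw [pow_two]; exact U.F.t_sq) U.F.t_ne]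
      refine le_antisymm (fun x hx => ?_) (zpowers_le.2 (MonoidHom.mem_ker.2 ((hk _).2 (Or.inr rfl))))
      rcases (hk _).1 (MonoidHom.mem_ker.1 hx) with e' | e'
      · rw [show x = 1 from Subtype.ext e']; exact one_mem _
      · rw [show x = ⟨U.F.t, htH⟩ from Subtype.ext e']; exact mem_zpowers _
    rw [hk2, e] at h2
    omega

theorem zb_ne [Finite G] : U.zb ≠ 1 := fun h => by
  rcases U.bar_one.1 h with e | e
  · exact D.z_ne e
  · exact U.t_not_Dt (e ▸ U.z_Dt)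

theorem zb_Db [Finite G] : U.zb ∈ U.Db := ⟨_, U.z_Dt, rfl⟩

theorem ypb_Db [Finite G] : U.ypb ∈ U.Db :=
  ⟨⟨U.yp, (mul_mem U.z_Dt U.y_Dt : U.yp ∈ U.Dt).2⟩, (mul_mem U.z_Dt U.y_Dt : U.yp ∈ U.Dt), rfl⟩

/-- The first shape. -/
theorem bar_A8 [Finite G] (hc : centralizer ({U.yp} : Set G) ≤ normalizer (D.J : Set G))
    (hI : ∀ x ∈ U.CD, x ∈ U.Dt ∨ x * U.F.t ∈ U.Dt) : Nonempty (U.Bq ≃* alternatingGroup (Fin 8)) := by
  obtain ⟨Ψ, hs, hk, hz⟩ := U.Nz_shape.1 hI
  obtain ⟨⟨eL⟩, hcard⟩ := U.Nz_iso Ψ hs hk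
  have hC : centralizer (U.Db : Set U.Bq) = U.Db := by
    rw [U.cent_Db]
    refine le_antisymm ?_ (Subgroup.map_mono fun x hx => U.Dt_CD hx)
    rintro _ ⟨w, hw, rfl⟩
    rcases hI _ hw with h | h
    · exact ⟨w, h, rfl⟩
    · refine ⟨w * ⟨U.F.t, U.t_Ct⟩, h, ?_⟩
      rw [map_mul, (U.bar_one (a := ⟨U.F.t, U.t_Ct⟩)).2 (Or.inr rfl), mul_one]
  have h18 := U.card_CD_I hI
  have hND : Nat.card (normalizer (U.Db : Set U.Bq)) = 72 := by
    have h := U.card_img (H := U.ND) inf_le_right (U.CD_ND U.t_CD)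
    rw [U.card_ND, h18] at h
    rw [U.norm_Db]; omega
  have h180 : Nat.card (centralizer ({U.zb} : Set U.Bq)) = 180 :=
    (hcard _ hz).trans card_ker_sign35.1
  obtain ⟨L⟩ := CfsgLib.A8ThreeLocal.exists_loc U.ypb_Db U.zb_Db U.Db_comm U.card_Db U.Db_exp hC hND U.not27
    ((U.card_cent_ypb hc).trans h18) h180 eL
  exact L.nonempty_equiv

theorem case_B_false [Finite G] {N : Subgroup U.Bq} (hN : N.Normal)
    (e : N ≃* alternatingGroup (Fin 5) × alternatingGroup (Fin 5)) (hsq : ∀ g : U.Bq, g ^ 2 ∈ N) : False := by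
  have hKC : D.K U.F.t ≤ U.Ct := fun l hl => (U.F.K_le hl).2
  let ι : K5 →* U.Bq := U.bar.comp ((inclusion hKC).comp U.eK.symm.toMonoidHom)
  have hι : ∀ x : K5, ι x ∈ N := by
    have h : (⊤ : Subgroup K5) ≤ N.comap ι := by
      rw [← k5_perfect, _root_.commutator_def, Subgroup.commutator_le]
      intro a _ b _
      rw [mem_comap, map_commutatorElement, commutatorElement_def,
        show ι a * ι b * (ι a)⁻¹ * (ι b)⁻¹ = (ι a * ι b) ^ 2 * ((ι b)⁻¹ * (ι a)⁻¹ ^ 2 * (ι b)⁻¹⁻¹) * (ι b)⁻¹ ^ 2 by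
          simp only [pow_two]; group]
      exact mul_mem (mul_mem (hsq _) (hN.conj_mem _ (hsq _) _)) (hsq _)
    exact fun x => h (mem_top x)
  set gq : U.Bq := U.bar ⟨U.g, mem_centralizer_singleton_iff.2 U.g_t⟩
  let f : K5 →* alternatingGroup (Fin 5) × alternatingGroup (Fin 5) :=
    e.toMonoidHom.comp (ι.codRestrict N hι)
  let f' : K5 →* alternatingGroup (Fin 5) × alternatingGroup (Fin 5) :=
    e.toMonoidHom.comp (((MulAut.conj gq).toMonoidHom.comp ι).codRestrict N fun x => hN.conj_mem (ι x) (hι x) gq)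
  have hzN : U.zb ∈ N := by
    have h := hsq (U.zb ^ 2)
    rwa [← pow_mul, show 2 * 2 = 3 + 1 from rfl, pow_add, U.Db_exp _ U.zb_Db, one_mul, pow_one] at h
  set zz := e ⟨U.zb, hzN⟩
  obtain ⟨uy, huy⟩ : ∃ x : K5, ((U.eK.symm x : D.K U.F.t) : G) = U.F.y :=
    ⟨U.eK ⟨U.F.y, U.F.y_K⟩, by rw [MulEquiv.symm_apply_apply]⟩
  obtain ⟨uk, huk⟩ : ∃ x : K5, ((U.eK.symm x : D.K U.F.t) : G) = U.F.k :=
    ⟨U.eK ⟨U.F.k, U.F.k_K⟩, by rw [MulEquiv.symm_apply_apply]⟩
  have hzc : ∀ x, zz * f x = f x * zz := by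
    intro x
    show e ⟨U.zb, hzN⟩ * e ⟨ι x, hι x⟩ = e ⟨ι x, hι x⟩ * e ⟨U.zb, hzN⟩
    rw [← map_mul, ← map_mul]
    refine congrArg e (Subtype.ext ?_)
    show U.zb * ι x = ι x * U.zb
    show U.bar _ * U.bar _ = U.bar _ * U.bar _
    rw [← map_mul, ← map_mul]
    exact congrArg U.bar (Subtype.ext (U.K_z (U.eK.symm x).2).symm)
  have hyg : f uy = e ⟨gq * U.zb * gq⁻¹, hN.conj_mem _ hzN _⟩ := by
    refine congrArg e (Subtype.ext ?_)
    show U.bar _ = U.bar _ * U.bar _ * (U.bar _)⁻¹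
    rw [← map_inv, ← map_mul, ← map_mul]
    exact congrArg U.bar (Subtype.ext (huy.trans U.g_z.symm))
  have hyc : ∀ x, f uy * f' x = f' x * f uy := by
    intro x
    rw [hyg]
    show e _ * e ⟨gq * ι x * gq⁻¹, _⟩ = e ⟨gq * ι x * gq⁻¹, _⟩ * e _
    refine (map_mul e _ _).symm.trans ((congrArg e (Subtype.ext ?_)).trans (map_mul e _ _))
    show gq * U.zb * gq⁻¹ * (gq * ι x * gq⁻¹) = gq * ι x * gq⁻¹ * (gq * U.zb * gq⁻¹)
    have hc : U.zb * ι x = ι x * U.zb := by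
      show U.bar _ * U.bar _ = U.bar _ * U.bar _
      rw [← map_mul, ← map_mul]
      exact congrArg U.bar (Subtype.ext (U.K_z (U.eK.symm x).2).symm)
    calc gq * U.zb * gq⁻¹ * (gq * ι x * gq⁻¹) = gq * (U.zb * ι x) * gq⁻¹ := by group
      _ = _ := by rw [hc]; group
  -- perfect images centralising a non-trivial element are trivial
  have kill : ∀ (h : K5 →* alternatingGroup (Fin 5)) (a : alternatingGroup (Fin 5)), a ≠ 1 →
      (∀ x, h x * a = a * h x) → ∀ x, h x = 1 := by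
    intro h a ha hc
    have hk : (⊤ : Subgroup K5) ≤ h.ker := by
      rw [← k5_perfect, _root_.commutator_def, Subgroup.commutator_le]
      intro x _ w _
      rw [MonoidHom.mem_ker, map_commutatorElement, commutatorElement_eq_one_iff_commute]
      exact a5_centralizer a ha _ (hc x) _ (hc w)
    exact fun x => MonoidHom.mem_ker.1 (hk (mem_top x))
  have hyne : f uy ≠ 1 := by
    rw [hyg]
    intro h
    have h' : gq * U.zb * gq⁻¹ = 1 := congrArg Subtype.val ((MulEquiv.map_eq_one_iff e).1 h)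
    exact U.zb_ne (conj_eq_one_iff.1 h')
  have hcomm : ∀ x w, f x * f' w = f' w * f x := by
    intro x w
    by_cases h1 : zz.1 = 1
    · have h2 : zz.2 ≠ 1 := fun h2 => U.zb_ne (congrArg Subtype.val
        ((MulEquiv.map_eq_one_iff e).1 (Prod.ext h1 h2 : zz = 1)))
      have hf2 : ∀ x, (f x).2 = 1 := kill ((MonoidHom.snd _ _).comp f) _ h2 fun x => congrArg Prod.snd (hzc x).symm
      have hy1 : (f uy).1 ≠ 1 := fun h => hyne (Prod.ext h (hf2 uy))
      have hf1 : ∀ x, (f' x).1 = 1 := kill ((MonoidHom.fst _ _).comp f') _ hy1 fun x => congrArg Prod.fst (hyc x).symm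
      refine Prod.ext ?_ ?_
      · show (f x).1 * (f' w).1 = (f' w).1 * (f x).1
        rw [hf1, one_mul, mul_one]
      · show (f x).2 * (f' w).2 = (f' w).2 * (f x).2
        rw [hf2, one_mul, mul_one]
    · have hf1 : ∀ x, (f x).1 = 1 := kill ((MonoidHom.fst _ _).comp f) _ h1 fun x => congrArg Prod.fst (hzc x).symm
      have hy2 : (f uy).2 ≠ 1 := fun h => hyne (Prod.ext (hf1 uy) h)
      have hf2 : ∀ x, (f' x).2 = 1 := kill ((MonoidHom.snd _ _).comp f') _ hy2 fun x => congrArg Prod.snd (hyc x).symm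
      refine Prod.ext ?_ ?_
      · show (f x).1 * (f' w).1 = (f' w).1 * (f x).1
        rw [hf1, one_mul, mul_one]
      · show (f x).2 * (f' w).2 = (f' w).2 * (f x).2
        rw [hf2, one_mul, mul_one]
  have hbar : ∀ x : K5, U.bar (inclusion hKC (U.eK.symm x)) * U.bar ⟨U.k', mem_centralizer_singleton_iff.2 U.k'_t⟩ =
      U.bar ⟨U.k', mem_centralizer_singleton_iff.2 U.k'_t⟩ * U.bar (inclusion hKC (U.eK.symm x)) := by
    intro x
    have h : ι x * (gq * ι uk * gq⁻¹) = gq * ι uk * gq⁻¹ * ι x := congrArg Subtype.val (e.injective (by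
      rw [map_mul, map_mul]; exact hcomm x uk : e (⟨ι x, hι x⟩ * ⟨gq * ι uk * gq⁻¹, hN.conj_mem _ (hι uk) _⟩) =
        e (⟨gq * ι uk * gq⁻¹, hN.conj_mem _ (hι uk) _⟩ * ⟨ι x, hι x⟩)))
    have hk' : gq * ι uk * gq⁻¹ = U.bar ⟨U.k', mem_centralizer_singleton_iff.2 U.k'_t⟩ := by
      show U.bar _ * U.bar _ * (U.bar _)⁻¹ = _
      rw [← map_inv, ← map_mul, ← map_mul]
      refine congrArg U.bar (Subtype.ext ?_)
      show (U.g : G) * ((U.eK.symm uk : D.K U.F.t) : G) * (U.g : G)⁻¹ = U.k'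
      rw [huk]
    rw [hk'] at h
    exact h
  have hπ : U.π5 ⟨U.k', U.k'_Nz⟩ = 1 := by
    refine s5_centralizer _ fun τ hτ => ?_
    obtain ⟨l, hl⟩ := U.π5_even hτ
    have h := hbar (U.eK l)
    rw [← map_mul, ← map_mul] at h
    have h1 : U.bar ((⟨U.k', mem_centralizer_singleton_iff.2 U.k'_t⟩ * inclusion hKC (U.eK.symm (U.eK l)))⁻¹ *
        (inclusion hKC (U.eK.symm (U.eK l)) * ⟨U.k', mem_centralizer_singleton_iff.2 U.k'_t⟩)) = 1 := by
      rw [map_mul, map_inv, h, inv_mul_cancel]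
    have h2 := U.bar_one.1 h1
    rw [MulEquiv.symm_apply_apply] at h2
    push_cast at h2
    have h3 : U.π5 ((⟨U.k', U.k'_Nz⟩ * ⟨l, U.K_Nz l.2⟩)⁻¹ * (⟨l, U.K_Nz l.2⟩ * ⟨U.k', U.k'_Nz⟩)) = 1 := by
      set w : U.Nz := (⟨U.k', U.k'_Nz⟩ * ⟨l, U.K_Nz l.2⟩)⁻¹ * (⟨l, U.K_Nz l.2⟩ * ⟨U.k', U.k'_Nz⟩)
      have hw : U.conjK w = 1 := MulEquiv.ext fun m => Subtype.ext (by
        show (w : G) * (m : G) * (w : G)⁻¹ = m
        rcases h2 with e' | e'
        · rw [show (w : G) = 1 from e', one_mul, inv_one, mul_one]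
        · rw [show (w : G) = U.F.t from e', ← U.F.K_t m.2, mul_inv_cancel_right])
      show perm5 (MulAut.congr U.eK (U.conjK w)) = 1
      rw [hw, map_one, map_one]
    rw [map_mul, map_inv, map_mul, map_mul, hl, inv_mul_eq_one] at h3
    exact h3
  obtain ⟨K, hK, -, -, -⟩ := U.k_mat
  obtain ⟨K', hK'⟩ := U.mat_exists U.act_k'.1
  have h : U.Mat (U.k' * U.F.k) (K'.mul K) := U.mat_mul hK' hK
  rw [U.π5_ker hπ U.F.k_K] at h
  exact (U.k'_mats hK hK').1 (U.mat_unique h (U.mat_mul hK hK'))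

/-- The second shape. -/
theorem bar_S8 [Finite G] (hc : centralizer ({U.yp} : Set G) ≤ normalizer (D.J : Set G)) (E : U.Rot) :
    Nonempty (U.Bq ≃* Perm (Fin 8)) := by
  obtain ⟨Ψ, hs, hk, hz⟩ := U.Nz_shape.2 ⟨E⟩
  obtain ⟨⟨eL⟩, hcard⟩ := U.Nz_iso Ψ hs hk
  have h36 := U.card_CD_II E
  have hND : 72 < Nat.card (normalizer (U.Db : Set U.Bq)) := by
    have h := U.card_img (H := U.ND) inf_le_right (U.CD_ND U.t_CD)
    rw [U.card_ND, h36] at h
    rw [U.norm_Db]; omega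
  have h8 : ∀ g ∈ normalizer (U.Db : Set U.Bq), g ^ 8 ∈ centralizer (U.Db : Set U.Bq) := by
    intro x hx
    obtain ⟨x, rfl⟩ := QuotientGroup.mk'_surjective U.Tn x
    rw [U.norm_Db, U.mem_img (U.CD_ND U.t_CD)] at hx
    rw [U.cent_Db, ← map_pow, U.mem_img U.t_CD]
    push_cast
    rw [show 8 = 4 * 2 from rfl, pow_mul]
    exact pow_mem (U.ND_pow_four hx) 2
  have hysq : ∀ g ∈ centralizer ({U.ypb} : Set U.Bq), g ^ 2 ∈ U.Db := by
    intro x hx
    rw [U.cent_bar (D.J_exp _ U.yp_J)] at hx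
    obtain ⟨w, hw, rfl⟩ := hx
    obtain ⟨d, hd, n, e⟩ := U.sq_Cyp hc E (x := (w : G)) ⟨hw.1, w.2⟩
    rw [← map_pow, show w ^ 2 = ⟨d, hd.2⟩ * (⟨U.F.t, U.t_Ct⟩ : U.Ct) ^ n from Subtype.ext (by
      push_cast; rw [pow_two]; exact e), map_mul, map_pow, (U.bar_one (a := ⟨U.F.t, U.t_Ct⟩)).2 (Or.inr rfl),
      one_pow, mul_one]
    exact ⟨⟨d, hd.2⟩, hd, rfl⟩
  have h360 : Nat.card (centralizer ({U.zb} : Set U.Bq)) = 360 :=
    (hcard _ hz).trans card_ker_sign_prod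
  obtain ⟨L⟩ := CfsgLib.S8ThreeLocal.exists_data U.ypb_Db U.zb_Db U.Db_comm U.card_Db U.Db_exp hND h8 U.not27
    ((U.card_cent_ypb hc).trans h36) hysq h360 eL
  rcases L.σ_t with hA | hB
  · exact L.caseA_equiv hA
  · obtain ⟨N, hN, -, ⟨e⟩, -, -, hsq⟩ := (L.exists_BCase hB).conclusion
    exact (U.case_B_false hN e hsq).elim

end Full

end CfsgLib.McLThree
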