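import Cfsg.Agent.Lib.McLThree.Coord

/-!
The centralizer of the subgroup of order nine and the involution, and the second element of order four.
-/

set_option autoImplicit false
set_option synthInstance.maxSize 8000
set_option synthInstance.maxHeartbeats 200000

namespace CfsgLib.McLThree

open Subgroup Equiv Equiv.Perm

universe u

set_option maxRecDepth 100000 in
theorem rot_facts : I2.neg.mul I2.neg = I2 ∧ (R2.neg.mul R2.neg).mul R2.neg = R2 ∧ R2.mul R2 = I2.neg ∧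
    R2.mul I2.neg = R2.neg ∧ I2.neg ≠ I2 ∧ R2.mul R2.neg = I2 ∧
    (∀ A : M2, A.mul I2 = A ∧ I2.mul A = A ∧ I2.neg.mul A = A.neg ∧ A.mul I2.neg = A.neg) := by decide +kernel

set_option maxRecDepth 100000 in
theorem r2_k : ∀ K : M2, K.mul K = R2.mul R2 → Simil I2 K (-1) → R2.mul K ≠ K.mul R2 := by decide +kernel

set_option maxRecDepth 100000 in
theorem g_anti : ∀ G : M2, G.mul G = I2 → ((G.mul R2.neg).mul G).mul R2.neg = I2 → G.mul R2 = (R2.mul G).neg := by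
  decide +kernel

set_option maxRecDepth 100000 in
theorem k_anti : ∀ K : M2, K.mul K = R2.mul R2 → Simil I2 K (-1) → ∀ G : M2, G.mul G = I2 →
    G.mul R2 = (R2.mul G).neg → ((G.mul K.neg).mul G).mul K ≠ K.mul ((G.mul K.neg).mul G) ∧
      (G.mul K.neg).mul G ≠ K ∧ (G.mul K.neg).mul G ≠ K.neg := by decide +kernel

/-- The scalar multiple. -/
def M2.smul (c : ZMod 3) (A : M2) : M2 := ((c * A.1.1, c * A.1.2), (c * A.2.1, c * A.2.2))

theorem smul_app (c : ZMod 3) (A : M2) (v : V2) : (M2.smul c A).app v = (c * (A.app v).1, c * (A.app v).2) := by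
  refine Prod.ext ?_ ?_ <;> simp only [M2.app, M2.smul] <;> ring

theorem smul_neg_one (A : M2) : M2.smul (-1) A = A.neg := by simp [M2.smul, M2.neg]

theorem smul_one (A : M2) : M2.smul 1 A = A := by simp [M2.smul]

theorem m2_assoc (A B C : M2) : (A.mul B).mul C = A.mul (B.mul C) := Prod.ext (app_mul A B C.1) (app_mul A B C.2)

namespace Full

variable {G : Type u} [Group G] {D : Setting G} (U : Full D)

include U

theorem mem_dt [Finite G] {x : G} (hx : x ∈ (D.S : Subgroup G)) (ht : x * U.F.t = U.F.t * x) :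
    ∃ a b : ℕ, x = D.z ^ a * U.F.y ^ b := by
  obtain ⟨q, hq, b, rfl⟩ := U.F.S_mem hx
  have hy : Commute U.F.t (U.F.y ^ b) := (show Commute U.F.t U.F.y from U.F.y_t.symm).pow_right b
  have hqt : Commute q U.F.t := by
    rw [show q = q * U.F.y ^ b * (U.F.y ^ b)⁻¹ by group]
    exact (show Commute (q * U.F.y ^ b) U.F.t from ht).mul_left hy.symm.inv_left
  obtain ⟨a, -, ha⟩ := D.mem_Zc.1 (D.centQ U.F.t_L₀ U.F.t_sq U.F.t_φ hq hqt.eq)
  exact ⟨a, b, by rw [ha]⟩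

/-- The Sylow subgroup of the centralizer of `t`. -/
abbrev Dt : Subgroup G := (D.S : Subgroup G) ⊓ centralizer ({U.F.t} : Set G)

theorem z_Dt [Finite G] : D.z ∈ U.Dt := ⟨D.Q_le D.z_Q, mem_centralizer_singleton_iff.2 U.F.t_z.symm⟩

theorem y_Dt [Finite G] : U.F.y ∈ U.Dt := ⟨U.F.y_S, mem_centralizer_singleton_iff.2 U.F.y_t⟩

theorem Dt_J [Finite G] {x : G} (hx : x ∈ U.Dt) : x ∈ D.J := by
  obtain ⟨a, b, rfl⟩ := U.mem_dt hx.1 (mem_centralizer_singleton_iff.1 hx.2)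
  exact mul_mem (pow_mem U.F.z_J a) (pow_mem U.F.y_J b)

/-- The centralizer of the two lines and of `t`. -/
abbrev CD : Subgroup G :=
  centralizer ({D.z} : Set G) ⊓ centralizer ({U.F.y} : Set G) ⊓ centralizer ({U.F.t} : Set G)

theorem mem_CD {x : G} : x ∈ U.CD ↔ x * D.z = D.z * x ∧ x * U.F.y = U.F.y * x ∧ x * U.F.t = U.F.t * x := by
  simp only [mem_inf, mem_centralizer_singleton_iff, and_assoc]

theorem t_CD [Finite G] : U.F.t ∈ U.CD := U.mem_CD.2 ⟨U.F.t_z, U.F.y_t.symm, rfl⟩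

theorem Dt_CD [Finite G] : U.Dt ≤ U.CD := fun x hx => U.mem_CD.2
  ⟨D.z_comm x hx.1, D.J_comm x (U.Dt_J hx) _ U.F.y_J, mem_centralizer_singleton_iff.1 hx.2⟩

theorem norm_S_of_y [Finite G] {x : G} (hz : x ∈ normalizer (D.Zc : Set G)) (hy : x * U.F.y * x⁻¹ ∈ zpowers U.F.y) :
    x ∈ normalizer ((D.S : Subgroup G) : Set G) := by
  refine norm_of_conj_le fun s hs => ?_
  obtain ⟨q, hq, i, rfl⟩ := U.F.S_mem hs
  rw [show x * (q * U.F.y ^ i) * x⁻¹ = x * q * x⁻¹ * (x * U.F.y * x⁻¹) ^ i by rw [conj_pow]; group]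
  exact mul_mem (D.Q_le (D.norm_Q hz hq)) (pow_mem (zpowers_le.2 U.F.y_S hy) i)

theorem CD_act [Finite G] {x : G} (hx : x ∈ U.CD) : U.Act x 1 1 := by
  obtain ⟨hz, hy, -⟩ := U.mem_CD.1 hx
  have e : x * U.F.y * x⁻¹ = U.F.y := by rw [hy, mul_inv_cancel_right]
  exact ⟨U.norm_S_of_y (D.comm_norm hz) (by rw [e]; exact mem_zpowers _), e.trans (pow_one _).symm,
    by rw [hz, mul_inv_cancel_right]; exact (pow_one _).symm, one_mul 1⟩

theorem CD_kernel [Finite G] {x : G} (hx : x ∈ U.CD) (hm : U.Mat x I2) : x ∈ U.Dt := by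
  obtain ⟨hz, hy, ht⟩ := U.mem_CD.1 hx
  have hN := D.comm_norm hz
  have hS := (U.CD_act hx).1
  have hQ : ∀ q ∈ D.Q, x * q * x⁻¹ * q⁻¹ ∈ D.A := by
    intro q hq
    obtain ⟨v, hv⟩ := U.rep_exists (D.Q_le hq)
    have h := hm v q hv
    rw [app_one] at h
    have h' := U.rep_congr hv h
    have hJ : x * q * x⁻¹ * q⁻¹ ∈ D.J := by
      rw [show x * q * x⁻¹ * q⁻¹ = q * (q⁻¹ * (x * q * x⁻¹)) * q⁻¹ by group]
      exact (Subgroup.mem_normalizer_iff.1 (U.F.S_norm_J (D.Q_le hq)) _).1 h'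
    exact ⟨hJ, D.Q.mul_mem (D.norm_Q hN hq) (D.Q.inv_mem hq)⟩
  have hA : ∀ a ∈ D.A, x * a * x⁻¹ * a⁻¹ ∈ D.Zc := by
    intro a ha
    set α := x * a * x⁻¹
    have hα : α ∈ D.A :=
      ⟨(Subgroup.mem_normalizer_iff.1 (U.F.norm_S_J hS) a).1 ha.1, D.norm_Q hN ha.2⟩
    refine D.Q_centre _ (D.Q.mul_mem hα.2 (D.Q.inv_mem ha.2)) fun q hq => ?_
    have hd : x * q * x⁻¹ * q⁻¹ ∈ D.A := hQ q hq
    have hc := D.Q_comm a ha.2 q hq
    have e1 : α * (x * q * x⁻¹ * q⁻¹ * q) * α⁻¹ * (x * q * x⁻¹ * q⁻¹ * q)⁻¹ = a * q * a⁻¹ * q⁻¹ := by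
      rw [show α * (x * q * x⁻¹ * q⁻¹ * q) * α⁻¹ * (x * q * x⁻¹ * q⁻¹ * q)⁻¹ = x * (a * q * a⁻¹ * q⁻¹) * x⁻¹ by
        simp only [α]; group, D.conj_comm hz hc]
    have hc' := D.Q_comm α hα.2 q hq
    set d := x * q * x⁻¹ * q⁻¹
    have e2 : α * (d * q) * α⁻¹ * (d * q)⁻¹ = α * q * α⁻¹ * q⁻¹ := by
      rw [show α * (d * q) * α⁻¹ * (d * q)⁻¹ = α * d * q * α⁻¹ * q⁻¹ * d⁻¹ by group, U.F.A_comm hα hd,
        show d * α * q * α⁻¹ * q⁻¹ * d⁻¹ = d * (α * q * α⁻¹ * q⁻¹) * d⁻¹ by group, D.conj_comm (D.Q_z hd.2) hc']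
    rw [e2] at e1
    have h3 : α * q * α⁻¹ = a * q * a⁻¹ := mul_right_cancel e1
    rw [U.F.A_comm hα (inv_mem ha)]
    calc a⁻¹ * α * q = a⁻¹ * (α * q * α⁻¹) * α := by group
      _ = q * (a⁻¹ * α) := by rw [h3]; group
  have h3 := U.F.stable_chain hz hA hQ
  exact ⟨U.F.three_S (D.three_mem_L₀ hN h3) h3 hy, mem_centralizer_singleton_iff.2 ht⟩

theorem K_conj {x l : G} (hN : x ∈ normalizer (D.Zc : Set G)) (ht : x * U.F.t = U.F.t * x) (hl : l ∈ D.K U.F.t) :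
    x * l * x⁻¹ ∈ D.K U.F.t := by
  have hle : (D.Kc U.F.t).map (MulAut.conj x).toMonoidHom ≤ D.Kc U.F.t := by
    rintro _ ⟨w, hw, rfl⟩
    refine ⟨D.L₀_conj hN hw.1, mem_centralizer_singleton_iff.2 ?_⟩
    exact (((show Commute x U.F.t from ht).mul_left (mem_centralizer_singleton_iff.1 hw.2 : Commute w U.F.t)).mul_left
      (show Commute x U.F.t from ht).inv_left).eq
  have h : (D.K U.F.t).map (MulAut.conj x).toMonoidHom ≤ D.K U.F.t := by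
    rw [map_commutator]; exact commutator_mono hle hle
  exact h ⟨l, hl, rfl⟩

theorem t_K [Finite G] : U.F.t ∈ D.K U.F.t := by
  have h := mul_mem U.F.k_K U.F.k_K
  rwa [U.F.k_sq] at h

theorem K_cent_y [Finite G] {x : G} (hx : x ∈ D.K U.F.t) (hy : x * U.F.y = U.F.y * x) :
    ∃ i : ℕ, x = U.F.y ^ i ∨ x = U.F.y ^ i * U.F.t := by
  obtain ⟨a, ha⟩ := U.F.yφ_conj
  have hxL := (U.F.K_le hx).1
  set w := a⁻¹ * D.φL ⟨x, hxL⟩ * a
  have hw : w * u5 = u5 * w := by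
    have h : D.φL ⟨x, hxL⟩ * (a * u5 * a⁻¹) = a * u5 * a⁻¹ * D.φL ⟨x, hxL⟩ := by
      rw [ha, ← map_mul, ← map_mul]; exact congrArg _ (Subtype.ext hy)
    calc w * u5 = a⁻¹ * (D.φL ⟨x, hxL⟩ * (a * u5 * a⁻¹)) * a := by simp only [w]; group
      _ = u5 * w := by rw [h]; simp only [w]; group
  have hxw : D.φL ⟨x, hxL⟩ = a * w * a⁻¹ := by simp [w, mul_assoc]
  have hy' : D.φL ⟨U.F.y, U.F.y_L₀⟩ = a * u5 * a⁻¹ := ha.symm
  obtain ⟨i, hi | hi⟩ := k5_cent w hw <;> refine ⟨i.val, ?_⟩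
  · left
    exact mul_inv_eq_one.1 (congrArg Subtype.val (D.K_inj U.F.t_L₀ U.F.t_sq U.F.t_φ
      (x := ⟨x, hxL⟩ * ((⟨U.F.y, U.F.y_L₀⟩ : D.L₀) ^ i.val)⁻¹)
      ((D.K U.F.t).mul_mem hx ((D.K U.F.t).inv_mem ((D.K U.F.t).pow_mem U.F.y_K _)))
      (by rw [map_mul, map_inv, map_pow, hy', conj_pow, hxw, hi, mul_inv_cancel])))
  · right
    exact mul_inv_eq_one.1 (congrArg Subtype.val (D.K_inj U.F.t_L₀ U.F.t_sq U.F.t_φ
      (x := ⟨x, hxL⟩ * ((⟨U.F.y, U.F.y_L₀⟩ : D.L₀) ^ i.val * ⟨U.F.t, U.F.t_L₀⟩)⁻¹)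
      ((D.K U.F.t).mul_mem hx ((D.K U.F.t).inv_mem ((D.K U.F.t).mul_mem ((D.K U.F.t).pow_mem U.F.y_K _) U.t_K)))
      (by rw [map_mul, map_inv, map_mul, map_pow, hy', conj_pow, U.F.t_φ, hxw, hi]
          rw [show a * (u5 ^ i.val * z5) * a⁻¹ = a * u5 ^ i.val * (z5 * a⁻¹) by group,
            ← k5_basic.2.2.2.2.1 a⁻¹, show a * u5 ^ i.val * (a⁻¹ * z5) = a * u5 ^ i.val * a⁻¹ * z5 by group,
            mul_inv_cancel])))

/-- Conjugates of `k` by elements inverting or fixing `y`. -/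
theorem k_conj [Finite G] {x : G} (hN : x ∈ normalizer (D.Zc : Set G)) (ht : x * U.F.t = U.F.t * x) {n : ℕ}
    (hy : x * U.F.y * x⁻¹ = U.F.y ^ n) :
    ∃ i : ℕ, x * U.F.k * x⁻¹ = U.F.y ^ i * U.F.k ∨ x * U.F.k * x⁻¹ = U.F.y ^ i * U.F.t * U.F.k := by
  have hk : x * U.F.k * x⁻¹ ∈ D.K U.F.t := U.K_conj hN ht U.F.k_K
  have hkn : U.F.k * U.F.y ^ n * U.F.k⁻¹ = (U.F.y ^ n)⁻¹ := by rw [← conj_pow, U.F.k_y, inv_pow]
  have hcn : Commute (x * U.F.k * x⁻¹ * U.F.k⁻¹) (U.F.y ^ n) := by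
    refine mul_inv_eq_iff_eq_mul.1 ?_
    calc x * U.F.k * x⁻¹ * U.F.k⁻¹ * U.F.y ^ n * (x * U.F.k * x⁻¹ * U.F.k⁻¹)⁻¹
        = x * U.F.k * x⁻¹ * (U.F.k⁻¹ * U.F.y ^ n * U.F.k) * x * U.F.k⁻¹ * x⁻¹ := by group
      _ = x * U.F.k * x⁻¹ * (U.F.y ^ n)⁻¹ * x * U.F.k⁻¹ * x⁻¹ := by
        rw [show U.F.k⁻¹ * U.F.y ^ n * U.F.k = (U.F.y ^ n)⁻¹ by
          rw [show U.F.k⁻¹ * U.F.y ^ n * U.F.k = U.F.k⁻¹ * ((U.F.k * U.F.y ^ n * U.F.k⁻¹)⁻¹) * U.F.k by
            rw [hkn, inv_inv]]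
          group]
      _ = x * (U.F.k * U.F.y⁻¹ * U.F.k⁻¹) * x⁻¹ := by rw [← hy]; group
      _ = U.F.y ^ n := by rw [← conj_inv, U.F.k_y, inv_inv, hy]
  have hcy : Commute (x * U.F.k * x⁻¹ * U.F.k⁻¹) U.F.y := by
    have hn : ¬ 3 ∣ n := fun ⟨m, hm⟩ => U.F.y_ne (conj_eq_one_iff.1 (hy.trans (by
      rw [hm, pow_mul, U.F.y_cube, one_pow])))
    have h := hcn.pow_right n
    rwa [← pow_mul, pow_eq_pow_mod (n * n) U.F.y_cube, show n * n % 3 = 1 by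
      rw [Nat.mul_mod]; obtain h | h : n % 3 = 1 ∨ n % 3 = 2 := (by omega)
      all_goals rw [h], pow_one] at h
  obtain ⟨i, e | e⟩ := U.K_cent_y (mul_mem hk (inv_mem U.F.k_K)) hcy.eq
  · exact ⟨i, Or.inl (mul_inv_eq_iff_eq_mul.1 e)⟩
  · exact ⟨i, Or.inr (mul_inv_eq_iff_eq_mul.1 e)⟩

theorem mat_k_comm [Finite G] {x : G} (hN : x ∈ normalizer (D.Zc : Set G)) (ht : x * U.F.t = U.F.t * x) {n : ℕ}
    (hy : x * U.F.y * x⁻¹ = U.F.y ^ n) {A K : M2} (hA : U.Mat x A) (hK : U.Mat U.F.k K) :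
    A.mul K = K.mul A ∨ A.mul K = (K.mul A).neg := by
  obtain ⟨i, e | e⟩ := U.k_conj hN ht hy
  · left
    have h := U.mat_mul (U.mat_mul (U.mat_J (D.J.pow_mem U.F.y_J i)) hK) hA
    rw [← e, inv_mul_cancel_right, (rot_facts.2.2.2.2.2.2 K).2.1] at h
    exact U.mat_unique (U.mat_mul hA hK) h
  · right
    have h := U.mat_mul (U.mat_mul (U.mat_mul (U.mat_J (D.J.pow_mem U.F.y_J i)) U.mat_t) hK) hA
    rw [← e, inv_mul_cancel_right, (rot_facts.2.2.2.2.2.2 I2.neg).2.1] at h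
    have h' := U.mat_unique (U.mat_mul hA hK) h
    rw [h', ← (rot_facts.2.2.2.2.2.2 (K.mul A)).2.2.1, m2_assoc]

theorem CD_cases [Finite G] {x : G} (hx : x ∈ U.CD) {A : M2} (hA : U.Mat x A) :
    A = I2 ∨ A = I2.neg ∨ A = R2 ∨ A = R2.neg := by
  obtain ⟨K, hK, hK2, hKs, -⟩ := U.k_mat
  obtain ⟨hz, hy, ht⟩ := U.mem_CD.1 hx
  have h1 := U.simil_std (U.CD_act hx) hA
  rw [one_mul] at h1
  exact isom_rot K hK2 hKs A h1 (U.mat_k_comm (D.comm_norm hz) ht (n := 1)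
    (by rw [hy, mul_inv_cancel_right, pow_one]) hA hK)

/-- The larger case. -/
structure Rot where
  /-- an element of order four -/
  e : G
  /-- centralising the two lines and `t` -/
  mem : e ∈ U.CD
  /-- squaring to `t` -/
  sq : e * e = U.F.t
  /-- acting as a quarter turn -/
  mat : U.Mat e R2

theorem sq_t_fix [Finite G] {x : G} (hx : x ∈ U.CD) (h : U.Mat x I2.neg) : x * U.F.t ∈ U.Dt := by
  refine U.CD_kernel (mul_mem hx U.t_CD) ?_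
  have := U.mat_mul h U.mat_t
  rwa [rot_facts.1] at this

theorem CD_split [Finite G] : (∀ x ∈ U.CD, x ∈ U.Dt ∨ x * U.F.t ∈ U.Dt) ∨ Nonempty U.Rot := by
  by_cases h : ∀ x ∈ U.CD, ∀ A, U.Mat x A → A = I2 ∨ A = I2.neg
  · left
    intro x hx
    obtain ⟨A, hA⟩ := U.mat_exists (U.CD_act hx).1
    rcases h x hx A hA with rfl | rfl
    · exact Or.inl (U.CD_kernel hx hA)
    · exact Or.inr (U.sq_t_fix hx hA)
  · right
    push Not at h
    obtain ⟨x, hx, A, hA, hne1, hne2⟩ := h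
    obtain ⟨x', hx', hA'⟩ : ∃ x' ∈ U.CD, U.Mat x' R2 := by
      rcases U.CD_cases hx hA with rfl | rfl | rfl | rfl
      · exact absurd rfl hne1
      · exact absurd rfl hne2
      · exact ⟨x, hx, hA⟩
      · refine ⟨x * x * x, mul_mem (mul_mem hx hx) hx, ?_⟩
        have := U.mat_mul (U.mat_mul hA hA) hA
        rwa [rot_facts.2.1] at this
    have h2 : x' * x' * U.F.t ∈ U.Dt := U.sq_t_fix (mul_mem hx' hx') (by
      have := U.mat_mul hA' hA'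
      rwa [rot_facts.2.2.1] at this)
    set d := x' * x' * U.F.t
    have hxd : Commute x' d := by
      obtain ⟨a, b, e⟩ := U.mem_dt h2.1 (mem_centralizer_singleton_iff.1 h2.2)
      obtain ⟨hz, hy, -⟩ := U.mem_CD.1 hx'
      rw [e]
      exact ((show Commute x' D.z from hz).pow_right a).mul_right ((show Commute x' U.F.y from hy).pow_right b)
    refine ⟨⟨x' * d, mul_mem hx' (U.Dt_CD h2), ?_, ?_⟩⟩
    · have e : x' * x' = d * U.F.t := by
        simp only [d]; rw [mul_assoc, U.F.t_sq, mul_one]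
      calc x' * d * (x' * d) = x' * (d * x') * d := by group
        _ = x' * x' * (d * d) := by rw [← hxd.eq]; group
        _ = U.F.t * (d * d * d) := by
          rw [e, mem_centralizer_singleton_iff.1 h2.2]
          rw [mul_assoc U.F.t]; group
        _ = U.F.t := by
          rw [show d * d * d = d ^ 3 by rw [pow_succ, pow_two], D.J_exp d (U.Dt_J h2), mul_one]
    · have := U.mat_mul hA' (U.mat_J (U.Dt_J h2))
      rwa [(rot_facts.2.2.2.2.2.2 R2).1] at this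

theorem rot_mem [Finite G] (R : U.Rot) {x : G} (hx : x ∈ U.CD) :
    ∃ n < 4, x * (R.e ^ n)⁻¹ ∈ U.Dt := by
  obtain ⟨A, hA⟩ := U.mat_exists (U.CD_act hx).1
  have ht : R.e ^ 2 = U.F.t := by rw [pow_two, R.sq]
  rcases U.CD_cases hx hA with rfl | rfl | rfl | rfl
  · exact ⟨0, by norm_num, by simpa using U.CD_kernel hx hA⟩
  · refine ⟨2, by norm_num, ?_⟩
    rw [ht, U.F.t_inv]
    exact U.sq_t_fix hx hA
  · refine ⟨1, by norm_num, U.CD_kernel (mul_mem hx (inv_mem (pow_mem R.mem _))) ?_⟩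
    rw [show x * (R.e ^ 1)⁻¹ = x * (R.e * U.F.t) by
      rw [pow_one, inv_eq_of_mul_eq_one_right (show R.e * (R.e * U.F.t) = 1 by
        rw [← mul_assoc, R.sq, U.F.t_sq])]]
    have := U.mat_mul hA (U.mat_mul R.mat U.mat_t)
    rwa [rot_facts.2.2.2.1, rot_facts.2.2.2.2.2.1] at this
  · refine ⟨3, by norm_num, U.CD_kernel (mul_mem hx (inv_mem (pow_mem R.mem _))) ?_⟩
    rw [show x * (R.e ^ 3)⁻¹ = x * R.e by
      rw [inv_eq_of_mul_eq_one_left (show R.e * R.e ^ 3 = 1 by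
        rw [show R.e * R.e ^ 3 = R.e ^ 2 * R.e ^ 2 by group, ht, U.F.t_sq])]]
    have := U.mat_mul hA R.mat
    rwa [show R2.neg.mul R2 = I2 by decide +kernel] at this

/-- The element `k` moved by `g`. -/
abbrev k' : G := (U.g : G) * U.F.k * (U.g : G)⁻¹

theorem k'_sq [Finite G] : U.k' * U.k' = U.F.t := by
  have hg : Commute (U.g : G) U.F.t := U.g_t
  calc U.k' * U.k' = (U.g : G) * (U.F.k * U.F.k) * (U.g : G)⁻¹ := by simp only [k']; group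
    _ = U.F.t := by rw [U.F.k_sq, hg.eq, mul_inv_cancel_right]

theorem k'_t [Finite G] : U.k' * U.F.t = U.F.t * U.k' := by
  have hg : Commute (U.g : G) U.F.t := U.g_t
  exact ((hg.mul_left (show Commute U.F.k U.F.t from U.F.k_t)).mul_left hg.inv_left).eq

theorem k'_y [Finite G] : U.k' * U.F.y * U.k'⁻¹ = U.F.y := by
  have e : (U.g : G)⁻¹ * U.F.y * (U.g : G) = D.z := by rw [← U.g_z]; group
  calc U.k' * U.F.y * U.k'⁻¹ = (U.g : G) * (U.F.k * ((U.g : G)⁻¹ * U.F.y * (U.g : G)) * U.F.k⁻¹) * (U.g : G)⁻¹ := by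
        simp only [k']; group
    _ = U.F.y := by rw [e, U.F.k_z, mul_inv_cancel_right, U.g_z]

theorem k'_z [Finite G] : U.k' * D.z * U.k'⁻¹ = D.z⁻¹ := by
  have e : (U.g : G)⁻¹ * D.z * (U.g : G) = U.F.y := by rw [← U.g_y]; group
  calc U.k' * D.z * U.k'⁻¹ = (U.g : G) * (U.F.k * ((U.g : G)⁻¹ * D.z * (U.g : G)) * U.F.k⁻¹) * (U.g : G)⁻¹ := by
        simp only [k']; group
    _ = D.z⁻¹ := by rw [e, U.F.k_y, ← conj_inv, U.g_y]

theorem k'_norm [Finite G] : U.k' ∈ normalizer (D.Zc : Set G) := D.norm_of_conj (Or.inr U.k'_z)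

theorem act_k' [Finite G] : U.Act U.k' 1 (-1) :=
  ⟨U.norm_S_of_y U.k'_norm (by rw [U.k'_y]; exact mem_zpowers _), U.k'_y.trans (pow_one _).symm, by
    rw [U.k'_z, show ((-1 : ZMod 3)).val = 2 from rfl]
    exact inv_eq_of_mul_eq_one_left (by rw [← pow_succ]; exact D.z_cube), one_mul 1⟩

/-- Projection to the part inverted by `t`. -/
def projT (c : G) : G := c * (U.F.t * c * U.F.t⁻¹)⁻¹

/-- The coordinates on that part. -/
noncomputable def psi [Finite G] (v : V2) : G := U.projT (U.dq (U.rq v))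

theorem projT_mul [Finite G] {c d : G} (hc : c ∈ D.J) (hd : d ∈ D.J) :
    U.projT (c * d) = U.projT c * U.projT d := by
  have hct : U.F.t * c * U.F.t⁻¹ ∈ D.J := (Subgroup.mem_normalizer_iff.1 U.F.t_J c).1 hc
  have hdt : U.F.t * d * U.F.t⁻¹ ∈ D.J := (Subgroup.mem_normalizer_iff.1 U.F.t_J d).1 hd
  simp only [projT]
  set c' := U.F.t * c * U.F.t⁻¹
  set d' := U.F.t * d * U.F.t⁻¹
  rw [show U.F.t * (c * d) * U.F.t⁻¹ = c' * d' by simp only [c', d']; group, mul_inv_rev]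
  have h1 : Commute d'⁻¹ c'⁻¹ := D.J_comm _ (inv_mem hdt) _ (inv_mem hct)
  have h2 : Commute d c'⁻¹ := D.J_comm _ hd _ (inv_mem hct)
  rw [h1.eq, mul_assoc c, ← mul_assoc d, h2.eq]
  group

theorem projT_Zc [Finite G] {c : G} (hc : c ∈ D.Zc) : U.projT c = 1 := by
  rw [projT, D.conj_comm U.F.t_z hc, mul_inv_cancel]

theorem projT_inv [Finite G] {c : G} (hc : c ∈ D.J) :
    U.projT c ∈ D.J ∧ U.F.t * U.projT c * U.F.t⁻¹ = (U.projT c)⁻¹ := by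
  have hct : U.F.t * c * U.F.t⁻¹ ∈ D.J := (Subgroup.mem_normalizer_iff.1 U.F.t_J c).1 hc
  refine ⟨mul_mem hc (inv_mem hct), ?_⟩
  simp only [projT]
  calc U.F.t * (c * (U.F.t * c * U.F.t⁻¹)⁻¹) * U.F.t⁻¹
      = U.F.t * c * U.F.t⁻¹ * ((U.F.t * U.F.t) * c⁻¹ * (U.F.t * U.F.t)⁻¹) := by group
    _ = _ := by rw [U.F.t_sq]; group

theorem psi_eq [Finite G] {v : V2} {q : G} (hq : q ∈ D.Q) (h : U.Rep v q) : U.projT (U.dq q) = U.psi v := by
  rw [psi, U.dq_congr (U.rq_Q v) hq (U.rq_rep v) h]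

theorem psi_add [Finite G] (v w : V2) : U.psi (v + w) = U.psi v * U.psi w := by
  rw [← U.psi_eq (mul_mem (U.rq_Q v) (U.rq_Q w)) (U.rep_mul (U.rq_rep v) (U.rq_rep w))]
  obtain ⟨c, hc, e⟩ := U.dq_mul (U.rq_Q v) (U.rq_Q w)
  have hv := (U.dq_A (U.rq_Q v)).1
  have hw := (U.dq_A (U.rq_Q w)).1
  rw [e, U.projT_mul (U.F.Zc_A hc).1 (mul_mem hw hv), U.projT_Zc hc, one_mul, U.projT_mul hw hv]
  exact D.J_comm _ (U.projT_inv hw).1 _ (U.projT_inv hv).1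

theorem psi_mem [Finite G] (v : V2) : U.psi v ∈ D.J ∧ U.F.t * U.psi v * U.F.t⁻¹ = (U.psi v)⁻¹ :=
  U.projT_inv (U.dq_A (U.rq_Q v)).1

theorem psi_zero [Finite G] : U.psi 0 = 1 := by
  have := U.psi_add 0 0
  rwa [add_zero, left_eq_mul] at this

theorem psi_inj [Finite G] {v w : V2} (h : U.psi v = U.psi w) : v = w := by
  have key : ∀ v, U.psi v = 1 → v = 0 := by
    intro v hv
    have hq := U.rq_Q v
    have hd : Commute (U.dq (U.rq v)) U.F.t := by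
      have h' : U.dq (U.rq v) = U.F.t * U.dq (U.rq v) * U.F.t⁻¹ := mul_inv_eq_one.1 hv
      exact (mul_inv_eq_iff_eq_mul.1 h'.symm).symm
    have hZ := D.centQ U.F.t_L₀ U.F.t_sq U.F.t_φ (U.dq_A hq).2 hd.eq
    have hU : U.rq v ∈ U.F.U0 := ⟨hq, by
      rw [show U.F.y * U.rq v * U.F.y⁻¹ * (U.rq v)⁻¹ = (U.dq (U.rq v))⁻¹ by simp [dq, mul_assoc]]
      exact inv_mem hZ⟩
    rw [← U.F.A_eq] at hU
    exact U.rep_unique (U.rq_rep v) (U.rep_J hU.1)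
  have h' : U.psi (v - w) = 1 := by
    have := U.psi_add (v - w) w
    rwa [sub_add_cancel, h, right_eq_mul] at this
  exact sub_eq_zero.1 (key _ h')

theorem psi_surj [Finite G] {j : G} (hj : j ∈ D.J) (hti : U.F.t * j * U.F.t⁻¹ = j⁻¹) : ∃ v, U.psi v = j := by
  obtain ⟨a, ha, i, e⟩ := U.F.J_mem hj
  have hy : U.F.t * U.F.y ^ i * U.F.t⁻¹ = U.F.y ^ i := by
    rw [((show Commute U.F.t U.F.y from U.F.y_t.symm).pow_right i).eq, mul_inv_cancel_right]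
  have hi : U.F.y ^ i = 1 := by
    have hsq : U.F.y ^ i * U.F.y ^ i ∈ D.Q := by
      have hat := U.F.t_A ha
      have hc : Commute (a⁻¹ : G) (U.F.y ^ i)⁻¹ := ((show Commute a⁻¹ (U.F.y ^ i) from
        D.J_comm _ (inv_mem ha.1) _ (pow_mem U.F.y_J i))).inv_right
      rw [e, show U.F.t * (a * U.F.y ^ i) * U.F.t⁻¹ = U.F.t * a * U.F.t⁻¹ * (U.F.t * U.F.y ^ i * U.F.t⁻¹) by group,
        hy, mul_inv_rev, ← hc.eq] at hti
      rw [show U.F.y ^ i * U.F.y ^ i = (U.F.t * a * U.F.t⁻¹)⁻¹ * (U.F.t * a * U.F.t⁻¹ * U.F.y ^ i) * U.F.y ^ i by group,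
        hti, show (U.F.t * a * U.F.t⁻¹)⁻¹ * (a⁻¹ * (U.F.y ^ i)⁻¹) * U.F.y ^ i = (U.F.t * a * U.F.t⁻¹)⁻¹ * a⁻¹ by group]
      exact D.Q.mul_mem (D.Q.inv_mem hat.2) (D.Q.inv_mem ha.2)
    by_contra hne
    refine U.F.y_not_Q ?_
    rw [← pow_add] at hsq
    have h3 : ¬ 3 ∣ i := fun ⟨m, hm⟩ => hne (by rw [hm, pow_mul, U.F.y_cube, one_pow])
    have h := D.Q.pow_mem hsq (2 * i)
    rwa [← pow_mul, pow_eq_pow_mod _ U.F.y_cube, show (i + i) * (2 * i) % 3 = 1 by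
      rw [Nat.mul_mod, Nat.add_mod, Nat.mul_mod 2 i]
      obtain h | h : i % 3 = 1 ∨ i % 3 = 2 := (by omega)
      all_goals rw [h], pow_one] at h
  rw [hi, mul_one] at e
  subst e
  let f : V2 × D.Zc → D.A := fun x => ⟨U.psi x.1 * x.2, by
    refine D.A.mul_mem ?_ (U.F.Zc_A x.2.2)
    exact ⟨(U.psi_mem x.1).1, D.Q.mul_mem (U.dq_A (U.rq_Q x.1)).2
      (D.Q.inv_mem (D.norm_Q (D.L₀_norm U.F.t_L₀) (U.dq_A (U.rq_Q x.1)).2))⟩⟩
  have hfix : ∀ (v : V2) (c : D.Zc), U.F.t * (U.psi v * c) * U.F.t⁻¹ = (U.psi v)⁻¹ * c := fun v c => by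
    rw [show U.F.t * (U.psi v * c) * U.F.t⁻¹ = U.F.t * U.psi v * U.F.t⁻¹ * (U.F.t * c * U.F.t⁻¹) by group,
      (U.psi_mem v).2, D.conj_comm U.F.t_z c.2]
  have hf : Function.Injective f := by
    intro x x' h
    have h1 : U.psi x.1 * x.2 = U.psi x'.1 * x'.2 := congrArg Subtype.val h
    have h2 : (U.psi x.1)⁻¹ * x.2 = (U.psi x'.1)⁻¹ * x'.2 := by rw [← hfix, ← hfix, h1]
    have hu : (U.psi x'.1)⁻¹ * U.psi x.1 = U.psi x'.1 * (U.psi x.1)⁻¹ := by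
      calc (U.psi x'.1)⁻¹ * U.psi x.1 = (U.psi x'.1)⁻¹ * (U.psi x.1 * x.2) * (x.2 : G)⁻¹ := by group
        _ = (x'.2 : G) * (x.2 : G)⁻¹ := by rw [h1]; group
        _ = U.psi x'.1 * ((U.psi x'.1)⁻¹ * x'.2) * (x.2 : G)⁻¹ := by group
        _ = _ := by rw [← h2]; group
    have hsq : (U.psi x'.1 * U.psi x'.1)⁻¹ * (U.psi x.1 * U.psi x.1) = 1 := by
      calc (U.psi x'.1 * U.psi x'.1)⁻¹ * (U.psi x.1 * U.psi x.1)
          = (U.psi x'.1)⁻¹ * ((U.psi x'.1)⁻¹ * U.psi x.1) * U.psi x.1 := by group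
        _ = 1 := by rw [hu]; group
    rw [← U.psi_add, ← U.psi_add, inv_mul_eq_one] at hsq
    have h3 : x.1 + x.1 = x'.1 + x'.1 := (U.psi_inj hsq).symm
    have h4 : x.1 = x'.1 := by revert h3; generalize x.1 = p; generalize x'.1 = q; revert p q; decide
    refine Prod.ext h4 (Subtype.ext ?_)
    rw [h4] at h1
    exact mul_left_cancel h1
  have hcard : Nat.card (V2 × D.Zc) = Nat.card D.A := by
    rw [Nat.card_prod, D.card_Zc, U.F.card_A, Nat.card_prod, Nat.card_zmod]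
  obtain ⟨⟨v, c⟩, hvc⟩ := ((Nat.bijective_iff_injective_and_card f).2 ⟨hf, hcard⟩).2 ⟨j, ha⟩
  have hj' : U.psi v * c = j := congrArg Subtype.val hvc
  refine ⟨v, ?_⟩
  have hcc : (c : G) * c = 1 := by
    have h := hfix v c
    rw [hj', hti, ← hj', mul_inv_rev] at h
    have hc : Commute (U.psi v)⁻¹ (c : G) := D.J_comm _ (inv_mem (U.psi_mem v).1) _ (U.F.Zc_A c.2).1
    rw [hc.eq] at h
    nth_rw 1 [← mul_right_cancel h]
    exact inv_mul_cancel _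
  have hc1 : (c : G) = 1 := by
    have h5 := D.Zc_cube c.2
    rwa [pow_succ, pow_two, hcc, one_mul] at h5
  rw [← hj', hc1, mul_one]

/-- Conjugation by `x` has the given matrix on the inverted part. -/
def UMat [Finite G] (x : G) (A : M2) : Prop := ∀ v, x * U.psi v * x⁻¹ = U.psi (A.app v)

theorem umat_mul [Finite G] {x x' : G} {A A' : M2} (h : U.UMat x A) (h' : U.UMat x' A') :
    U.UMat (x * x') (A.mul A') := fun v => by
  rw [app_mul, ← h, ← h']; group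

theorem umat_unique [Finite G] {x : G} {A B : M2} (h : U.UMat x A) (h' : U.UMat x B) : A = B := by
  have h1 := U.psi_inj ((h (1, 0)).symm.trans (h' (1, 0)))
  have h2 := U.psi_inj ((h (0, 1)).symm.trans (h' (0, 1)))
  rw [app_e1, app_e1] at h1
  rw [app_e2, app_e2] at h2
  exact Prod.ext h1 h2

theorem umat_J [Finite G] {j : G} (hj : j ∈ D.J) : U.UMat j I2 := fun v => by
  rw [app_one, D.J_comm j hj _ (U.psi_mem v).1, mul_inv_cancel_right]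

theorem psi_pow [Finite G] (v : V2) (n : ℕ) : U.psi v ^ n = U.psi (n • v) := by
  induction n with
  | zero => rw [pow_zero, zero_nsmul, U.psi_zero]
  | succ n ih => rw [pow_succ, ih, succ_nsmul, U.psi_add]

theorem umat_of_mat [Finite G] {x : G} {ε ζ : ZMod 3} (hx : U.Act x ε ζ) (ht : x * U.F.t = U.F.t * x) {A : M2}
    (hA : U.Mat x A) : U.UMat x (M2.smul ε A) := by
  intro v
  have hxQ : x ∈ normalizer (D.Zc : Set G) := U.F.norm_S_z hx.1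
  set q := U.rq v
  have hq : q ∈ D.Q := U.rq_Q v
  have e1 := U.dq_conj hx hq
  have hd := U.dq_A hq
  have e2 : x * U.dq q * x⁻¹ = U.dq (x * q * x⁻¹) ^ ε.val := by
    rw [e1, conj_pow, ← pow_mul, pow_eq_pow_mod (ε.val * ε.val) (D.J_exp _ hd.1), ← ZMod.val_mul, hx.2.2.2,
      show (1 : ZMod 3).val = 1 from rfl, pow_one]
  have hxt : x * U.F.t = U.F.t * x := ht
  have e3 : x * U.psi v * x⁻¹ = U.projT (U.dq (x * q * x⁻¹) ^ ε.val) := by
    rw [← e2]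
    show x * (U.dq q * (U.F.t * U.dq q * U.F.t⁻¹)⁻¹) * x⁻¹ = _
    simp only [projT]
    calc x * (U.dq q * (U.F.t * U.dq q * U.F.t⁻¹)⁻¹) * x⁻¹
        = x * U.dq q * x⁻¹ * ((x * U.F.t) * (U.dq q)⁻¹ * (x * U.F.t)⁻¹) := by group
      _ = _ := by rw [hxt]; group
  rw [e3, smul_app]
  have hd' := U.dq_A (D.norm_Q hxQ hq)
  have e4 : ∀ n : ℕ, U.projT (U.dq (x * q * x⁻¹) ^ n) = U.psi (A.app v) ^ n := by
    intro n
    induction n with
    | zero => rw [pow_zero, pow_zero, U.projT_Zc (one_mem _)]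
    | succ n ih =>
      rw [pow_succ, pow_succ, U.projT_mul (pow_mem hd'.1 n) hd'.1, ih,
        U.psi_eq (D.norm_Q hxQ hq) (hA _ _ (U.rq_rep v))]
  rw [e4, U.psi_pow]
  congr 1
  refine Prod.ext ?_ ?_ <;> simp [nsmul_eq_mul, ZMod.natCast_val, ZMod.cast_id]

theorem k'_mats [Finite G] {K K' : M2} (hK : U.Mat U.F.k K) (hK' : U.Mat U.k' K') :
    K'.mul K ≠ K.mul K' ∧ K' ≠ K ∧ K' ≠ K.neg := by
  obtain ⟨K₀, hK₀, hK2, hKs, -⟩ := U.k_mat
  obtain rfl := U.mat_unique hK hK₀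
  have hgJ := U.g_J
  have hgt : Commute U.F.t (U.g : G) := (show Commute (U.g : G) U.F.t from U.g_t).symm
  have hgpsi : ∀ v, ∃ w, U.psi w = (U.g : G) * U.psi v * (U.g : G)⁻¹ := fun v =>
    U.psi_surj ((Subgroup.mem_normalizer_iff.1 hgJ _).1 (U.psi_mem v).1) (by
      calc U.F.t * ((U.g : G) * U.psi v * (U.g : G)⁻¹) * U.F.t⁻¹
          = (U.F.t * (U.g : G)) * U.psi v * (U.F.t * (U.g : G))⁻¹ := by group
        _ = (U.g : G) * (U.F.t * U.psi v * U.F.t⁻¹) * (U.g : G)⁻¹ := by rw [hgt.eq]; group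
        _ = _ := by rw [(U.psi_mem v).2, conj_inv])
  obtain ⟨v₁, hv₁⟩ := hgpsi (1, 0)
  obtain ⟨v₂, hv₂⟩ := hgpsi (0, 1)
  set Gm : M2 := (v₁, v₂)
  have hG : U.UMat (U.g : G) Gm := by
    intro v
    have e : v = v.1.val • ((1, 0) : V2) + v.2.val • ((0, 1) : V2) := by
      refine Prod.ext ?_ ?_ <;> simp
    have e' : Gm.app v = v.1.val • v₁ + v.2.val • v₂ := by
      refine Prod.ext ?_ ?_ <;> simp [M2.app, Gm]
    rw [e', U.psi_add, ← U.psi_pow, ← U.psi_pow, hv₁, hv₂]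
    conv_lhs => rw [e, U.psi_add, ← U.psi_pow, ← U.psi_pow]
    rw [conj_pow, conj_pow]; group
  have hG2 : Gm.mul Gm = I2 := U.umat_unique (U.umat_mul hG hG) (U.umat_J U.g_sq_J)
  have hp : U.UMat (U.p : G) R2.neg := by
    have h := U.umat_of_mat U.act_p U.p_t U.mat_p
    rwa [smul_neg_one] at h
  have hgi : U.UMat (U.g : G)⁻¹ Gm := by
    intro v
    calc (U.g : G)⁻¹ * U.psi v * (U.g : G)⁻¹⁻¹
        = ((U.g : G) * U.g)⁻¹ * ((U.g : G) * U.psi v * (U.g : G)⁻¹) * ((U.g : G) * U.g) := by group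
      _ = U.psi (Gm.app v) := by
        rw [hG v, mul_assoc, D.J_comm _ (U.psi_mem _).1 _ U.g_sq_J, inv_mul_cancel_left]
  have hGR : Gm.mul R2 = (R2.mul Gm).neg :=
    g_anti Gm hG2 (U.umat_unique (U.umat_mul (U.umat_mul (U.umat_mul hG hp) hgi) hp) (U.umat_J U.gpg_J))
  have hk : U.UMat U.F.k K.neg := by
    have h := U.umat_of_mat U.act_k U.F.k_t hK
    rwa [smul_neg_one] at h
  have hk' : U.UMat U.k' K' := by
    have h := U.umat_of_mat U.act_k' U.k'_t hK'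
    rwa [smul_one] at h
  rw [U.umat_unique hk' (U.umat_mul (U.umat_mul hG hk) hgi)]
  exact k_anti K hK2 hKs Gm hG2 hGR

end Full

end CfsgLib.McLThree
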