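import Mathlib.Data.ZMod.Basic
import Mathlib.Data.Fintype.Prod

/-!
A finite check about two by two matrices over the field with three elements.
-/

set_option autoImplicit false
set_option maxRecDepth 100000
set_option maxHeartbeats 4000000
set_option synthInstance.maxSize 8000
set_option synthInstance.maxHeartbeats 200000

namespace CfsgLib.McLThree

/-- A matrix, by columns: the images of the two basis vectors. -/
abbrev M2 : Type := (ZMod 3 × ZMod 3) × (ZMod 3 × ZMod 3)

/-- Apply. -/
def M2.app (A : M2) (v : ZMod 3 × ZMod 3) : ZMod 3 × ZMod 3 :=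
  (v.1 * A.1.1 + v.2 * A.2.1, v.1 * A.1.2 + v.2 * A.2.2)

/-- The product. -/
def M2.mul (A B : M2) : M2 := (A.app B.1, A.app B.2)

/-- The identity. -/
def I2 : M2 := ((1, 0), (0, 1))

/-- The quarter turn. -/
def R2 : M2 := ((0, 1), (-1, 0))

/-- Minus. -/
def M2.neg (A : M2) : M2 := ((-A.1.1, -A.1.2), (-A.2.1, -A.2.2))

/-- The value of a bilinear form. -/
def bil (B : M2) (v w : ZMod 3 × ZMod 3) : ZMod 3 :=
  v.1 * (B.app w).1 + v.2 * (B.app w).2

/-- A similitude with the given multiplier. -/
def Simil (B A : M2) (c : ZMod 3) : Prop :=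
  bil B A.1 A.1 = c * bil B (1, 0) (1, 0) ∧ bil B A.1 A.2 = c * bil B (1, 0) (0, 1) ∧
    bil B A.2 A.1 = c * bil B (0, 1) (1, 0) ∧ bil B A.2 A.2 = c * bil B (0, 1) (0, 1)

instance (B A : M2) (c : ZMod 3) : Decidable (Simil B A c) := inferInstanceAs (Decidable (_ ∧ _))

/-- The forms with a quarter turn and an element inverting the form are multiples of the standard one. -/
theorem form_std : ∀ B : M2, Simil B R2 1 → B ≠ ((0, 0), (0, 0)) →
    (∃ K : M2, K.mul K = R2.mul R2 ∧ Simil B K (-1)) → B = I2 ∨ B = I2.neg := by decide +kernel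

/-- Isometries commuting up to sign with an inverting element are quarter turns. -/
theorem isom_rot : ∀ K : M2, K.mul K = R2.mul R2 → Simil I2 K (-1) → ∀ A : M2, Simil I2 A 1 →
    (A.mul K = K.mul A ∨ A.mul K = (K.mul A).neg) → A = I2 ∨ A = I2.neg ∨ A = R2 ∨ A = R2.neg := by decide +kernel

/-- An involution inverting the quarter turn moves the inverting element. -/
theorem inv_move : ∀ K : M2, K.mul K = R2.mul R2 → Simil I2 K (-1) → ∀ G : M2, G.mul G = I2 →
    G.mul R2 = (R2.mul G).neg → (G.mul K).mul G ≠ K ∧ (G.mul K).mul G ≠ K.neg ∧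
      ((G.mul K).mul G).mul K ≠ K.mul ((G.mul K).mul G) := by decide +kernel

end CfsgLib.McLThree
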