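import Cfsg.Agent.Lib.McLThree.NJ
import Cfsg.Agent.Lib.McLThree.GL2Three

/-!
Coordinates on the Sylow subgroup modulo `J`, and the form given by commutation with `y`.
-/

set_option autoImplicit false

namespace CfsgLib.McLThree

open Subgroup Equiv Equiv.Perm

universe u

/-- Vectors over the field with three elements. -/
abbrev V2 : Type := ZMod 3 × ZMod 3

/-- The standard element of the given vector. -/
def nineV (v : V2) : A6 := a6 ^ v.1.val * b6 ^ v.2.val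

set_option maxRecDepth 100000 in
theorem nineV_basic : (∀ v w : V2, nineV v * nineV w = nineV (v + w)) ∧ (∀ v w : V2, nineV v = nineV w → v = w) ∧
    (∀ x : Fin 3 × Fin 3, ∃ v : V2, nineV v = nine x.1 x.2) ∧ (∀ v : V2, p6 * nineV v * p6⁻¹ = nineV (R2.app v)) ∧
    (∀ v : V2, t6 * nineV v * t6⁻¹ = nineV (I2.neg.app v)) ∧ nineV 0 = 1 ∧ nineV (1, 0) = a6 ∧ nineV (0, 1) = b6 := by
  decide +kernel

set_option maxRecDepth 100000 in
theorem nineV_app : ∀ A : M2, ∀ v : V2, nineV A.1 ^ v.1.val * nineV A.2 ^ v.2.val = nineV (A.app v) := by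
  decide +kernel

theorem nineV_inNine (v : V2) : InNine (nineV v) := ⟨⟨v.1.val, v.1.val_lt⟩, ⟨v.2.val, v.2.val_lt⟩, rfl⟩

theorem app_mul (A B : M2) (v : V2) : (A.mul B).app v = A.app (B.app v) := by
  refine Prod.ext ?_ ?_ <;> simp only [M2.app, M2.mul] <;> ring

theorem app_one (v : V2) : I2.app v = v := by simp [M2.app, I2]

theorem app_e1 (A : M2) : A.app (1, 0) = A.1 := by simp [M2.app]

theorem app_e2 (A : M2) : A.app (0, 1) = A.2 := by simp [M2.app]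

theorem app_add (A : M2) (v w : V2) : A.app (v + w) = A.app v + A.app w := by
  refine Prod.ext ?_ ?_ <;> simp only [M2.app, Prod.fst_add, Prod.snd_add] <;> ring

set_option maxRecDepth 100000 in
theorem simil_neg : ∀ A : M2, ∀ c : ZMod 3, Simil I2.neg A c → Simil I2 A c := by decide +kernel

theorem additive_ext {M : Type*} [AddCommMonoid M] (f : V2 → M) (h : ∀ v w, f (v + w) = f v + f w) (h0 : f 0 = 0)
    (v : V2) : f v = v.1.val • f (1, 0) + v.2.val • f (0, 1) := by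
  let φ : V2 →+ M := ⟨⟨f, h0⟩, h⟩
  have e : v = v.1.val • ((1, 0) : V2) + v.2.val • ((0, 1) : V2) := by
    refine Prod.ext ?_ ?_ <;> simp
  show φ v = v.1.val • φ (1, 0) + v.2.val • φ (0, 1)
  conv_lhs => rw [e]
  rw [map_add, map_nsmul, map_nsmul]

namespace Setting

variable {G : Type u} [Group G] (D : Setting G)

open Classical in
/-- The exponent of an element of the centre. -/
noncomputable def expo (w : G) : ZMod 3 := if w = 1 then 0 else if w = D.z then 1 else 2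

theorem expo_pow (n : ℕ) : D.expo (D.z ^ n) = (n : ZMod 3) := by
  have hz2 : D.z ^ 2 ≠ 1 := fun e => D.z_ne (by
    calc D.z = D.z ^ 3 * (D.z ^ 2)⁻¹ := by group
      _ = 1 := by rw [e, D.z_cube, inv_one, one_mul])
  have hz21 : D.z ^ 2 ≠ D.z := fun e => D.z_ne (by rw [pow_two] at e; exact mul_eq_left.1 e)
  rw [pow_eq_pow_mod n D.z_cube, ← ZMod.natCast_mod n 3]
  obtain h | h | h : n % 3 = 0 ∨ n % 3 = 1 ∨ n % 3 = 2 := by omega
  · simp [expo, h]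
  · simp [expo, h, D.z_ne]
  · rw [h]; simp [expo, hz2, hz21]

theorem expo_mul {w w' : G} (h : w ∈ D.Zc) (h' : w' ∈ D.Zc) : D.expo (w * w') = D.expo w + D.expo w' := by
  obtain ⟨i, -, rfl⟩ := D.mem_Zc.1 h
  obtain ⟨j, -, rfl⟩ := D.mem_Zc.1 h'
  rw [← pow_add, expo_pow, expo_pow, expo_pow, Nat.cast_add]

theorem eq_of_expo {w : G} (h : w ∈ D.Zc) : w = D.z ^ (D.expo w).val := by
  obtain ⟨i, hi, rfl⟩ := D.mem_Zc.1 h
  rw [expo_pow, ZMod.val_natCast, Nat.mod_eq_of_lt hi]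

end Setting

namespace Full

variable {G : Type u} [Group G] {D : Setting G} (U : Full D)

include U

theorem g_J : (U.g : G) ∈ normalizer (D.J : Set G) := D.M₀_norm U.g.2

theorem g_sq_J [Finite G] : (U.g : G) * U.g ∈ D.J := U.C.sq_J U.φg

theorem g_y [Finite G] : (U.g : G) * U.F.y * (U.g : G)⁻¹ = D.z := by
  conv_lhs => rw [← U.g_z]
  rw [show (U.g : G) * ((U.g : G) * D.z * (U.g : G)⁻¹) * (U.g : G)⁻¹ = (U.g : G) * U.g * D.z * ((U.g : G) * U.g)⁻¹ by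
    group, D.J_comm _ U.g_sq_J D.z U.F.z_J, mul_inv_cancel_right]

theorem p_S [Finite G] : (U.p : G) ∈ normalizer ((D.S : Subgroup G) : Set G) := (U.C.norm9_iff U.p).1 (by
  rw [U.φp]
  exact ⟨⟨0, 1, by rw [six_basic.2.1, nine_gens.2.1]⟩, by
    rw [six_basic.2.2.1, ← nine_gens.1]; exact nine6.inv_mem ⟨1, 0, rfl⟩⟩)

theorem p_sq_J [Finite G] : (U.p : G) * U.p * U.F.t ∈ D.J := by
  refine (U.C.ker (U.p * U.p * ⟨U.F.t, U.C.t_M⟩)).1 ?_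
  rw [map_mul, map_mul, U.φp, U.C.φt, six_basic.1]
  decide +kernel

theorem gpg_J [Finite G] : (U.g : G) * U.p * (U.g : G)⁻¹ * U.p ∈ D.J := by
  refine (U.C.ker (U.g * U.p * U.g⁻¹ * U.p)).1 ?_
  rw [map_mul, map_mul, map_mul, map_inv, U.φg, U.φp, inv_eq_of_mul_eq_one_right six_basic.2.2.2.1,
    six_basic.2.2.2.2.1, inv_mul_cancel]

theorem p_y [Finite G] : (U.p : G) * U.F.y * (U.p : G)⁻¹ = U.F.y⁻¹ := by
  set g := (U.g : G)
  set p := (U.p : G)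
  set j := g * p * g⁻¹ * p
  have hj : j ∈ D.J := U.gpg_J
  have e : p * U.F.y⁻¹ * p⁻¹ = U.F.y := by
    have h1 : g * (p * D.z * p⁻¹) * g⁻¹ = U.F.y⁻¹ := by rw [U.p_z, ← conj_inv, U.g_z]
    have h2 : g * p * g⁻¹ * U.F.y * (g * p * g⁻¹)⁻¹ = U.F.y⁻¹ := by
      rw [← h1, ← U.g_z]; simp only [g]; group
    rw [show g * p * g⁻¹ = j * p⁻¹ by simp only [j]; group] at h2
    have hy : j * U.F.y⁻¹ * j⁻¹ = U.F.y⁻¹ := by
      rw [D.J_comm j hj _ (inv_mem U.F.y_J), mul_inv_cancel_right]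
    have h3 : p⁻¹ * U.F.y * p = U.F.y⁻¹ := by
      have h4 := congrArg (fun w => j⁻¹ * w * j) h2
      calc p⁻¹ * U.F.y * p = j⁻¹ * (j * p⁻¹ * U.F.y * (j * p⁻¹)⁻¹) * j := by group
        _ = j⁻¹ * U.F.y⁻¹ * j := h4
        _ = U.F.y⁻¹ := by nth_rw 1 [← hy]; group
    rw [← h3]; group
  rw [← conj_inv] at e
  exact inv_eq_iff_eq_inv.1 e

/-- A representative of the given vector. -/
def Rep (v : V2) (s : G) : Prop := ∃ h : s ∈ D.M₀, U.C.φ ⟨s, h⟩ = nineV v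

/-- Conjugation by `x` has the given matrix modulo `J`. -/
def Mat (x : G) (A : M2) : Prop := ∀ v s, U.Rep v s → U.Rep (A.app v) (x * s * x⁻¹)

theorem Rep.mem_S [Finite G] {v : V2} {s : G} (h : U.Rep v s) : s ∈ (D.S : Subgroup G) :=
  (U.C.mem_S ⟨s, h.1⟩).1 (h.2 ▸ nineV_inNine v)

theorem rep_exists [Finite G] {s : G} (hs : s ∈ (D.S : Subgroup G)) : ∃ v, U.Rep v s := by
  obtain ⟨i, j, hij⟩ := (U.C.mem_S ⟨s, U.F.S_le_M₀ hs⟩).2 hs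
  obtain ⟨v, hv⟩ := nineV_basic.2.2.1 (i, j)
  exact ⟨v, U.F.S_le_M₀ hs, hij.trans hv.symm⟩

theorem rep_unique {v w : V2} {s : G} (h : U.Rep v s) (h' : U.Rep w s) : v = w :=
  nineV_basic.2.1 v w (h.2.symm.trans h'.2)

theorem rep_mul {v w : V2} {s s' : G} (h : U.Rep v s) (h' : U.Rep w s') : U.Rep (v + w) (s * s') :=
  ⟨mul_mem h.1 h'.1, by
    rw [show (⟨s * s', mul_mem h.1 h'.1⟩ : D.M₀) = ⟨s, h.1⟩ * ⟨s', h'.1⟩ from rfl, map_mul, h.2, h'.2,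
      nineV_basic.1]⟩

theorem rep_J {j : G} (hj : j ∈ D.J) : U.Rep 0 j :=
  ⟨D.J_le_M₀ hj, by rw [(U.C.ker _).2 hj, nineV_basic.2.2.2.2.2.1]⟩

theorem rep_zero {s : G} (h : U.Rep 0 s) : s ∈ D.J :=
  (U.C.ker ⟨s, h.1⟩).1 (by rw [h.2, nineV_basic.2.2.2.2.2.1])

theorem rep_congr {v : V2} {s s' : G} (h : U.Rep v s) (h' : U.Rep v s') : s⁻¹ * s' ∈ D.J :=
  (U.C.ker (⟨s, h.1⟩⁻¹ * ⟨s', h'.1⟩)).1 (by rw [map_mul, map_inv, h.2, h'.2, inv_mul_cancel])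

theorem rep_Q [Finite G] (v : V2) : ∃ q ∈ D.Q, U.Rep v q := by
  obtain ⟨s, hs⟩ := U.C.surj (nineV v)
  have hS : (s : G) ∈ (D.S : Subgroup G) := (U.C.mem_S s).1 (hs ▸ nineV_inNine v)
  obtain ⟨q, hq, i, he⟩ := U.F.S_mem hS
  refine ⟨q, hq, ?_⟩
  have h := U.rep_mul (⟨s.2, hs⟩ : U.Rep v s) (U.rep_J (inv_mem (pow_mem U.F.y_J i)))
  rwa [add_zero, he, mul_inv_cancel_right] at h

theorem mat_mul {x x' : G} {A A' : M2} (h : U.Mat x A) (h' : U.Mat x' A') : U.Mat (x * x') (A.mul A') := by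
  intro v s hs
  rw [app_mul, show x * x' * s * (x * x')⁻¹ = x * (x' * s * x'⁻¹) * x⁻¹ by group]
  exact h _ _ (h' _ _ hs)

theorem mat_unique [Finite G] {x : G} {A B : M2} (h : U.Mat x A) (h' : U.Mat x B) : A = B := by
  obtain ⟨a, -, ha⟩ := U.rep_Q (1, 0)
  obtain ⟨b, -, hb⟩ := U.rep_Q (0, 1)
  have h1 := U.rep_unique (h _ _ ha) (h' _ _ ha)
  have h2 := U.rep_unique (h _ _ hb) (h' _ _ hb)
  rw [app_e1, app_e1] at h1
  rw [app_e2, app_e2] at h2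
  exact Prod.ext h1 h2

theorem mat_exists [Finite G] {x : G} (hx : x ∈ normalizer ((D.S : Subgroup G) : Set G)) : ∃ A, U.Mat x A := by
  obtain ⟨a, haQ, ha⟩ := U.rep_Q (1, 0)
  obtain ⟨b, hbQ, hb⟩ := U.rep_Q (0, 1)
  obtain ⟨v₁, hv₁⟩ := U.rep_exists ((Subgroup.mem_normalizer_iff.1 hx a).1 (D.Q_le haQ))
  obtain ⟨v₂, hv₂⟩ := U.rep_exists ((Subgroup.mem_normalizer_iff.1 hx b).1 (D.Q_le hbQ))
  refine ⟨(v₁, v₂), fun v s hs => ?_⟩
  have hJ : x ∈ normalizer (D.J : Set G) := U.F.norm_S_J hx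
  have hS : x * s * x⁻¹ ∈ (D.S : Subgroup G) := (Subgroup.mem_normalizer_iff.1 hx s).1 (Rep.mem_S U hs)
  refine ⟨U.F.S_le_M₀ hS, ?_⟩
  set am : D.M₀ := ⟨a, ha.1⟩
  set bm : D.M₀ := ⟨b, hb.1⟩
  have hj : ((am ^ v.1.val * bm ^ v.2.val : D.M₀) : G)⁻¹ * s ∈ D.J :=
    (U.C.ker ((am ^ v.1.val * bm ^ v.2.val)⁻¹ * ⟨s, hs.1⟩)).1 (by
      have hh := nineV_app ((1, 0), (0, 1)) v
      rw [show M2.app ((1, 0), (0, 1)) v = v from app_one v] at hh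
      simp only at hh
      rw [map_mul, map_inv, map_mul, map_pow, map_pow, ha.2, hb.2, hs.2, hh, inv_mul_cancel])
  set j := ((am ^ v.1.val * bm ^ v.2.val : D.M₀) : G)⁻¹ * s
  have e : x * s * x⁻¹ = (x * a * x⁻¹) ^ v.1.val * (x * b * x⁻¹) ^ v.2.val * (x * j * x⁻¹) := by
    simp only [j, am, bm]; push_cast; rw [conj_pow, conj_pow]; group
  have hjJ := (Subgroup.mem_normalizer_iff.1 hJ j).1 hj
  rw [show (⟨x * s * x⁻¹, U.F.S_le_M₀ hS⟩ : D.M₀) =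
      ⟨_, hv₁.1⟩ ^ v.1.val * ⟨_, hv₂.1⟩ ^ v.2.val * ⟨_, D.J_le_M₀ hjJ⟩ from Subtype.ext (by push_cast; exact e),
    map_mul, map_mul, map_pow, map_pow, (U.C.ker ⟨_, D.J_le_M₀ hjJ⟩).2 hjJ, mul_one, hv₁.2, hv₂.2]
  exact nineV_app (v₁, v₂) v

theorem mat_M₀ [Finite G] (m : D.M₀) {A : M2} (h : ∀ v, U.C.φ m * nineV v * (U.C.φ m)⁻¹ = nineV (A.app v)) :
    U.Mat (m : G) A := fun v s hs =>
  ⟨mul_mem (mul_mem m.2 hs.1) (inv_mem m.2), by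
    rw [show (⟨(m : G) * s * (m : G)⁻¹, mul_mem (mul_mem m.2 hs.1) (inv_mem m.2)⟩ : D.M₀) = m * ⟨s, hs.1⟩ * m⁻¹
      from rfl, map_mul, map_mul, map_inv, hs.2, h]⟩

theorem mat_p [Finite G] : U.Mat (U.p : G) R2 := U.mat_M₀ U.p fun v => by rw [U.φp]; exact nineV_basic.2.2.2.1 v

theorem mat_t [Finite G] : U.Mat U.F.t I2.neg :=
  U.mat_M₀ ⟨U.F.t, U.C.t_M⟩ fun v => by rw [U.C.φt]; exact nineV_basic.2.2.2.2.1 v

theorem mat_J [Finite G] {j : G} (hj : j ∈ D.J) : U.Mat j I2 :=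
  U.mat_M₀ ⟨j, D.J_le_M₀ hj⟩ fun v => by rw [(U.C.ker _).2 hj, app_one]; group

theorem mat_k_sq [Finite G] {x : G} (hx : x * x = U.F.t) {K : M2} (h : U.Mat x K) : K.mul K = R2.mul R2 := by
  have h1 := U.mat_mul h h
  rw [hx] at h1
  rw [U.mat_unique h1 U.mat_t]
  decide +kernel

/-- The commutator with `y`. -/
def dq (q : G) : G := q * U.F.y * q⁻¹ * U.F.y⁻¹

/-- The iterated commutator. -/
def cc (q q' : G) : G := U.dq q * q' * (U.dq q)⁻¹ * q'⁻¹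

theorem dq_A [Finite G] {q : G} (hq : q ∈ D.Q) : U.dq q ∈ D.A := U.F.S_J_A (D.Q_le hq) U.F.y_J

theorem cc_Zc [Finite G] {q q' : G} (hq : q ∈ D.Q) (hq' : q' ∈ D.Q) : U.cc q q' ∈ D.Zc :=
  D.Q_comm _ (U.dq_A hq).2 q' hq'

theorem dq_congr [Finite G] {v : V2} {q q₂ : G} (hq : q ∈ D.Q) (hq₂ : q₂ ∈ D.Q) (h : U.Rep v q) (h₂ : U.Rep v q₂) :
    U.dq q₂ = U.dq q := by
  have ha : q⁻¹ * q₂ ∈ D.A := ⟨U.rep_congr h h₂, D.Q.mul_mem (D.Q.inv_mem hq) hq₂⟩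
  set a := q⁻¹ * q₂
  have e : a * U.F.y * a⁻¹ = U.F.y := by rw [← U.F.y_A ha, mul_inv_cancel_right]
  rw [show q₂ = q * a by simp [a]]
  simp only [dq]
  rw [show q * a * U.F.y * (q * a)⁻¹ * U.F.y⁻¹ = q * (a * U.F.y * a⁻¹) * q⁻¹ * U.F.y⁻¹ by group, e]

theorem cc_congr [Finite G] {v w : V2} {q q₂ q' q'₂ : G} (hq : q ∈ D.Q) (hq₂ : q₂ ∈ D.Q) (hq' : q' ∈ D.Q)
    (hq'₂ : q'₂ ∈ D.Q) (h : U.Rep v q) (h₂ : U.Rep v q₂) (h' : U.Rep w q') (h'₂ : U.Rep w q'₂) :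
    U.cc q₂ q'₂ = U.cc q q' := by
  have ha : q'⁻¹ * q'₂ ∈ D.A := ⟨U.rep_congr h' h'₂, D.Q.mul_mem (D.Q.inv_mem hq') hq'₂⟩
  set a := q'⁻¹ * q'₂
  rw [cc, U.dq_congr hq hq₂ h h₂, show q'₂ = q' * a by simp [a]]
  simp only [cc]
  set d := U.dq q
  have e : a * d⁻¹ * a⁻¹ = d⁻¹ := by
    rw [U.F.A_comm ha (inv_mem (U.dq_A hq)), mul_inv_cancel_right]
  calc d * (q' * a) * d⁻¹ * (q' * a)⁻¹ = d * q' * (a * d⁻¹ * a⁻¹) * q'⁻¹ := by group
    _ = _ := by rw [e]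

theorem dq_mul [Finite G] {q₁ q₂ : G} (h₁ : q₁ ∈ D.Q) (h₂ : q₂ ∈ D.Q) :
    ∃ c ∈ D.Zc, U.dq (q₁ * q₂) = c * (U.dq q₂ * U.dq q₁) := by
  refine ⟨q₁ * U.dq q₂ * q₁⁻¹ * (U.dq q₂)⁻¹, U.F.S_A_Zc (D.Q_le h₁) (U.dq_A h₂), ?_⟩
  simp only [dq]; group

theorem cc_mul_left [Finite G] {q₁ q₂ q' : G} (h₁ : q₁ ∈ D.Q) (h₂ : q₂ ∈ D.Q) (h' : q' ∈ D.Q) :
    U.cc (q₁ * q₂) q' = U.cc q₁ q' * U.cc q₂ q' := by
  obtain ⟨c, hc, e⟩ := U.dq_mul h₁ h₂
  have hcc := U.cc_Zc h₁ h'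
  have hcc2 := U.cc_Zc h₂ h'
  have hq'c : q' * c = c * q' := D.comm_Zc (D.Q_z h') hc
  set a := U.dq q₁
  set b := U.dq q₂
  rw [cc, e]
  calc c * (b * a) * q' * (c * (b * a))⁻¹ * q'⁻¹
      = c * (b * (a * q' * a⁻¹ * q'⁻¹) * b⁻¹) * (b * q' * b⁻¹) * c⁻¹ * q'⁻¹ := by group
    _ = c * U.cc q₁ q' * U.cc q₂ q' * (q' * c⁻¹ * q'⁻¹) := by
      rw [show a * q' * a⁻¹ * q'⁻¹ = U.cc q₁ q' from rfl, D.conj_comm (D.Q_z (U.dq_A h₂).2) hcc,
        show b * q' * b⁻¹ = U.cc q₂ q' * q' by simp [cc, b]]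
      group
    _ = U.cc q₁ q' * U.cc q₂ q' := by
      rw [D.conj_comm (D.Q_z h') (inv_mem hc)]
      have h : Commute c (U.cc q₁ q' * U.cc q₂ q') := by
        obtain ⟨i, -, ei⟩ := D.mem_Zc.1 hc
        obtain ⟨j, -, ej⟩ := D.mem_Zc.1 (mul_mem hcc hcc2)
        rw [ei, ej]
        exact Commute.pow_pow (Commute.refl _) i j
      rw [mul_assoc c, h.eq, mul_inv_cancel_right]

theorem cc_mul_right [Finite G] {q q₁ q₂ : G} (hq : q ∈ D.Q) (h₁ : q₁ ∈ D.Q) (h₂ : q₂ ∈ D.Q) :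
    U.cc q (q₁ * q₂) = U.cc q q₁ * U.cc q q₂ := by
  have h := D.conj_comm (D.Q_z h₁) (U.cc_Zc hq h₂)
  set d := U.dq q
  calc d * (q₁ * q₂) * d⁻¹ * (q₁ * q₂)⁻¹
      = d * q₁ * d⁻¹ * q₁⁻¹ * (q₁ * (d * q₂ * d⁻¹ * q₂⁻¹) * q₁⁻¹) := by group
    _ = _ := by rw [show d * q₂ * d⁻¹ * q₂⁻¹ = U.cc q q₂ from rfl, h]; rfl

theorem dq_pow [Finite G] {q : G} (hq : q ∈ D.Q) (n : ℕ) :
    q * U.F.y ^ n * q⁻¹ * (U.F.y ^ n)⁻¹ = U.dq q ^ n := by
  have e : q * U.F.y * q⁻¹ = U.dq q * U.F.y := by simp [dq]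
  have hc : Commute (U.dq q) U.F.y := (show Commute U.F.y (U.dq q) from U.F.y_A (U.dq_A hq)).symm
  rw [← conj_pow, e, hc.mul_pow, mul_inv_cancel_right]

theorem cc_pow [Finite G] {q q' : G} (hq : q ∈ D.Q) (hq' : q' ∈ D.Q) (n : ℕ) :
    U.dq q ^ n * q' * (U.dq q ^ n)⁻¹ * q'⁻¹ = U.cc q q' ^ n := by
  have h := pow_conj_mul (x := U.dq q) (q := q') (c := U.cc q q') (by simp [cc])
    (D.comm_Zc (D.Q_z (U.dq_A hq).2) (U.cc_Zc hq hq')) n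
  rw [h, mul_inv_cancel_right]

/-- A chosen representative in the core. -/
noncomputable def rq [Finite G] (v : V2) : G := (U.rep_Q v).choose

theorem rq_Q [Finite G] (v : V2) : U.rq v ∈ D.Q := (U.rep_Q v).choose_spec.1

theorem rq_rep [Finite G] (v : V2) : U.Rep v (U.rq v) := (U.rep_Q v).choose_spec.2

/-- The form. -/
noncomputable def beta [Finite G] (v w : V2) : ZMod 3 := D.expo (U.cc (U.rq v) (U.rq w))

theorem beta_eq [Finite G] {v w : V2} {q q' : G} (hq : q ∈ D.Q) (hq' : q' ∈ D.Q) (h : U.Rep v q) (h' : U.Rep w q') :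
    D.expo (U.cc q q') = U.beta v w := by
  rw [beta, U.cc_congr (U.rq_Q v) hq (U.rq_Q w) hq' (U.rq_rep v) h (U.rq_rep w) h']

/-- Its matrix. -/
noncomputable def formB [Finite G] : M2 :=
  ((U.beta (1, 0) (1, 0), U.beta (0, 1) (1, 0)), (U.beta (1, 0) (0, 1), U.beta (0, 1) (0, 1)))

theorem beta_bil [Finite G] (v w : V2) : U.beta v w = bil U.formB v w := by
  have hl : ∀ w v v', U.beta (v + v') w = U.beta v w + U.beta v' w := by
    intro w v v'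
    rw [← U.beta_eq (mul_mem (U.rq_Q v) (U.rq_Q v')) (U.rq_Q w) (U.rep_mul (U.rq_rep v) (U.rq_rep v')) (U.rq_rep w),
      U.cc_mul_left (U.rq_Q v) (U.rq_Q v') (U.rq_Q w),
      D.expo_mul (U.cc_Zc (U.rq_Q v) (U.rq_Q w)) (U.cc_Zc (U.rq_Q v') (U.rq_Q w))]
    rfl
  have hr : ∀ v w w', U.beta v (w + w') = U.beta v w + U.beta v w' := by
    intro v w w'
    rw [← U.beta_eq (U.rq_Q v) (mul_mem (U.rq_Q w) (U.rq_Q w')) (U.rq_rep v) (U.rep_mul (U.rq_rep w) (U.rq_rep w')),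
      U.cc_mul_right (U.rq_Q v) (U.rq_Q w) (U.rq_Q w'),
      D.expo_mul (U.cc_Zc (U.rq_Q v) (U.rq_Q w)) (U.cc_Zc (U.rq_Q v) (U.rq_Q w'))]
    rfl
  have h0l : ∀ w, U.beta 0 w = 0 := fun w => by have := hl w 0 0; rwa [add_zero, left_eq_add] at this
  have h0r : ∀ v, U.beta v 0 = 0 := fun v => by have := hr v 0 0; rwa [add_zero, left_eq_add] at this
  rw [additive_ext (fun v => U.beta v w) (hl w) (h0l w) v,
    additive_ext (fun w => U.beta (1, 0) w) (hr _) (h0r _) w,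
    additive_ext (fun w => U.beta (0, 1) w) (hr _) (h0r _) w]
  simp only [nsmul_eq_mul, ZMod.natCast_val, ZMod.cast_id', id_eq, bil, formB, M2.app]

/-- The action on the two lines. -/
def Act (x : G) (ε ζ : ZMod 3) : Prop :=
  x ∈ normalizer ((D.S : Subgroup G) : Set G) ∧ x * U.F.y * x⁻¹ = U.F.y ^ ε.val ∧ x * D.z * x⁻¹ = D.z ^ ζ.val ∧
    ε * ε = 1

theorem dq_conj [Finite G] {x : G} {ε ζ : ZMod 3} (hx : U.Act x ε ζ) {q : G} (hq : q ∈ D.Q) :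
    U.dq (x * q * x⁻¹) = x * U.dq q ^ ε.val * x⁻¹ := by
  have hy : U.F.y = x * U.F.y ^ ε.val * x⁻¹ := by
    rw [← conj_pow, hx.2.1, ← pow_mul, pow_eq_pow_mod (ε.val * ε.val) U.F.y_cube, ← ZMod.val_mul, hx.2.2.2,
      show (1 : ZMod 3).val = 1 from rfl, pow_one]
  rw [← U.dq_pow hq]
  show x * q * x⁻¹ * U.F.y * (x * q * x⁻¹)⁻¹ * U.F.y⁻¹ = _
  nth_rw 1 2 [hy]
  group

theorem act_simil [Finite G] {x : G} {ε ζ : ZMod 3} (hx : U.Act x ε ζ) {A : M2} (hA : U.Mat x A) :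
    Simil U.formB A (ε * ζ) := by
  have key : ∀ v w, U.beta (A.app v) (A.app w) = ε * ζ * U.beta v w := by
    intro v w
    have hxQ : x ∈ normalizer (D.Zc : Set G) := U.F.norm_S_z hx.1
    rw [← U.beta_eq (D.norm_Q hxQ (U.rq_Q v)) (D.norm_Q hxQ (U.rq_Q w)) (hA _ _ (U.rq_rep v)) (hA _ _ (U.rq_rep w))]
    have e : U.cc (x * U.rq v * x⁻¹) (x * U.rq w * x⁻¹) = x * U.cc (U.rq v) (U.rq w) ^ ε.val * x⁻¹ := by
      rw [← U.cc_pow (U.rq_Q v) (U.rq_Q w), cc, U.dq_conj hx (U.rq_Q v)]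
      group
    have hc := D.eq_of_expo (U.cc_Zc (U.rq_Q v) (U.rq_Q w))
    rw [e, hc, ← pow_mul, ← conj_pow, hx.2.2.1, ← pow_mul, D.expo_pow]
    push_cast
    simp only [ZMod.natCast_val, ZMod.cast_id', id_eq, beta]
    ring
  have h11 := key (1, 0) (1, 0); have h12 := key (1, 0) (0, 1)
  have h21 := key (0, 1) (1, 0); have h22 := key (0, 1) (0, 1)
  simp only [app_e1, app_e2, beta_bil] at h11 h12 h21 h22
  exact ⟨h11, h12, h21, h22⟩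

theorem formB_ne [Finite G] : U.formB ≠ ((0, 0), (0, 0)) := by
  intro h
  have hQA : D.Q ≤ D.A := by
    intro q hq
    rw [U.F.A_eq]
    refine ⟨hq, ?_⟩
    have hd : U.dq q ∈ D.Zc := by
      refine D.Q_centre _ (U.dq_A hq).2 fun q' hq' => ?_
      obtain ⟨v, hv⟩ := U.rep_exists (D.Q_le hq)
      obtain ⟨w, hw⟩ := U.rep_exists (D.Q_le hq')
      have hb := U.beta_eq hq hq' hv hw
      rw [beta_bil, h] at hb
      have h0 : bil ((0, 0), (0, 0)) v w = 0 := by simp [bil, M2.app]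
      have h1 := D.eq_of_expo (U.cc_Zc hq hq')
      rw [hb, h0, ZMod.val_zero, pow_zero] at h1
      exact mul_inv_eq_iff_eq_mul.1 (mul_inv_eq_one.1 h1)
    have e : U.F.y * q * U.F.y⁻¹ * q⁻¹ = (U.dq q)⁻¹ := by simp [dq, mul_assoc]
    rw [e]
    exact inv_mem hd
  have := card_le_of_le hQA
  rw [D.Q_card, U.F.card_A] at this
  omega

theorem act_t [Finite G] : U.Act U.F.t 1 1 :=
  ⟨U.F.t_norm_S, by rw [← U.F.y_t, mul_inv_cancel_right]; exact (pow_one _).symm,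
    by rw [U.F.t_z, mul_inv_cancel_right]; exact (pow_one _).symm, one_mul 1⟩

theorem act_k [Finite G] : U.Act U.F.k (-1) 1 :=
  ⟨U.F.k_norm_S, by
    rw [U.F.k_y, show ((-1 : ZMod 3)).val = 2 from rfl]
    exact inv_eq_of_mul_eq_one_left (by rw [← pow_succ]; exact U.F.y_cube),
    by rw [U.F.k_z, mul_inv_cancel_right]; exact (pow_one _).symm, by decide⟩

theorem act_p [Finite G] : U.Act (U.p : G) (-1) (-1) :=
  ⟨U.p_S, by
    rw [U.p_y, show ((-1 : ZMod 3)).val = 2 from rfl]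
    exact inv_eq_of_mul_eq_one_left (by rw [← pow_succ]; exact U.F.y_cube),
    by
    rw [U.p_z, show ((-1 : ZMod 3)).val = 2 from rfl]
    exact inv_eq_of_mul_eq_one_left (by rw [← pow_succ]; exact D.z_cube), by decide⟩

/-- The matrix of `k`. -/
theorem k_mat [Finite G] : ∃ K : M2, U.Mat U.F.k K ∧ K.mul K = R2.mul R2 ∧ Simil I2 K (-1) ∧
    (U.formB = I2 ∨ U.formB = I2.neg) := by
  obtain ⟨K, hK⟩ := U.mat_exists U.F.k_norm_S
  have h1 := U.mat_k_sq U.F.k_sq hK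
  have h2 := U.act_simil U.act_k hK
  rw [mul_one] at h2
  have h3 : Simil U.formB R2 1 := by
    have h := U.act_simil U.act_p U.mat_p
    rwa [neg_one_mul, neg_neg] at h
  have h4 := form_std U.formB h3 U.formB_ne ⟨K, h1, h2⟩
  refine ⟨K, hK, h1, ?_, h4⟩
  rcases h4 with e | e <;> rw [e] at h2
  exacts [h2, simil_neg _ _ h2]

theorem simil_std [Finite G] {x : G} {ε ζ : ZMod 3} (hx : U.Act x ε ζ) {A : M2} (hA : U.Mat x A) :
    Simil I2 A (ε * ζ) := by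
  obtain ⟨K, -, -, -, h4⟩ := U.k_mat
  have h2 := U.act_simil hx hA
  rcases h4 with e | e <;> rw [e] at h2
  exacts [h2, simil_neg _ _ h2]

end Full

end CfsgLib.McLThree
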