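import Cfsg.Agent.Lib.McLThree.EightFacts
import Mathlib.Tactic.Group

/-!
A double cover of the symmetric group of degree eight in which transpositions and double transpositions
lift to elements of order four.
-/

set_option autoImplicit false
set_option maxRecDepth 100000

namespace CfsgLib.McLThree

open Equiv Equiv.Perm

theorem transp_facts : ∀ i : Fin 4, (![s1, s2, s3, s4] i).support.card = 2 ∧ sign (![s1, s2, s3, s4] i) = -1 ∧
    ∀ j : Fin 4, i ≠ j → (![s1, s2, s3, s4] i * ![s1, s2, s3, s4] j).support.card = 4 ∧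
      (![s1, s2, s3, s4] i * ![s1, s2, s3, s4] j) * (![s1, s2, s3, s4] i * ![s1, s2, s3, s4] j) = 1 := by
  decide +kernel

/-- The cover. -/
structure Cov (H : Type*) [Group H] where
  /-- the map -/
  f : H →* Perm (Fin 8)
  /-- onto -/
  surj : Function.Surjective f
  /-- the central involution -/
  τ : H
  /-- central -/
  central : ∀ x, x * τ = τ * x
  /-- not trivial -/
  τ_ne : τ ≠ 1
  /-- the kernel -/
  ker : ∀ x, f x = 1 ↔ x = 1 ∨ x = τ
  /-- a transposition -/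
  a₀ : H
  /-- its image -/
  a₀_supp : (f a₀).support.card = 2
  /-- its square -/
  a₀_sq : a₀ * a₀ = τ
  /-- a double transposition -/
  b₀ : H
  /-- its image -/
  b₀_supp : (f b₀).support.card = 4
  /-- its square -/
  b₀_sq : b₀ * b₀ = τ

namespace Cov

variable {H : Type*} [Group H] (C : Cov H)

include C

theorem τ_sq : C.τ * C.τ = 1 := by
  rcases (C.ker (C.τ * C.τ)).1 (by rw [map_mul, (C.ker C.τ).2 (Or.inr rfl), one_mul]) with e | e
  · exact e
  · exact absurd (mul_eq_left.1 e) C.τ_ne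

theorem eq_or {x y : H} (h : C.f x = C.f y) : x = y ∨ x = y * C.τ := by
  rcases (C.ker (y⁻¹ * x)).1 (by rw [map_mul, map_inv, h, inv_mul_cancel]) with e | e
  · exact Or.inl (inv_mul_eq_one.1 e).symm
  · exact Or.inr (by rw [← e, mul_inv_cancel_left])

/-- Elements with conjugate involutive images and the same square. -/
theorem sq_class {x w : H} (hw : C.f w * C.f w = 1) (hw1 : C.f w ≠ 1) (hx : C.f x * C.f x = 1) (hx1 : C.f x ≠ 1)
    (hc : (C.f x).support.card = (C.f w).support.card) (hwτ : w * w = C.τ) : x * x = C.τ := by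
  obtain ⟨k, hk, c, hcc⟩ := invol_std hw hw1
  obtain ⟨k', hk', c', hcc'⟩ := invol_std hx hx1
  obtain rfl : k = k' := Fin.ext (by omega)
  obtain ⟨v, hv⟩ := C.surj (c' * c⁻¹)
  have hsq : v * w * v⁻¹ * (v * w * v⁻¹) = C.τ := by
    rw [show v * w * v⁻¹ * (v * w * v⁻¹) = v * (w * w) * v⁻¹ by group, hwτ, C.central, mul_inv_cancel_right]
  rcases C.eq_or (x := x) (y := v * w * v⁻¹) (by
    rw [map_mul, map_mul, map_inv, hv, ← hcc', ← hcc]; group) with e | e
  · rw [e]; exact hsq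
  · rw [e, show v * w * v⁻¹ * C.τ * (v * w * v⁻¹ * C.τ) = v * w * v⁻¹ * (C.τ * (v * w * v⁻¹)) * C.τ by group,
      ← C.central, ← mul_assoc, hsq, C.τ_sq, one_mul]

/-- Anticommuting. -/
def Anti (x y : H) : Prop := y * x = x * y * C.τ

theorem Anti.symm {x y : H} (h : C.Anti x y) : C.Anti y x := by
  unfold Anti at h ⊢
  rw [h, mul_assoc (x * y), C.τ_sq, mul_one]

theorem anti_anti {x a b : H} (ha : C.Anti x a) (hb : C.Anti x b) : x * (a * b) = a * b * x := by
  unfold Anti at ha hb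
  rw [mul_assoc a b x, hb, ← mul_assoc a, ← mul_assoc a, ha, mul_assoc (x * a) C.τ, ← C.central,
    show x * a * (b * C.τ) * C.τ = x * a * b * (C.τ * C.τ) by group, C.τ_sq, mul_one, mul_assoc]

theorem comm_anti {x a b : H} (ha : Commute x a) (hb : C.Anti x b) : C.Anti x (a * b) := by
  unfold Anti at hb ⊢
  rw [mul_assoc a b x, hb, ← mul_assoc a, ← mul_assoc a, ← ha.eq, mul_assoc x a b]

theorem anti_comm {x a b : H} (ha : C.Anti x a) (hb : Commute x b) : C.Anti x (a * b) := by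
  unfold Anti at ha ⊢
  rw [mul_assoc a b x, ← hb.eq, ← mul_assoc, ha, mul_assoc (x * a) C.τ, ← C.central,
    show x * a * (b * C.τ) = x * (a * b) * C.τ by group]

/-- Lifts of four disjoint transpositions. -/
noncomputable def L (i : Fin 4) : H := (C.surj (![s1, s2, s3, s4] i)).choose

theorem L_f (i : Fin 4) : C.f (C.L i) = ![s1, s2, s3, s4] i := (C.surj (![s1, s2, s3, s4] i)).choose_spec

theorem L_sq (i : Fin 4) : C.L i * C.L i = C.τ := by
  obtain ⟨hc, -, -⟩ := transp_facts i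
  refine C.sq_class (w := C.a₀) ?_ ?_ ?_ ?_ ?_ C.a₀_sq
  · rw [← map_mul, C.a₀_sq]; exact (C.ker _).2 (Or.inr rfl)
  · intro e; have := C.a₀_supp; rw [e, support_one, Finset.card_empty] at this; omega
  · rw [C.L_f]; revert i; decide +kernel
  · intro e; rw [C.L_f] at e; rw [e, support_one, Finset.card_empty] at hc; omega
  · rw [C.L_f, hc, C.a₀_supp]

theorem pair_sq {i j : Fin 4} (h : i ≠ j) : C.L i * C.L j * (C.L i * C.L j) = C.τ := by
  obtain ⟨hc, hs⟩ := (transp_facts i).2.2 j h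
  refine C.sq_class (w := C.b₀) ?_ ?_ ?_ ?_ ?_ C.b₀_sq
  · rw [← map_mul, C.b₀_sq]; exact (C.ker _).2 (Or.inr rfl)
  · intro e; have := C.b₀_supp; rw [e, support_one, Finset.card_empty] at this; omega
  · rw [map_mul, C.L_f, C.L_f]; exact hs
  · intro e; rw [map_mul, C.L_f, C.L_f] at e; rw [e, support_one, Finset.card_empty] at hc; omega
  · rw [map_mul, C.L_f, C.L_f, hc, C.b₀_supp]

theorem L_anti {i j : Fin 4} (h : i ≠ j) : C.Anti (C.L i) (C.L j) := by
  have hi : (C.L i)⁻¹ = C.L i * C.τ := inv_eq_of_mul_eq_one_right (by rw [← mul_assoc, C.L_sq, C.τ_sq])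
  have hj : (C.L j)⁻¹ = C.L j * C.τ := inv_eq_of_mul_eq_one_right (by rw [← mul_assoc, C.L_sq, C.τ_sq])
  unfold Anti
  calc C.L j * C.L i = (C.L i)⁻¹ * (C.L i * C.L j * (C.L i * C.L j)) * (C.L j)⁻¹ := by group
    _ = C.L i * (C.τ * C.τ) * (C.L j * C.τ) := by rw [C.pair_sq h, hi, hj]; group
    _ = C.L i * C.L j * C.τ := by rw [C.τ_sq]; group

/-- The lift of a product of three transpositions. -/
noncomputable def W3 : H := C.L 0 * C.L 1 * C.L 2

/-- The lift of a product of four transpositions. -/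
noncomputable def W4 : H := C.W3 * C.L 3

theorem W3_f : C.f C.W3 = invStd 2 := by
  rw [W3, map_mul, map_mul, C.L_f, C.L_f, C.L_f]; rfl

theorem W4_f : C.f C.W4 = invStd 3 := by
  rw [W4, map_mul, C.W3_f, C.L_f]; rfl

theorem two_comm_L2 : C.L 2 * (C.L 0 * C.L 1) = C.L 0 * C.L 1 * C.L 2 :=
  C.anti_anti (C.L_anti (by decide)) (C.L_anti (by decide))

theorem L_W3_comm : Commute (C.L 0) C.W3 ∧ Commute (C.L 1) C.W3 ∧ Commute (C.L 2) C.W3 ∧ C.Anti (C.L 3) C.W3 := by
  refine ⟨?_, ?_, ?_, ?_⟩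
  · exact C.anti_anti (C.comm_anti (Commute.refl _) (C.L_anti (by decide))) (C.L_anti (by decide))
  · exact C.anti_anti (C.anti_comm (C.L_anti (by decide)) (Commute.refl _)) (C.L_anti (by decide))
  · exact (show Commute (C.L 2) (C.L 0 * C.L 1) from
      C.anti_anti (C.L_anti (by decide)) (C.L_anti (by decide))).mul_right (Commute.refl _)
  · exact C.comm_anti (C.anti_anti (C.L_anti (by decide)) (C.L_anti (by decide))) (C.L_anti (by decide))

theorem L_W4_anti : C.Anti (C.L 0) C.W4 ∧ C.Anti (C.L 1) C.W4 ∧ C.Anti (C.L 2) C.W4 := by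
  obtain ⟨h0, h1, h2, -⟩ := C.L_W3_comm
  exact ⟨C.comm_anti h0 (C.L_anti (by decide)), C.comm_anti h1 (C.L_anti (by decide)),
    C.comm_anti h2 (C.L_anti (by decide))⟩

theorem W3_sq : C.W3 * C.W3 = 1 := by
  have h : Commute (C.L 2) (C.L 0 * C.L 1) := C.two_comm_L2
  calc C.W3 * C.W3 = C.L 0 * C.L 1 * (C.L 2 * (C.L 0 * C.L 1)) * C.L 2 := by simp only [W3]; group
    _ = C.L 0 * C.L 1 * (C.L 0 * C.L 1) * (C.L 2 * C.L 2) := by rw [h.eq]; group
    _ = 1 := by rw [C.pair_sq (by decide), C.L_sq, C.τ_sq]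

theorem W4_sq : C.W4 * C.W4 = 1 := by
  have h : C.W3 * C.L 3 = C.L 3 * C.W3 * C.τ := C.L_W3_comm.2.2.2
  calc C.W4 * C.W4 = C.W3 * (C.L 3 * C.W3) * C.L 3 := by simp only [W4]; group
    _ = C.W3 * (C.W3 * C.L 3 * C.τ) * C.L 3 := by
      rw [h, mul_assoc (C.L 3 * C.W3), C.τ_sq, mul_one]
    _ = C.W3 * C.W3 * C.L 3 * (C.τ * C.L 3) := by group
    _ = 1 := by rw [C.W3_sq, ← C.central, one_mul, ← mul_assoc, C.L_sq, C.τ_sq]

/-- The shape of an involution. -/
theorem invol_shape {w : H} (h2 : w * w = 1) (h1 : w ≠ 1) (hτ : w ≠ C.τ) :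
    ∃ W, (W = C.W3 ∨ W = C.W4) ∧ ∃ v, w = v * W * v⁻¹ ∨ w = v * W * v⁻¹ * C.τ := by
  have hf1 : C.f w ≠ 1 := fun e => ((C.ker w).1 e).elim h1 hτ
  have hf2 : C.f w * C.f w = 1 := by rw [← map_mul, h2, map_one]
  obtain ⟨k, hk, c, hc⟩ := invol_std hf2 hf1
  obtain ⟨v, hv⟩ := C.surj c
  fin_cases k
  · refine absurd ?_ C.τ_ne
    rw [← C.sq_class (w := C.a₀) (by rw [← map_mul, C.a₀_sq]; exact (C.ker _).2 (Or.inr rfl))
      (fun e => by have := C.a₀_supp; rw [e, support_one, Finset.card_empty] at this; omega) hf2 hf1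
      (by rw [C.a₀_supp, hk]; rfl) C.a₀_sq, h2]
  · refine absurd ?_ C.τ_ne
    rw [← C.sq_class (w := C.b₀) (by rw [← map_mul, C.b₀_sq]; exact (C.ker _).2 (Or.inr rfl))
      (fun e => by have := C.b₀_supp; rw [e, support_one, Finset.card_empty] at this; omega) hf2 hf1
      (by rw [C.b₀_supp, hk]; rfl) C.b₀_sq, h2]
  · exact ⟨C.W3, Or.inl rfl, v, C.eq_or (by rw [map_mul, map_mul, map_inv, C.W3_f, hv]; exact hc.symm)⟩
  · exact ⟨C.W4, Or.inr rfl, v, C.eq_or (by rw [map_mul, map_mul, map_inv, C.W4_f, hv]; exact hc.symm)⟩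

/-- The central involution is a commutator of elements centralising any other involution. -/
theorem exists_comm {w : H} (h2 : w * w = 1) (h1 : w ≠ 1) (hτ : w ≠ C.τ) :
    ∃ u v, Commute u w ∧ Commute v w ∧ u * v * u⁻¹ * v⁻¹ = C.τ := by
  obtain ⟨W, hW, v, hv⟩ := C.invol_shape h2 h1 hτ
  have hP : Commute (C.L 0 * C.L 1) W ∧ Commute (C.L 0 * C.L 2) W := by
    rcases hW with rfl | rfl
    · obtain ⟨h0, h1, h2, -⟩ := C.L_W3_comm
      exact ⟨h0.mul_left h1, h0.mul_left h2⟩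
    · obtain ⟨h0, h1, h2⟩ := C.L_W4_anti
      exact ⟨(show Commute C.W4 _ from C.anti_anti h0.symm h1.symm).symm,
        (show Commute C.W4 _ from C.anti_anti h0.symm h2.symm).symm⟩
  have key : ∀ x, Commute x W → Commute (v * x * v⁻¹) w := by
    intro x hx
    have hc : Commute (v * x * v⁻¹) (v * W * v⁻¹) := by
      show _ = _
      calc v * x * v⁻¹ * (v * W * v⁻¹) = v * (x * W) * v⁻¹ := by group
        _ = _ := by rw [hx.eq]; group
    rcases hv with e | e <;> rw [e]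
    · exact hc
    · exact hc.mul_right (C.central _)
  refine ⟨_, _, key _ hP.1, key _ hP.2, ?_⟩
  have ha : C.Anti (C.L 0 * C.L 1) (C.L 0 * C.L 2) := by
    refine C.anti_comm ?_ ?_
    · exact (C.comm_anti (Commute.refl (C.L 0)) (C.L_anti (i := 0) (j := 1) (by decide))).symm
    · exact C.two_comm_L2.symm
  have ha' := ha.symm
  unfold Anti at ha'
  set P := C.L 0 * C.L 1
  set R := C.L 0 * C.L 2
  calc v * P * v⁻¹ * (v * R * v⁻¹) * (v * P * v⁻¹)⁻¹ * (v * R * v⁻¹)⁻¹ = v * (P * R * (P⁻¹ * R⁻¹)) * v⁻¹ := by group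
    _ = v * (R * P * (C.τ * (P⁻¹ * R⁻¹))) * v⁻¹ := by rw [ha']; group
    _ = v * C.τ * v⁻¹ := by rw [← C.central (P⁻¹ * R⁻¹)]; group
    _ = C.τ := by rw [C.central, mul_inv_cancel_right]

/-- An involution is conjugate to its product with the central one. -/
theorem exists_flip {w : H} (h2 : w * w = 1) (h1 : w ≠ 1) (hτ : w ≠ C.τ) : ∃ x, x * w * x⁻¹ = w * C.τ := by
  obtain ⟨W, hW, v, hv⟩ := C.invol_shape h2 h1 hτ
  obtain ⟨x, hx⟩ : ∃ x, C.Anti x W := by
    rcases hW with rfl | rfl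
    · exact ⟨_, C.L_W3_comm.2.2.2⟩
    · exact ⟨_, C.L_W4_anti.1⟩
  have hx' : x * W * x⁻¹ = W * C.τ := by
    have h := hx.symm
    unfold Anti at h
    rw [h, mul_assoc (W * x), ← C.central x⁻¹, show W * x * (x⁻¹ * C.τ) = W * C.τ by group]
  refine ⟨v * x * v⁻¹, ?_⟩
  have key : v * x * v⁻¹ * (v * W * v⁻¹) * (v * x * v⁻¹)⁻¹ = v * W * v⁻¹ * C.τ := by
    calc v * x * v⁻¹ * (v * W * v⁻¹) * (v * x * v⁻¹)⁻¹ = v * (x * W * x⁻¹) * v⁻¹ := by group
      _ = v * W * (C.τ * v⁻¹) := by rw [hx']; group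
      _ = _ := by rw [← C.central]; group
  rcases hv with e | e <;> rw [e]
  · exact key
  · set u := v * x * v⁻¹
    set Y := v * W * v⁻¹
    rw [show u * (Y * C.τ) * u⁻¹ = u * Y * (C.τ * u⁻¹) by group, ← C.central,
      show u * Y * (u⁻¹ * C.τ) = u * Y * u⁻¹ * C.τ by group, key]

theorem sign_W : sign (C.f C.W3) = -1 ∧ sign (C.f C.W4) = 1 := by
  rw [C.W3_f, C.W4_f]; decide +kernel

theorem sign_τ : sign (C.f C.τ) = 1 := by rw [(C.ker C.τ).2 (Or.inr rfl), map_one]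

/-- The even involutions other than the central one are conjugate. -/
theorem even_conj {w w' : H} (h2 : w * w = 1) (h1 : w ≠ 1) (hτ : w ≠ C.τ) (hs : sign (C.f w) = 1)
    (h2' : w' * w' = 1) (h1' : w' ≠ 1) (hτ' : w' ≠ C.τ) (hs' : sign (C.f w') = 1) : ∃ x, x * w * x⁻¹ = w' := by
  have key : ∀ w, w * w = 1 → w ≠ 1 → w ≠ C.τ → sign (C.f w) = 1 → ∃ x, x * C.W4 * x⁻¹ = w := by
    intro w h2 h1 hτ hs
    obtain ⟨W, hW, v, hv⟩ := C.invol_shape h2 h1 hτ
    have hW4 : W = C.W4 := by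
      rcases hW with rfl | rfl
      · exfalso
        have e : sign (C.f w) = sign (C.f C.W3) := by
          rcases hv with e | e
          · rw [e, map_mul, map_mul, map_inv, map_mul, map_mul, map_inv, mul_right_comm, mul_inv_cancel, one_mul]
          · rw [e, map_mul, map_mul, map_mul, map_inv, map_mul, map_mul, map_mul, map_inv, C.sign_τ, mul_one,
              mul_right_comm, mul_inv_cancel, one_mul]
        rw [hs, C.sign_W.1] at e
        exact absurd e (by decide)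
      · rfl
    subst hW4
    rcases hv with e | e
    · exact ⟨v, e.symm⟩
    · refine ⟨v * C.L 0, ?_⟩
      have h : C.L 0 * C.W4 = C.W4 * C.L 0 * C.τ := by
        have h := C.L_W4_anti.1.symm
        exact h
      rw [e, show v * C.L 0 * C.W4 * (v * C.L 0)⁻¹ = v * (C.L 0 * C.W4) * (C.L 0)⁻¹ * v⁻¹ by group, h,
        show v * (C.W4 * C.L 0 * C.τ) * (C.L 0)⁻¹ * v⁻¹ = v * C.W4 * C.L 0 * (C.τ * ((C.L 0)⁻¹ * v⁻¹)) by group,
        ← C.central]
      group
  obtain ⟨x, rfl⟩ := key w h2 h1 hτ hs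
  obtain ⟨x', rfl⟩ := key w' h2' h1' hτ' hs'
  exact ⟨x' * x⁻¹, by group⟩

theorem odd_invol : ∃ w : H, w * w = 1 ∧ sign (C.f w) = -1 := ⟨C.W3, C.W3_sq, C.sign_W.1⟩

end Cov

end CfsgLib.McLThree
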