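import Cfsg.Agent.Lib.McLThree.Bar
import Cfsg.Agent.Lib.McLThree.EightCover
import Mathlib.GroupTheory.Perm.Support

/-!
The centralizer of `t` as a double cover of the symmetric group of degree eight.
-/

set_option autoImplicit false
set_option synthInstance.maxSize 2000
set_option maxRecDepth 20000

namespace CfsgLib.McLThree

open Subgroup Equiv Equiv.Perm

universe u

theorem a6_g_t : ∃ h : A6, h * g6 * h⁻¹ = t6 := by decide +kernel

theorem a6_ne : g6 ≠ 1 ∧ g6 ≠ t6 ∧ g6 * g6 * g6 = g6 := by decide +kernel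

theorem card_cent_map {H K : Type*} [Group H] [Group K] (e : H ≃* K) (x : H) :
    Nat.card (Subgroup.centralizer ({e x} : Set K)) = Nat.card (Subgroup.centralizer ({x} : Set H)) :=
  Nat.card_congr
    { toFun := fun w => ⟨e.symm w, mem_centralizer_singleton_iff.2 (e.injective (by
        rw [map_mul, map_mul, MulEquiv.apply_symm_apply]; exact mem_centralizer_singleton_iff.1 w.2))⟩
      invFun := fun w => ⟨e w, mem_centralizer_singleton_iff.2 (by
        rw [← map_mul, ← map_mul, mem_centralizer_singleton_iff.1 w.2])⟩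
      left_inv := fun w => Subtype.ext (e.apply_symm_apply _)
      right_inv := fun w => Subtype.ext (e.symm_apply_apply _) }

namespace Full

variable {G : Type u} [Group G] {D : Setting G} (U : Full D)

include U

theorem exists_cov [Finite G] (hc : centralizer ({U.yp} : Set G) ≤ normalizer (D.J : Set G)) (E : U.Rot) :
    ∃ C : Cov U.Ct, C.τ = ⟨U.F.t, U.t_Ct⟩ ∧
      sign (C.f ⟨U.F.k, mem_centralizer_singleton_iff.2 U.F.k_t⟩) = 1 := by
  obtain ⟨e⟩ := U.bar_S8 hc E
  set f : U.Ct →* Perm (Fin 8) := e.toMonoidHom.comp U.bar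
  have hsurj : Function.Surjective f := e.surjective.comp (QuotientGroup.mk'_surjective _)
  have hker : ∀ x : U.Ct, f x = 1 ↔ x = 1 ∨ x = ⟨U.F.t, U.t_Ct⟩ := fun x =>
    (MulEquiv.map_eq_one_iff e).trans (U.bar_one.trans
      ⟨fun h => h.imp (fun e' => Subtype.ext e') (fun e' => Subtype.ext e'),
        fun h => h.imp (fun e' => congrArg Subtype.val e') (fun e' => congrArg Subtype.val e')⟩)
  set zc : U.Ct := ⟨D.z, mem_centralizer_singleton_iff.2 U.F.t_z.symm⟩
  set yc : U.Ct := ⟨U.F.y, mem_centralizer_singleton_iff.2 U.F.y_t⟩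
  set gc : U.Ct := ⟨U.g, mem_centralizer_singleton_iff.2 U.g_t⟩
  set ec : U.Ct := ⟨E.e, mem_centralizer_singleton_iff.2 (U.mem_CD.1 E.mem).2.2⟩
  set kc : U.Ct := ⟨U.F.k, mem_centralizer_singleton_iff.2 U.F.k_t⟩
  have hy : f gc * f zc * (f gc)⁻¹ = f yc := by
    rw [← map_inv, ← map_mul, ← map_mul]
    exact congrArg f (Subtype.ext U.g_z)
  have hz3 : f zc ^ 3 = 1 := by rw [← map_pow, show zc ^ 3 = 1 from Subtype.ext D.z_cube, map_one]
  have hy3 : f yc ^ 3 = 1 := by rw [← hy, conj_pow, hz3]; group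
  have hz1 : f zc ≠ 1 := fun h => U.zb_ne ((MulEquiv.map_eq_one_iff e).1 h)
  have hzc : (f zc).support.card = 3 := by
    obtain ⟨Ψ, hs, hk, hz⟩ := U.Nz_shape.2 ⟨E⟩
    obtain ⟨-, hcard⟩ := U.Nz_iso Ψ hs hk
    refine three_cycle_of_card hz3 hz1 ?_
    show Nat.card (centralizer ({e U.zb} : Set (Perm (Fin 8)))) = 360
    rw [card_cent_map e]
    exact (hcard _ hz).trans card_ker_sign_prod
  have hyc : (f yc).support.card = 3 := by rw [← hy, card_support_conj]; exact hzc
  have hcomm : ∀ a b : U.Ct, (a : G) * b = b * a → Commute (f a) (f b) := fun a b h =>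
    show _ = _ by rw [← map_mul, ← map_mul]; exact congrArg f (Subtype.ext h)
  have hdisj : Perm.Disjoint (f yc) (f zc) := by
    refine three_disjoint hz3 hzc hy3 hyc (hcomm _ _ U.F.y_z) fun i h => ?_
    have h' : U.bar yc = U.bar (zc ^ i) := e.injective (by
      show f yc = f (zc ^ i); rw [map_pow]; exact h)
    have h2 := U.bar_lift (a := yc) (b := zc ^ i) U.F.y_cube (by
      push_cast; rw [← pow_mul, mul_comm, pow_mul, D.z_cube, one_pow]) h'
    have h3 := (U.coord_inj (a := 0) (b := 1) (a' := i) (b' := 0) (by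
      rw [pow_zero, pow_one, pow_zero, one_mul, mul_one]; exact h2)).2
    norm_num at h3
  obtain ⟨hez, hey, -⟩ := U.mem_CD.1 E.mem
  have he2 : f ec * f ec = 1 := by
    rw [← map_mul, hker]; exact Or.inr (Subtype.ext E.sq)
  have he1 : f ec ≠ 1 := fun h => U.F.t_ne (by
    rcases (hker _).1 h with h' | h' <;> have h'' : E.e = _ := congrArg Subtype.val h' <;> rw [← E.sq, h'']
    · exact one_mul 1
    · exact U.F.t_sq)
  have hes : (f ec).support.card = 2 := by
    have d1 := (invol_fix he2 hy3 hyc (hcomm _ _ hey)).disjoint_support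
    have d2 := (invol_fix he2 hz3 hzc (hcomm _ _ hez)).disjoint_support
    have h := Finset.card_le_univ ((f ec).support ∪ ((f yc).support ∪ (f zc).support))
    rw [Finset.card_union_of_disjoint (Finset.disjoint_union_right.2 ⟨d1, d2⟩),
      Finset.card_union_of_disjoint hdisj.disjoint_support, hyc, hzc, Fintype.card_fin] at h
    have := two_le_card_support_of_ne_one he1
    omega
  have hk2 : f kc * f kc = 1 := by
    rw [← map_mul, hker]; exact Or.inr (Subtype.ext U.F.k_sq)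
  have hk1 : f kc ≠ 1 := fun h => U.F.t_ne (by
    rcases (hker _).1 h with h' | h' <;> have h'' : U.F.k = _ := congrArg Subtype.val h' <;> rw [← U.F.k_sq, h'']
    · exact one_mul 1
    · exact U.F.t_sq)
  have hksign : sign (f kc) = 1 := by
    have hKC : D.K U.F.t ≤ U.Ct := fun l hl => (U.F.K_le hl).2
    let χ : K5 →* ℤˣ := sign.comp (f.comp ((inclusion hKC).comp U.eK.symm.toMonoidHom))
    have h : (⊤ : Subgroup K5) ≤ χ.ker := by
      rw [← k5_perfect, _root_.commutator_def, Subgroup.commutator_le]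
      intro a _ b _
      rw [MonoidHom.mem_ker, map_commutatorElement, commutatorElement_eq_one_iff_commute]
      exact Commute.all _ _
    have h' := MonoidHom.mem_ker.1 (h (mem_top (U.eK ⟨U.F.k, U.F.k_K⟩)))
    simp only [χ, MonoidHom.comp_apply, MulEquiv.coe_toMonoidHom, MulEquiv.symm_apply_apply] at h'
    exact h'
  have hks : (f kc).support.card = 4 := by
    obtain ⟨j, hj, c, hcj⟩ := invol_std hk2 hk1
    have d2 := (invol_fix hk2 hz3 hzc (hcomm kc zc U.F.k_z)).disjoint_support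
    have h := Finset.card_le_univ ((f kc).support ∪ (f zc).support)
    rw [Finset.card_union_of_disjoint d2, hzc, Fintype.card_fin] at h
    have hs : sign (invStd j) = 1 := by
      rw [← hksign, ← hcj, map_mul, map_mul, map_inv, mul_right_comm, mul_inv_cancel, one_mul]
    rw [(invStd_facts j).2.2] at hs
    fin_cases j <;> simp at hs hj h ⊢ <;> omega
  exact ⟨⟨f, hsurj, ⟨U.F.t, U.t_Ct⟩, fun x => Subtype.ext (mem_centralizer_singleton_iff.1 x.2),
    fun h => U.F.t_ne (congrArg Subtype.val h), hker, ec, hes, Subtype.ext E.sq, kc, hks, Subtype.ext U.F.k_sq⟩,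
    rfl, hksign⟩

variable [Finite G] {C : Cov U.Ct} (hτ : C.τ = ⟨U.F.t, U.t_Ct⟩)

include hτ

/-- Conjugates of `t` in its centralizer are even. -/
theorem conj_even {s : U.Ct} {h : G} (e : (s : G) = h * U.F.t * h⁻¹) : sign (C.f s) = 1 := by
  have hst : (s : G) * U.F.t = U.F.t * s := mem_centralizer_singleton_iff.1 s.2
  set w : G := h⁻¹ * U.F.t * h
  have hwt : w * U.F.t = U.F.t * w := by
    calc w * U.F.t = h⁻¹ * (U.F.t * (h * U.F.t * h⁻¹)) * h := by simp only [w]; group
      _ = h⁻¹ * ((h * U.F.t * h⁻¹) * U.F.t) * h := by rw [← e, hst]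
      _ = _ := by simp only [w]; group
  set wc : U.Ct := ⟨w, mem_centralizer_singleton_iff.2 hwt⟩
  by_cases hw : w = U.F.t
  · have h1 : (s : G) = U.F.t := by
      calc (s : G) = h * U.F.t * h⁻¹ := e
        _ = h * w * h⁻¹ := by rw [hw]
        _ = U.F.t := by simp only [w]; group
    rw [show s = C.τ from (Subtype.ext h1).trans hτ.symm]
    exact C.sign_τ
  obtain ⟨a, b, ha, hb, hab⟩ := C.exists_comm (w := wc) (Subtype.ext (by
      show w * w = 1
      calc w * w = h⁻¹ * (U.F.t * U.F.t) * h := by simp only [w]; group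
        _ = 1 := by rw [U.F.t_sq]; group))
    (fun e' => U.F.t_ne (by
      have e'' : w = 1 := congrArg Subtype.val e'
      calc U.F.t = h * w * h⁻¹ := by simp only [w]; group
        _ = 1 := by rw [e'']; group))
    (fun e' => hw (congrArg Subtype.val (e'.trans hτ)))
  have key : ∀ x : U.Ct, Commute x wc → h * (x : G) * h⁻¹ ∈ U.Ct := by
    intro x hx
    refine mem_centralizer_singleton_iff.2 ?_
    have hx' : (x : G) * w = w * x := congrArg Subtype.val hx.eq
    calc h * (x : G) * h⁻¹ * U.F.t = h * ((x : G) * w) * h⁻¹ := by simp only [w]; group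
      _ = h * (w * x) * h⁻¹ := by rw [hx']
      _ = _ := by simp only [w]; group
  set a' : U.Ct := ⟨_, key a ha⟩
  set b' : U.Ct := ⟨_, key b hb⟩
  have hs : s = a' * b' * a'⁻¹ * b'⁻¹ := Subtype.ext (by
    have h' : (a : G) * b * (a : G)⁻¹ * (b : G)⁻¹ = U.F.t := congrArg Subtype.val (hab.trans hτ)
    rw [e, ← h']; simp only [a', b']; push_cast; group)
  rw [hs, map_mul, map_mul, map_mul, map_inv, map_inv, map_mul, map_mul, map_mul, map_inv, map_inv,
    mul_right_comm (sign (C.f a')), mul_inv_cancel, one_mul, mul_inv_cancel]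

/-- Even involutions in the centralizer of `t` are conjugate to it. -/
theorem even_to_t {w : U.Ct} (h2 : w * w = 1) (h1 : w ≠ 1) (hs : sign (C.f w) = 1) :
    ∃ h : G, (w : G) = h * U.F.t * h⁻¹ := by
  by_cases hwt : w = C.τ
  · exact ⟨1, by rw [hwt, hτ]; group⟩
  obtain ⟨h6, hh6⟩ := a6_g_t
  obtain ⟨m, hm⟩ := U.C.surj h6
  have hgJ : (U.g : G) * U.g ∈ D.J := U.C.sq_J U.φg
  set g3 : U.Ct := ⟨(U.g : G) * U.g * U.g, mem_centralizer_singleton_iff.2
    (((show Commute (U.g : G) U.F.t from U.g_t).mul_left U.g_t).mul_left U.g_t).eq⟩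
  set j : D.M₀ := ⟨U.F.t, U.C.t_M⟩ * (m * (U.g * U.g * U.g) * m⁻¹)
  have hj : (j : G) ∈ D.J := (U.C.ker j).1 (by
    rw [map_mul, map_mul, map_mul, map_mul, map_mul, map_inv, U.C.φt, hm, U.φg, a6_ne.2.2, hh6]
    exact six_basic.1 ▸ by decide +kernel)
  have hg32 : (g3 : G) * g3 = 1 := by
    show (U.g : G) * U.g * U.g * ((U.g : G) * U.g * U.g) = 1
    calc (U.g : G) * U.g * U.g * ((U.g : G) * U.g * U.g) = ((U.g : G) * U.g) ^ 3 := by
          rw [pow_succ, pow_two]; group
      _ = 1 := D.J_exp _ hgJ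
  have hs2 : (m : G) * g3 * (m : G)⁻¹ * ((m : G) * g3 * (m : G)⁻¹) = 1 := by
    calc (m : G) * g3 * (m : G)⁻¹ * ((m : G) * g3 * (m : G)⁻¹) = (m : G) * ((g3 : G) * g3) * (m : G)⁻¹ := by group
      _ = 1 := by rw [hg32]; group
  have hje : (j : G) = U.F.t * ((m : G) * g3 * (m : G)⁻¹) := rfl
  have hjt : (j : G) * U.F.t * (j : G)⁻¹ = (m : G) * g3 * (m : G)⁻¹ := by
    have h3 : (j : G) * j * j = 1 := by
      have := D.J_exp _ hj
      rwa [pow_succ, pow_two] at this
    have hti : U.F.t * (j : G) * U.F.t = (j : G)⁻¹ := by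
      refine eq_inv_of_mul_eq_one_left ?_
      rw [hje, ← mul_assoc U.F.t, U.F.t_sq, one_mul]
      calc (m : G) * g3 * (m : G)⁻¹ * U.F.t * (U.F.t * ((m : G) * g3 * (m : G)⁻¹))
          = (m : G) * g3 * (m : G)⁻¹ * (U.F.t * U.F.t) * ((m : G) * g3 * (m : G)⁻¹) := by group
        _ = 1 := by rw [U.F.t_sq, mul_one, hs2]
    calc (j : G) * U.F.t * (j : G)⁻¹ = (U.F.t * U.F.t) * (j : G) * U.F.t * (j : G)⁻¹ := by rw [U.F.t_sq, one_mul]
      _ = U.F.t * (U.F.t * (j : G) * U.F.t) * (j : G)⁻¹ := by group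
      _ = U.F.t * (j : G) * ((j : G) * j * j)⁻¹ := by rw [hti]; group
      _ = U.F.t * U.F.t * ((m : G) * g3 * (m : G)⁻¹) := by rw [h3, hje]; group
      _ = _ := by rw [U.F.t_sq, one_mul]
  have hg : (g3 : G) = (m : G)⁻¹ * (j : G) * U.F.t * ((m : G)⁻¹ * (j : G))⁻¹ := by
    rw [mul_inv_rev, inv_inv, show (m : G)⁻¹ * (j : G) * U.F.t * ((j : G)⁻¹ * (m : G)) =
      (m : G)⁻¹ * ((j : G) * U.F.t * (j : G)⁻¹) * (m : G) by group, hjt]
    group
  have hφ3 : U.C.φ (U.g * U.g * U.g) = g6 := by rw [map_mul, map_mul, U.φg, a6_ne.2.2]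
  have h31 : g3 ≠ 1 := fun e => a6_ne.1 (by
    rw [← hφ3, show U.g * U.g * U.g = 1 from Subtype.ext (congrArg Subtype.val e :), map_one])
  have h3t : g3 ≠ C.τ := fun e => by
    have e' : (U.g : G) * U.g * U.g = U.F.t := congrArg Subtype.val (e.trans hτ)
    exact a6_ne.2.1 (hφ3.symm.trans ((congrArg U.C.φ (show U.g * U.g * U.g = ⟨U.F.t, U.C.t_M⟩ from Subtype.ext e')).trans U.C.φt))
  obtain ⟨x, hx⟩ := C.even_conj (Subtype.ext hg32) h31 h3t (U.conj_even hτ hg) h2 h1 hwt hs
  refine ⟨(x : G) * ((m : G)⁻¹ * (j : G)), ?_⟩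
  rw [← hx]; push_cast; rw [hg]; group

end Full

end CfsgLib.McLThree
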