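import Mathlib.GroupTheory.Perm.Centralizer
import Mathlib.GroupTheory.SpecificGroups.Alternating

/-!
Facts about involutions and three-cycles in the symmetric group of degree eight.
-/

set_option autoImplicit false
set_option maxRecDepth 100000

namespace CfsgLib.McLThree

open Equiv Equiv.Perm

/-- `(0 1)` -/
def s1 : Perm (Fin 8) := swap 0 1
/-- `(2 3)` -/
def s2 : Perm (Fin 8) := swap 2 3
/-- `(4 5)` -/
def s3 : Perm (Fin 8) := swap 4 5
/-- `(6 7)` -/
def s4 : Perm (Fin 8) := swap 6 7

/-- The standard involutions. -/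
def invStd : Fin 4 → Perm (Fin 8) := ![s1, s1 * s2, s1 * s2 * s3, s1 * s2 * s3 * s4]

theorem invStd_facts : ∀ k : Fin 4, invStd k * invStd k = 1 ∧ (invStd k).support.card = 2 * (k.val + 1) ∧
    sign (invStd k) = (-1) ^ (k.val + 1) := by decide +kernel

theorem swap_conj : (∃ c : Perm (Fin 8), c * s1 * c⁻¹ = s2) ∧ (∃ c : Perm (Fin 8), c * s1 * c⁻¹ = s3) ∧
    (∃ c : Perm (Fin 8), c * s1 * c⁻¹ = s4) :=
  ⟨⟨swap 0 2 * swap 1 3, by decide +kernel⟩, ⟨swap 0 4 * swap 1 5, by decide +kernel⟩,
    ⟨swap 0 6 * swap 1 7, by decide +kernel⟩⟩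

theorem swap_comm : Commute s1 s2 ∧ Commute s1 s3 ∧ Commute s1 s4 ∧ Commute s2 s3 ∧ Commute s2 s4 ∧ Commute s3 s4 :=
  ⟨show _ = _ by decide +kernel, show _ = _ by decide +kernel, show _ = _ by decide +kernel,
    show _ = _ by decide +kernel, show _ = _ by decide +kernel, show _ = _ by decide +kernel⟩

theorem invol_type {x : Perm (Fin 8)} (h : x * x = 1) :
    x.cycleType = Multiset.replicate (Multiset.card x.cycleType) 2 :=
  haveI := Fact.mk Nat.prime_two
  cycleType_of_pow_prime_eq_one (p := 2) (show x ^ 2 = 1 by rw [pow_two, h])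

theorem invol_std {x : Perm (Fin 8)} (h : x * x = 1) (h1 : x ≠ 1) :
    ∃ k : Fin 4, x.support.card = 2 * (k.val + 1) ∧ ∃ c : Perm (Fin 8), c * invStd k * c⁻¹ = x := by
  have hc := invol_type h
  have hsum := sum_cycleType x
  rw [hc, Multiset.sum_replicate, smul_eq_mul] at hsum
  set m := Multiset.card x.cycleType with hm
  have hle : x.support.card ≤ 8 := (Finset.card_le_univ _).trans_eq (Fintype.card_fin 8)
  have h0 : x.support.card ≠ 0 := fun e => h1 (support_eq_empty_iff.1 (Finset.card_eq_zero.1 e))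
  obtain ⟨hs1, hs2, -⟩ := invStd_facts ⟨m - 1, by omega⟩
  refine ⟨⟨m - 1, by omega⟩, by simp only; omega, isConj_iff.1 (isConj_iff_cycleType_eq.2 ?_)⟩
  have hc' := invol_type hs1
  have hsum' := sum_cycleType (invStd ⟨m - 1, by omega⟩)
  rw [hc', Multiset.sum_replicate, smul_eq_mul, hs2] at hsum'
  rw [hc', hc]
  congr 1
  simp only at hsum'
  omega

/-- An element of order three with centralizer of order 360 is a three-cycle. -/
theorem three_cycle_of_card {z : Perm (Fin 8)} (h3 : z ^ 3 = 1) (h1 : z ≠ 1)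
    (hc : Nat.card (Subgroup.centralizer ({z} : Set (Perm (Fin 8)))) = 360) : z.support.card = 3 := by
  haveI := Fact.mk Nat.prime_three
  have ht := cycleType_of_pow_prime_eq_one (p := 3) h3
  have hsum := sum_cycleType z
  rw [ht, Multiset.sum_replicate, smul_eq_mul] at hsum
  set m := Multiset.card z.cycleType with hm
  have hle : z.support.card ≤ 8 := (Finset.card_le_univ _).trans_eq (Fintype.card_fin 8)
  have h0 : z.support.card ≠ 0 := fun e => h1 (support_eq_empty_iff.1 (Finset.card_eq_zero.1 e))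
  obtain e | e : m = 1 ∨ m = 2 := by omega
  · omega
  · exfalso
    rw [nat_card_centralizer z, ht, e, Fintype.card_fin] at hc
    norm_num [Multiset.replicate_succ, Nat.factorial] at hc

theorem supp_orbit {z : Perm (Fin 8)} (h3 : z ^ 3 = 1) (hz : z.support.card = 3) {a b : Fin 8} (ha : z a ≠ a)
    (hb : z b ≠ b) : ∃ i : ℕ, (z ^ i) a = b := by
  have hz2 : z (z (z a)) = a := by
    have := congrArg (fun w : Perm (Fin 8) => w a) h3
    simpa [pow_succ, pow_two, mul_apply] using this
  have h12 : z a ≠ z (z a) := fun e => ha (z.injective e).symm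
  have h02 : a ≠ z (z a) := fun e => ha (by nth_rw 2 [← hz2]; rw [← e])
  have heq : ({a, z a, z (z a)} : Finset (Fin 8)) = z.support := by
    refine Finset.eq_of_subset_of_card_le ?_ ?_
    · intro w hw
      simp only [Finset.mem_insert, Finset.mem_singleton] at hw
      rw [mem_support]
      rcases hw with rfl | rfl | rfl
      · exact ha
      · exact fun e => h12 e.symm
      · rw [hz2]; exact h02
    · rw [hz, Finset.card_insert_of_notMem (by simp [Ne.symm ha, h02]), Finset.card_insert_of_notMem (by simp [h12]),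
        Finset.card_singleton]
  have hb' : b ∈ z.support := mem_support.2 hb
  rw [← heq] at hb'
  simp only [Finset.mem_insert, Finset.mem_singleton] at hb'
  rcases hb' with rfl | rfl | rfl
  · exact ⟨0, rfl⟩
  · exact ⟨1, by simp⟩
  · exact ⟨2, by simp [pow_two, mul_apply]⟩

/-- An involution commuting with a three-cycle fixes its support. -/
theorem invol_fix {x z : Perm (Fin 8)} (hx : x * x = 1) (h3 : z ^ 3 = 1) (hz : z.support.card = 3)
    (hc : Commute x z) : Disjoint x z := by
  intro a
  by_cases ha : z a = a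
  · exact Or.inr ha
  left
  have hxa : z (x a) ≠ x a := fun e => ha (x.injective (by
    rw [← mul_apply, hc.eq, mul_apply]; exact e))
  obtain ⟨i, hi⟩ := supp_orbit h3 hz ha hxa
  have h2 : (z ^ (i + i)) a = a := by
    rw [pow_add, mul_apply, hi, ← mul_apply, ← (hc.pow_right i).eq, mul_apply, hi, ← mul_apply, hx, one_apply]
  have h4 : (z ^ (i + i + i + i)) a = a := by rw [show i + i + i + i = (i + i) + (i + i) by ring, pow_add, mul_apply, h2, h2]
  have h6 : z ^ (i + i + i) = 1 := by
    rw [show i + i + i = 3 * i by ring, pow_mul, h3, one_pow]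
  rw [pow_add, h6, one_mul] at h4
  rw [← hi, h4]

/-- Commuting three-cycles generating a group of order nine are disjoint. -/
theorem three_disjoint {y z : Perm (Fin 8)} (h3 : z ^ 3 = 1) (hz : z.support.card = 3) (h3y : y ^ 3 = 1)
    (hy : y.support.card = 3) (hc : Commute y z) (hne : ∀ i : ℕ, y ≠ z ^ i) : Disjoint y z := by
  intro a
  by_cases ha : z a = a
  · exact Or.inr ha
  left
  by_contra hya
  have hzy : z (y a) ≠ y a := fun e => ha (y.injective (by rw [← mul_apply, hc.eq, mul_apply]; exact e))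
  obtain ⟨i, hi⟩ := supp_orbit h3 hz ha hzy
  refine hne i (Equiv.ext fun w => ?_)
  by_cases hw : z w = w
  · have hzw : (z ^ i) w = w := pow_apply_eq_self_of_apply_eq_self hw i
    rw [hzw]
    by_contra hyw
    obtain ⟨j, hj⟩ := supp_orbit h3y hy hya hyw
    refine ha ((y ^ j).injective ?_)
    rw [← mul_apply, (hc.pow_left j).eq, mul_apply, hj, hw]
  · obtain ⟨j, rfl⟩ := supp_orbit h3 hz ha hw
    rw [← mul_apply, (hc.pow_right j).eq, mul_apply, ← hi, ← mul_apply, ← mul_apply, ← pow_add, ← pow_add, add_comm]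

end CfsgLib.McLThree
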