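import Cfsg.Agent.Lib.McLThree.SL25
import Mathlib.GroupTheory.SpecificGroups.Alternating
import Mathlib.Algebra.Group.End

/-!
The action of the automorphisms of SL(2,5) on its five Sylow two-subgroups, given by their elements of order four.
-/

set_option autoImplicit false
set_option maxRecDepth 100000
set_option maxHeartbeats 4000000

namespace CfsgLib.McLThree

open Equiv Equiv.Perm

/-- Representatives of the five classes. -/
def rep5 : Fin 5 → K5 :=
  ![⟨!![0, 1; 4, 0], by decide⟩, ⟨!![1, 1; 3, 4], by decide⟩, ⟨!![1, 2; 4, 4], by decide⟩,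
    ⟨!![1, 3; 1, 4], by decide⟩, ⟨!![1, 4; 2, 4], by decide⟩]

/-- Lying in the same quaternion subgroup. -/
def Rel5 (x y : K5) : Prop := y * x * y⁻¹ = x ∨ y * x * y⁻¹ = x⁻¹

instance (x y : K5) : Decidable (Rel5 x y) := inferInstanceAs (Decidable (_ ∨ _))

/-- The class of an element of order four. -/
def idx5 (x : K5) : Fin 5 :=
  if Rel5 x (rep5 0) then 0 else if Rel5 x (rep5 1) then 1 else if Rel5 x (rep5 2) then 2
    else if Rel5 x (rep5 3) then 3 else 4

theorem rep5_sq : ∀ i : Fin 5, rep5 i * rep5 i = z5 ∧ idx5 (rep5 i) = i := by decide +kernel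

theorem idx5_rel : ∀ x : K5, x * x = z5 → ∀ y : K5, y * y = z5 → (idx5 x = idx5 y ↔ Rel5 x y) := by
  decide +kernel

theorem conj5_fix : ∀ x : K5, (∀ i : Fin 5, idx5 (x * rep5 i * x⁻¹) = i) → x = 1 ∨ x = z5 := by decide +kernel

theorem aut_z5 (α : MulAut K5) : α z5 = z5 :=
  (k5_invol _ (by rw [← map_mul, k5_basic.2.2.1, map_one])).resolve_left fun e =>
    k5_basic.2.2.2.1 (α.injective (e.trans (map_one α).symm))

/-- The induced permutation, as a function. -/
def pfun (α : MulAut K5) (i : Fin 5) : Fin 5 := idx5 (α (rep5 i))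

theorem pfun_mul (α β : MulAut K5) (i : Fin 5) : pfun (α * β) i = pfun α (pfun β i) := by
  have h : β (rep5 i) * β (rep5 i) = z5 := by rw [← map_mul, (rep5_sq i).1, aut_z5]
  set j := pfun β i with hj
  have hr : Rel5 (β (rep5 i)) (rep5 j) := (idx5_rel _ h _ (rep5_sq j).1).1 (rep5_sq j).2.symm
  refine (idx5_rel (α (β (rep5 i))) (by rw [← map_mul, h, aut_z5]) (α (rep5 j))
    (by rw [← map_mul, (rep5_sq j).1, aut_z5])).2 ?_
  rcases hr with e | e
  · exact Or.inl (by rw [← map_inv, ← map_mul, ← map_mul, e])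
  · exact Or.inr (by rw [← map_inv, ← map_mul, ← map_mul, e, map_inv])

theorem pfun_one (i : Fin 5) : pfun 1 i = i := (rep5_sq i).2

/-- The permutation action. -/
def perm5 : MulAut K5 →* Perm (Fin 5) where
  toFun α :=
    { toFun := pfun α
      invFun := pfun α⁻¹
      left_inv := fun i => by rw [← pfun_mul, inv_mul_cancel, pfun_one]
      right_inv := fun i => by rw [← pfun_mul, mul_inv_cancel, pfun_one] }
  map_one' := Equiv.ext pfun_one
  map_mul' α β := Equiv.ext (pfun_mul α β)

theorem perm5_conj {x : K5} (h : perm5 (MulAut.conj x) = 1) : x = 1 ∨ x = z5 :=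
  conj5_fix x fun i => Equiv.ext_iff.1 h i

/-- An automorphism fixing the five classes is trivial. -/
theorem perm5_inj {α : MulAut K5} (h : perm5 α = 1) : α = 1 := by
  have key : ∀ x : K5, α x * x⁻¹ = 1 ∨ α x * x⁻¹ = z5 := by
    intro x
    refine perm5_conj ?_
    have e : MulAut.conj (α x * x⁻¹) = α * MulAut.conj x * α⁻¹ * (MulAut.conj x)⁻¹ := by
      rw [map_mul, map_inv]
      congr 1
      refine MulEquiv.ext fun w => ?_
      show α x * w * (α x)⁻¹ = α (x * α⁻¹ w * x⁻¹)
      rw [map_mul, map_mul, map_inv, MulAut.apply_inv_self]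
    rw [e, map_mul, map_mul, map_mul, h, map_inv, map_inv, h]
    group
  have hzc : ∀ w : K5, (w = 1 ∨ w = z5) → ∀ v : K5, v * w = w * v := by
    rintro w (rfl | rfl) v
    exacts [by simp, k5_basic.2.2.2.2.1 v]
  let δ : K5 →* K5 :=
    { toFun := fun x => α x * x⁻¹
      map_one' := by simp
      map_mul' := fun a b => by
        rw [map_mul, mul_inv_rev, show α a * α b * (b⁻¹ * a⁻¹) = α a * (α b * b⁻¹) * a⁻¹ by group,
          hzc _ (key b) (α a), mul_assoc, hzc _ (key a) (α b * b⁻¹) |>.symm] }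
  have hδ : δ.ker = ⊤ := by
    refine eq_top_iff.2 ?_
    rw [← k5_perfect, commutator_def, Subgroup.commutator_le]
    intro a _ b _
    rw [MonoidHom.mem_ker, map_commutatorElement, commutatorElement_eq_one_iff_commute]
    exact (hzc _ (key b) _)
  refine MulEquiv.ext fun x => ?_
  exact mul_inv_eq_one.1 (MonoidHom.mem_ker.1 (hδ.ge (Subgroup.mem_top x) : x ∈ δ.ker))

theorem sign_conj (x : K5) : sign (perm5 (MulAut.conj x)) = 1 := by
  have h : (sign.comp (perm5.comp MulAut.conj)).ker = ⊤ := by
    refine eq_top_iff.2 ?_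
    rw [← k5_perfect, commutator_def, Subgroup.commutator_le]
    intro a _ b _
    rw [MonoidHom.mem_ker, map_commutatorElement, commutatorElement_eq_one_iff_commute]
    exact Commute.all _ _
  exact MonoidHom.mem_ker.1 (h.ge (Subgroup.mem_top x) : x ∈ (sign.comp (perm5.comp MulAut.conj)).ker)

/-- Every even permutation is induced by conjugation. -/
theorem perm5_even {σ : Perm (Fin 5)} (hσ : sign σ = 1) : ∃ x : K5, perm5 (MulAut.conj x) = σ := by
  set f : K5 →* Perm (Fin 5) := perm5.comp MulAut.conj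
  have hle : f.range ≤ alternatingGroup (Fin 5) := by rintro _ ⟨x, rfl⟩; exact sign_conj x
  have hker : Nat.card f.ker = 2 := by
    rw [show f.ker = Subgroup.zpowers z5 from le_antisymm (fun x hx => by
        rcases perm5_conj (MonoidHom.mem_ker.1 hx) with rfl | rfl
        exacts [one_mem _, Subgroup.mem_zpowers _])
      (Subgroup.zpowers_le.2 (MonoidHom.mem_ker.2 (by
        show perm5 (MulAut.conj z5) = 1
        rw [show MulAut.conj z5 = 1 from MulEquiv.ext fun w => by
          show z5 * w * z5⁻¹ = w; rw [← k5_basic.2.2.2.2.1, mul_inv_cancel_right], map_one]))),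
      Nat.card_zpowers, orderOf_eq_prime (by rw [pow_two, k5_basic.2.2.1]) k5_basic.2.2.2.1]
  have hcard := f.ker.card_mul_index
  rw [Subgroup.index_ker, hker, Nat.card_eq_fintype_card (α := K5), k5_card] at hcard
  have heq : f.range = alternatingGroup (Fin 5) := Subgroup.eq_of_le_of_card_ge hle (by
    rw [nat_card_alternatingGroup, Nat.card_fin]
    show 120 / 2 ≤ _
    omega)
  exact heq.ge (Perm.mem_alternatingGroup.2 hσ)

end CfsgLib.McLThree
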