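import Cfsg.Agent.Lib.McLThree.QPart
import Mathlib.GroupTheory.SpecificGroups.Cyclic

/-!
The involution, the complement isomorphic to SL(2,5), and the Sylow subgroup of the centralizer.
-/

set_option autoImplicit false

namespace CfsgLib.McLThree

open Subgroup
open scoped commutatorElement

universe u

/-- The centralizer of `t` in the first local group. -/
abbrev Setting.Kc {G : Type u} [Group G] (D : Setting G) (t : G) : Subgroup G :=
  D.L₀ ⊓ centralizer ({t} : Set G)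

/-- The derived subgroup of that centralizer. -/
abbrev Setting.K {G : Type u} [Group G] (D : Setting G) (t : G) : Subgroup G := ⁅D.Kc t, D.Kc t⁆

/-- The chosen elements. -/
structure Frame {G : Type u} [Group G] (D : Setting G) where
  /-- the involution -/
  t : G
  /-- it lies in the first local group -/
  t_L₀ : t ∈ D.L₀
  /-- it is an involution -/
  t_sq : t * t = 1
  /-- its image is central -/
  t_φ : D.φL ⟨t, t_L₀⟩ = z5
  /-- the element of order three in the complement and the Sylow subgroup -/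
  y : G
  /-- in the complement -/
  y_K : y ∈ D.K t
  /-- in the Sylow subgroup -/
  y_S : y ∈ D.S
  /-- not trivial -/
  y_ne : y ≠ 1
  /-- of order three -/
  y_cube : y ^ 3 = 1
  /-- the element of order four -/
  k : G
  /-- in the complement -/
  k_K : k ∈ D.K t
  /-- inverting `y` -/
  k_y : k * y * k⁻¹ = y⁻¹
  /-- squaring to `t` -/
  k_sq : k * k = t

theorem Setting.z_Kc {G : Type u} [Group G] (D : Setting G) {t : G} (htL : t ∈ D.L₀) : D.z ∈ D.Kc t :=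
  ⟨D.z_mem_L₀, mem_centralizer_singleton_iff.2 (D.L₀_z htL).symm⟩

section Basic

variable {G : Type u} [Group G] (D : Setting G) {t : G} (htL : t ∈ D.L₀) (ht2 : t * t = 1)
  (htφ : D.φL ⟨t, htL⟩ = z5)

include ht2 htφ

theorem Setting.centQ [Finite G] {q : G} (hq : q ∈ D.Q) (h : q * t = t * q) : q ∈ D.Zc := by
  have h1 := D.invert_Q htL ht2 htφ q hq
  rw [show t * q * t⁻¹ = q by rw [← h, mul_inv_cancel_right], ← pow_two] at h1
  have h3 : q = (q ^ 2) ^ 122 := by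
    have e := pow_card_eq_one' (x := (⟨q, hq⟩ : D.Q))
    rw [D.Q_card] at e
    have e' : q ^ 243 = 1 := congrArg Subtype.val e
    rw [← pow_mul, show 2 * 122 = 243 + 1 from rfl, pow_add, e', one_mul, pow_one]
  rw [h3]; exact pow_mem h1 _

theorem Setting.cent_conj [Finite G] {l : G} (hl : l ∈ D.L₀) : ∃ r ∈ D.Q, r * l * t = t * (r * l) := by
  set q := t⁻¹ * (l * t * l⁻¹) with hqdef
  have hq : q ∈ D.Q := by
    refine (D.φL_ker ⟨q, mul_mem (inv_mem htL) (mul_mem (mul_mem hl htL) (inv_mem hl))⟩).1 ?_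
    rw [show (⟨q, mul_mem (inv_mem htL) (mul_mem (mul_mem hl htL) (inv_mem hl))⟩ : D.L₀) =
      (⟨t, htL⟩ : D.L₀)⁻¹ * (⟨l, hl⟩ * ⟨t, htL⟩ * (⟨l, hl⟩ : D.L₀)⁻¹) from rfl, map_mul, map_mul, map_mul, map_inv,
      map_inv, htφ, k5_basic.2.2.2.2.1, mul_inv_cancel_right, inv_mul_cancel]
  have hlt : l * t * l⁻¹ = t * q := by rw [hqdef, mul_inv_cancel_left]
  have hinv : t * q * t = q⁻¹ := eq_inv_of_mul_eq_one_left (by
    rw [show t * q * t * q = (t * q) * (t * q) by group, ← hlt,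
      show l * t * l⁻¹ * (l * t * l⁻¹) = l * (t * t) * l⁻¹ by group, ht2]
    group)
  have h243 : q ^ 243 = 1 := by
    have e := pow_card_eq_one' (x := (⟨q, hq⟩ : D.Q))
    rw [D.Q_card] at e
    exact congrArg Subtype.val e
  have hpow : ∀ i : ℕ, t * q ^ i * t = (q ^ i)⁻¹ := fun i => by
    have hti : t⁻¹ = t := inv_eq_of_mul_eq_one_right ht2
    nth_rw 2 [← hti]
    rw [← conj_pow, hti, hinv, inv_pow]
  refine ⟨q ^ 122, pow_mem hq _, ?_⟩
  calc q ^ 122 * l * t = q ^ 122 * (l * t * l⁻¹) * l := by group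
    _ = t * (t * q ^ 122 * t) * q * l := by
      rw [hlt, show t * (t * q ^ 122 * t) = (t * t) * q ^ 122 * t by group, ht2, one_mul]; group
    _ = t * (q ^ 122 * l) := by
      rw [hpow, show (q ^ 122)⁻¹ = q ^ 121 from inv_eq_of_mul_eq_one_right (by rw [← pow_add]; exact h243),
        mul_assoc t, ← pow_succ, mul_assoc]

theorem Setting.Kc_onto [Finite G] (u : K5) : ∃ x : D.L₀, (x : G) ∈ D.Kc t ∧ D.φL x = u := by
  obtain ⟨l, rfl⟩ := D.φL_surj u
  obtain ⟨r, hr, h⟩ := D.cent_conj htL ht2 htφ l.2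
  refine ⟨⟨r * l, mul_mem (D.Q_le_L₀ hr) l.2⟩, ⟨mul_mem (D.Q_le_L₀ hr) l.2, mem_centralizer_singleton_iff.2 h⟩, ?_⟩
  rw [show (⟨r * l, mul_mem (D.Q_le_L₀ hr) l.2⟩ : D.L₀) = ⟨r, D.Q_le_L₀ hr⟩ * l from rfl, map_mul, D.φL_Q hr,
    one_mul]

theorem Setting.Kc_Q [Finite G] : (D.Kc t ⊓ D.Q : Subgroup G) = D.Zc := by
  refine le_antisymm (fun x hx => D.centQ htL ht2 htφ hx.2 (mem_centralizer_singleton_iff.1 hx.1.2)) ?_
  exact zpowers_le.2 ⟨D.z_Kc htL, D.z_Q⟩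

theorem Setting.card_Kc [Finite G] : Nat.card (D.Kc t) = 360 := by
  rw [D.card_ker_inf inf_le_left, D.Kc_Q htL ht2 htφ, D.card_Zc,
    show ((D.Kc t).subgroupOf D.L₀).map D.φL = ⊤ from eq_top_iff.2 fun u _ => by
      obtain ⟨x, hx, rfl⟩ := D.Kc_onto htL ht2 htφ u
      exact ⟨x, hx, rfl⟩, card_top, Nat.card_eq_fintype_card, k5_card]

theorem Setting.card_Dt [Finite G] : Nat.card ((D.S : Subgroup G) ⊓ centralizer ({t} : Set G) : Subgroup G) = 9 := by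
  set Dt := ((D.S : Subgroup G) ⊓ centralizer ({t} : Set G) : Subgroup G)
  have hS := D.card_ker_inf D.S_le_L₀
  rw [D.S_card, inf_eq_right.2 D.Q_le, D.Q_card] at hS
  have hDL : Dt ≤ D.L₀ := inf_le_left.trans D.S_le_L₀
  have hD := D.card_ker_inf hDL
  have himg : ((D.S : Subgroup G).subgroupOf D.L₀).map D.φL = (Dt.subgroupOf D.L₀).map D.φL := by
    refine le_antisymm ?_ (map_mono fun x hx => hx.1)
    rintro _ ⟨s, hs, rfl⟩
    obtain ⟨r, hr, h⟩ := D.cent_conj htL ht2 htφ s.2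
    refine ⟨⟨r * s, mul_mem (D.Q_le_L₀ hr) s.2⟩, ⟨mul_mem (D.Q_le hr) hs, mem_centralizer_singleton_iff.2 h⟩, ?_⟩
    rw [show (⟨r * s, mul_mem (D.Q_le_L₀ hr) s.2⟩ : D.L₀) = ⟨r, D.Q_le_L₀ hr⟩ * s from rfl, map_mul, D.φL_Q hr,
      one_mul]
  have hz : (Dt ⊓ D.Q : Subgroup G) = D.Zc := le_antisymm
    (fun x hx => D.centQ htL ht2 htφ hx.2 (mem_centralizer_singleton_iff.1 hx.1.2))
    (zpowers_le.2 ⟨⟨D.Q_le D.z_Q, mem_centralizer_singleton_iff.2 (D.L₀_z htL).symm⟩, D.z_Q⟩)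
  rw [hz, D.card_Zc, ← himg] at hD
  omega

theorem Setting.z_not_K [Finite G] : D.z ∉ D.K t := by
  intro hz
  haveI : Fact (Nat.Prime 3) := ⟨Nat.prime_three⟩
  set Dt := ((D.S : Subgroup G) ⊓ centralizer ({t} : Set G) : Subgroup G)
  have hle : Dt ≤ D.Kc t := fun x hx => ⟨D.S_le_L₀ hx.1, hx.2⟩
  let P : Subgroup (D.Kc t) := Dt.subgroupOf (D.Kc t)
  have hP : Nat.card P = 3 ^ 2 := by
    rw [Nat.card_congr (subgroupOfEquivOfLe hle).toEquiv, D.card_Dt htL ht2 htφ]; norm_num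
  letI : CommGroup P := IsPGroup.commGroupOfCardEqPrimeSq hP
  let V : D.Kc t →* P := MonoidHom.transfer (MonoidHom.id P)
  let zk : D.Kc t := ⟨D.z, D.z_Kc htL⟩
  have hzP : zk ∈ P := mem_subgroupOf.2 ⟨D.Q_le D.z_Q, (D.z_Kc htL).2⟩
  have hcomm : ∀ x : D.Kc t, x * zk = zk * x := fun x => Subtype.ext (D.L₀_z x.2.1)
  have hV : V zk = ⟨zk ^ P.index, pow_mem hzP _⟩ :=
    MonoidHom.transfer_eq_pow (MonoidHom.id P) zk fun m g₀ _ => by
      rw [mul_assoc, ← ((show Commute g₀ zk from hcomm g₀).pow_right m).eq, inv_mul_cancel_left]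
  have hidx : P.index = 40 := by
    have h := P.index_mul_card
    rw [hP, D.card_Kc htL ht2 htφ] at h
    omega
  have h1 : D.K t ≤ V.ker.map (D.Kc t).subtype := by
    refine commutator_le.2 fun a ha b hb => ⟨⁅(⟨a, ha⟩ : D.Kc t), ⟨b, hb⟩⁆, ?_, rfl⟩
    rw [SetLike.mem_coe, MonoidHom.mem_ker, map_commutatorElement, commutatorElement_eq_one_iff_commute]
    exact Commute.all _ _
  obtain ⟨w, hw, hwz⟩ := h1 hz
  obtain rfl : w = zk := Subtype.ext hwz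
  have h2 := congrArg (fun x : P => ((x : D.Kc t) : G)) (hV.symm.trans hw)
  simp only [SubmonoidClass.coe_pow, OneMemClass.coe_one, hidx] at h2
  refine D.z_ne ?_
  rw [show D.z = D.z ^ 40 * (D.z ^ 3)⁻¹ ^ 13 by group, h2, D.z_cube, inv_one, one_pow, one_mul]

theorem Setting.K_inj [Finite G] {x : D.L₀} (hx : (x : G) ∈ D.K t) (h : D.φL x = 1) : x = 1 := by
  have hK : D.K t ≤ D.Kc t := commutator_le.2 fun a ha b hb => by
    rw [commutatorElement_def]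
    exact mul_mem (mul_mem (mul_mem ha hb) (inv_mem ha)) (inv_mem hb)
  have hZ : (x : G) ∈ D.Zc := (D.Kc_Q htL ht2 htφ).le ⟨hK hx, (D.φL_ker x).1 h⟩
  obtain ⟨i, hi, e⟩ := D.mem_Zc.1 hZ
  rw [e] at hx
  interval_cases i
  · exact Subtype.ext (e.trans (pow_zero _))
  · exact absurd (pow_one D.z ▸ hx) (D.z_not_K htL ht2 htφ)
  · refine absurd ?_ (D.z_not_K htL ht2 htφ)
    have h2 := mul_mem hx hx
    rwa [← pow_add, show 2 + 2 = 3 + 1 from rfl, pow_add, D.z_cube, one_mul, pow_one] at h2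

theorem Setting.K_onto [Finite G] (u : K5) : ∃ x : D.L₀, (x : G) ∈ D.K t ∧ D.φL x = u := by
  have hu : u ∈ (⁅(⊤ : Subgroup K5), (⊤ : Subgroup K5)⁆ : Subgroup K5) := by
    rw [← commutator_def, k5_perfect]; exact mem_top u
  have hle : (⁅(⊤ : Subgroup K5), (⊤ : Subgroup K5)⁆ : Subgroup K5) ≤ ((D.K t).subgroupOf D.L₀).map D.φL := by
    refine commutator_le.2 fun a _ b _ => ?_
    obtain ⟨a', ha, rfl⟩ := D.Kc_onto htL ht2 htφ a
    obtain ⟨b', hb, rfl⟩ := D.Kc_onto htL ht2 htφ b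
    exact ⟨⁅a', b'⁆, mem_subgroupOf.2 (commutator_mem_commutator ha hb), map_commutatorElement _ _ _⟩
  obtain ⟨x, hx, rfl⟩ := hle hu
  exact ⟨x, hx, rfl⟩

end Basic

theorem Setting.exists_frame {G : Type u} [Group G] [Finite G] (D : Setting G) : Nonempty (Frame D) := by
  obtain ⟨t, htL, ht2, htφ⟩ := D.exists_invol
  obtain ⟨s, hs, hsQ⟩ : ∃ s ∈ (D.S : Subgroup G), s ∉ D.Q := SetLike.exists_of_lt (lt_of_le_of_ne D.Q_le fun e => by
    have h1 := D.S_card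
    rw [← e, D.Q_card] at h1
    omega)
  obtain ⟨r, hr, hrs⟩ := D.cent_conj htL ht2 htφ (D.S_le_L₀ hs)
  set d := r * s
  have hdS : d ∈ (D.S : Subgroup G) := mul_mem (D.Q_le hr) hs
  have hdL : d ∈ D.L₀ := D.S_le_L₀ hdS
  have hdne : D.φL ⟨d, hdL⟩ ≠ 1 := fun h => hsQ (by
    have := (D.φL_ker _).1 h
    simpa [d] using mul_mem (inv_mem hr) this)
  have hd3 : D.φL ⟨d, hdL⟩ ^ 3 = 1 := by
    have hS := D.card_ker_inf D.S_le_L₀
    rw [D.S_card, inf_eq_right.2 D.Q_le, D.Q_card] at hS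
    have h := pow_card_eq_one' (x := (⟨D.φL ⟨d, hdL⟩, ⟨_, hdS, rfl⟩⟩ :
      ((D.S : Subgroup G).subgroupOf D.L₀).map D.φL))
    rw [show Nat.card (((D.S : Subgroup G).subgroupOf D.L₀).map D.φL) = 3 by omega] at h
    exact congrArg Subtype.val h
  obtain ⟨y, hyK, hyφ⟩ := D.K_onto htL ht2 htφ (D.φL ⟨d, hdL⟩)
  have hKc : (y : G) ∈ D.Kc t := (commutator_le.2 fun a ha b hb => by
    rw [commutatorElement_def]
    exact mul_mem (mul_mem (mul_mem ha hb) (inv_mem ha)) (inv_mem hb) : D.K t ≤ D.Kc t) hyK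
  have hyd : (y : G) * d⁻¹ ∈ D.Q := (D.φL_ker ⟨_, mul_mem y.2 (inv_mem hdL)⟩).1 (by
    rw [show (⟨_, mul_mem y.2 (inv_mem hdL)⟩ : D.L₀) = y * ⟨d, hdL⟩⁻¹ from rfl, map_mul, map_inv, hyφ,
      mul_inv_cancel])
  have hyS : (y : G) ∈ (D.S : Subgroup G) := by
    simpa using mul_mem (D.Q_le hyd) hdS
  obtain ⟨a, ha⟩ := k5_three _ hd3 hdne
  obtain ⟨k, hkK, hkφ⟩ := D.K_onto htL ht2 htφ (a * k5 * a⁻¹)
  obtain ⟨t', ht'K, ht'φ⟩ := D.K_onto htL ht2 htφ z5
  have htK : t ∈ D.K t := by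
    have hd' : (t' : G) * t⁻¹ ∈ D.Zc := (D.Kc_Q htL ht2 htφ).le ⟨(D.Kc t).mul_mem
      ((commutator_le.2 fun a ha b hb => by
        rw [commutatorElement_def]
        exact mul_mem (mul_mem (mul_mem ha hb) (inv_mem ha)) (inv_mem hb) : D.K t ≤ D.Kc t) ht'K)
      ((D.Kc t).inv_mem (show t ∈ D.Kc t from ⟨htL, mem_centralizer_singleton_iff.2 rfl⟩)), (D.φL_ker ⟨_, mul_mem t'.2 (inv_mem htL)⟩).1 (by
        rw [show (⟨_, mul_mem t'.2 (inv_mem htL)⟩ : D.L₀) = t' * ⟨t, htL⟩⁻¹ from rfl, map_mul, map_inv, ht'φ, htφ,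
          mul_inv_cancel])⟩
    have h2 : t' * t' = 1 := D.K_inj htL ht2 htφ (mul_mem ht'K ht'K) (by rw [map_mul, ht'φ, k5_basic.2.2.1])
    have e : (t' : G) = ((t' : G) * t⁻¹) * t := by group
    have e2 : ((t' : G) * t⁻¹) ^ 2 = 1 := by
      have h' : (t' : G) * t' = 1 := congrArg Subtype.val h2
      rw [e, show (t' : G) * t⁻¹ * t * ((t' : G) * t⁻¹ * t) = (t' : G) * t⁻¹ * (t * ((t' : G) * t⁻¹)) * t by group,
        D.comm_Zc (D.L₀_z htL) hd'] at h'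
      rw [pow_two]
      calc (t' : G) * t⁻¹ * ((t' : G) * t⁻¹)
          = (t' : G) * t⁻¹ * ((t' : G) * t⁻¹ * t) * t * (t * t)⁻¹ := by group
        _ = 1 := by rw [h', ht2]; group
    have e3 : (t' : G) * t⁻¹ = 1 := by
      have := D.Zc_cube hd'
      rw [pow_succ, e2, one_mul] at this
      exact this
    rwa [mul_inv_eq_one.1 e3] at ht'K
  refine ⟨⟨t, htL, ht2, htφ, y, hyK, hyS, fun e => hdne ?_, ?_, k, hkK, ?_, ?_⟩⟩
  · rw [← hyφ, show y = 1 from Subtype.ext e, map_one]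
  · exact congrArg Subtype.val (D.K_inj htL ht2 htφ (x := y ^ 3) (pow_mem hyK 3) (by rw [map_pow, hyφ, hd3]))
  · have h := D.K_inj htL ht2 htφ (x := k * y * k⁻¹ * y) (mul_mem (mul_mem (mul_mem hkK hyK) (inv_mem hkK)) hyK) (by
      rw [map_mul, map_mul, map_mul, map_inv, hyφ, hkφ, ← ha,
        show a * k5 * a⁻¹ * (a * u5 * a⁻¹) * (a * k5 * a⁻¹)⁻¹ = a * (k5 * u5 * k5⁻¹) * a⁻¹ by group,
        k5_basic.2.2.2.2.2.1]
      group)
    exact eq_inv_of_mul_eq_one_left (congrArg Subtype.val h)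
  · have h := D.K_inj htL ht2 htφ (x := k * k * (⟨t, htL⟩ : D.L₀)⁻¹) (mul_mem (mul_mem hkK hkK) (inv_mem htK)) (by
      rw [map_mul, map_mul, map_inv, hkφ, htφ, show a * k5 * a⁻¹ * (a * k5 * a⁻¹) = a * (k5 * k5) * a⁻¹ by group,
        k5_basic.2.2.2.2.2.2, k5_basic.2.2.2.2.1]
      group)
    exact mul_inv_eq_one.1 (congrArg Subtype.val h)

end CfsgLib.McLThree
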