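import Cfsg.Agent.Lib.McLThree.Aut

/-!
From the printed hypotheses to the setting.
-/

set_option autoImplicit false

namespace CfsgLib.McLThree

open Subgroup
open scoped commutatorElement

universe u

/-- Abelian subgroups of the core have order at most 27. -/
theorem abelian_bound {G : Type u} [Group G] [Finite G] {Q Z : Subgroup G} (hQc : Nat.card Q = 243)
    (hZc : Nat.card Z = 3) (hcen : ∀ q ∈ Q, (∀ x ∈ Q, q * x = x * q) → q ∈ Z)
    (hcomm : ∀ a ∈ Q, ∀ b ∈ Q, a * b * a⁻¹ * b⁻¹ ∈ Z) (hZQ : ∀ q ∈ Q, ∀ c ∈ Z, q * c * q⁻¹ = c)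
    {B : Subgroup G} (hB : B ≤ Q) (hc : ∀ a ∈ B, ∀ b ∈ B, a * b = b * a) :
    Nat.card B ≤ 27 := by
  have hdvd : ∀ {C : Subgroup G}, C ≤ Q → ∃ n ≤ 5, Nat.card C = 3 ^ n := fun hC =>
    (Nat.dvd_prime_pow Nat.prime_three).1 (show Nat.card _ ∣ 3 ^ 5 by
      have := card_dvd_of_le hC; rw [hQc] at this; exact this)
  obtain ⟨n, hn5, hn⟩ := hdvd hB
  by_contra hlt
  have h4 : 4 ≤ n := by
    by_contra h
    exact hlt (hn ▸ Nat.pow_le_pow_right (by norm_num) (show n ≤ 3 by omega))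
  by_cases h5 : B = Q
  · have hQ : Q ≤ Z := fun q hq => hcen q hq fun x hx => hc q (h5 ▸ hq) x (h5 ▸ hx)
    have := card_le_of_le hQ
    rw [hQc, hZc] at this
    omega
  have hn4 : n = 4 := by
    by_contra h
    exact h5 (eq_of_le_of_card_ge hB (by rw [hQc, hn, show n = 5 by omega]; norm_num))
  subst hn4
  obtain ⟨q, hq, hqB⟩ : ∃ q ∈ Q, q ∉ B := SetLike.exists_of_lt (lt_of_le_of_ne hB h5)
  set C : Subgroup G := B ⊓ centralizer ({q} : Set G)
  have hC : C ≤ Z := by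
    intro c hc'
    refine hcen c (hB hc'.1) fun x hx => ?_
    have hle : B ⊔ zpowers q ≤ centralizer ({c} : Set G) := sup_le
      (fun b hb => mem_centralizer_singleton_iff.2 (hc b hb c hc'.1))
      (zpowers_le.2 (mem_centralizer_singleton_iff.2 (mem_centralizer_singleton_iff.1 hc'.2).symm))
    have heq : B ⊔ zpowers q = Q := by
      have hsub : B ⊔ zpowers q ≤ Q := sup_le hB (zpowers_le.2 hq)
      refine eq_of_le_of_card_ge hsub ?_
      obtain ⟨m, hm5, hm⟩ := hdvd hsub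
      have hne : Nat.card B ≠ Nat.card (B ⊔ zpowers q : Subgroup G) := fun e => hqB (by
        rw [eq_of_le_of_card_ge (le_sup_left : B ≤ B ⊔ zpowers q) e.ge]; exact mem_sup_right (mem_zpowers q))
      have hle' := card_le_of_le (le_sup_left : B ≤ B ⊔ zpowers q)
      rw [hn, hm] at hne hle'
      rw [hQc, hm]
      have : 5 ≤ m := by
        by_contra h
        exact hne (le_antisymm hle' (Nat.pow_le_pow_right (by norm_num) (show m ≤ 4 by omega)))
      rw [show m = 5 by omega]; norm_num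
    exact (mem_centralizer_singleton_iff.1 (hle (heq.ge hx))).symm
  let f : B →* G :=
    { toFun := fun b => q * b * q⁻¹ * (b : G)⁻¹
      map_one' := by simp
      map_mul' := fun a b => by
        have h := hZQ (a : G) (hB a.2) _ (hcomm q hq b (hB b.2))
        calc q * (a * b : B) * q⁻¹ * ((a * b : B) : G)⁻¹
            = q * a * q⁻¹ * (a : G)⁻¹ * ((a : G) * (q * b * q⁻¹ * (b : G)⁻¹) * (a : G)⁻¹) := by push_cast; group
          _ = _ := by rw [h] }
  have h1 := card_mul_index f.ker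
  rw [index_ker, hn] at h1
  have hk : Nat.card f.ker ≤ 3 := by
    rw [← hZc]
    refine Nat.card_le_card_of_injective (fun b : f.ker => (⟨((b : B) : G), hC ⟨b.1.2,
      mem_centralizer_singleton_iff.2 ?_⟩⟩ : Z)) fun a b e => ?_
    · have hb : q * (b : B) * q⁻¹ * ((b : B) : G)⁻¹ = 1 := b.2
      rw [mul_inv_eq_one, mul_inv_eq_iff_eq_mul] at hb
      exact hb.symm
    · exact Subtype.ext (Subtype.ext (congrArg (fun x : Z => (x : G)) e))
  have hr : Nat.card f.range ≤ 3 := by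
    rw [← hZc]
    exact card_le_of_le (by rintro _ ⟨b, rfl⟩; exact hcomm q hq b (hB b.2))
  have := Nat.mul_le_mul hk hr
  omega


section Local

variable {G : Type u} [Group G] [Finite G] {S : Sylow 3 G} {Z : Subgroup G}
  (hZ : Z = (S : Subgroup G) ⊓ Subgroup.centralizer ((S : Subgroup G) : Set G)) {Q : Subgroup G}
  (hQ : Q = (Cfsg.pCore 3 (normalizer (Z : Set G))).map (normalizer (Z : Set G)).subtype)

include hQ in
theorem core_max {R : Subgroup G} (hR : IsPGroup 3 R) (hle : R ≤ normalizer (Z : Set G))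
    (hn : normalizer (Z : Set G) ≤ normalizer (R : Set G)) : R ≤ Q := by
  haveI : (R.subgroupOf (normalizer (Z : Set G))).Normal := (normal_subgroupOf_iff_le_normalizer hle).2 hn
  have h := CfsgLib.le_pCore (p := 3) (N := R.subgroupOf (normalizer (Z : Set G)))
    (hR.of_injective (subgroupOfEquivOfLe hle).toMonoidHom (MulEquiv.injective _))
  exact fun r hr => hQ ▸ ⟨⟨r, hle hr⟩, h (mem_subgroupOf.2 hr), rfl⟩

include hQ in
theorem core_norm : Q ≤ normalizer (Z : Set G) ∧ normalizer (Z : Set G) ≤ normalizer (Q : Set G) ∧ IsPGroup 3 Q := by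
  subst hQ
  refine ⟨map_subtype_le _, fun x hx => norm_of_conj_le ?_, (CfsgLib.isPGroup_pCore 3).map _⟩
  rintro _ ⟨w, hw, rfl⟩
  exact ⟨⟨x, hx⟩ * w * ⟨x, hx⟩⁻¹, (inferInstance : (Cfsg.pCore 3 (normalizer (Z : Set G))).Normal).conj_mem w hw _,
    rfl⟩

include hZ hQ

theorem centre_data (hex : Cfsg.IsExtraspecial 3 Q) :
    Q ≤ (S : Subgroup G) ∧ Z ≤ Q ∧ ∃ z : G, orderOf z = 3 ∧ Z = zpowers z ∧
      (∀ q ∈ Q, (∀ x ∈ Q, q * x = x * q) → q ∈ zpowers z) ∧
      (∀ a ∈ Q, ∀ b ∈ Q, a * b * a⁻¹ * b⁻¹ ∈ zpowers z) := by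
  haveI : Fact (Nat.Prime 3) := ⟨Nat.prime_three⟩
  obtain ⟨hQN, hNQ, hQp⟩ := core_norm hQ
  have hSN : (S : Subgroup G) ≤ normalizer (Z : Set G) := fun s hs => norm_of_conj_le fun c hc => by
    have hc' : c ∈ centralizer ((S : Subgroup G) : Set G) := by rw [hZ] at hc; exact hc.2
    rw [mem_centralizer_iff.1 hc' s hs, mul_inv_cancel_right]
    exact hc
  have h : IsPGroup 3 (Q ⊔ (S : Subgroup G) : Subgroup G) :=
    IsPGroup.to_sup_of_normal_left' hQp S.2 (hSN.trans hNQ)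
  have hQS : Q ≤ (S : Subgroup G) := le_sup_left.trans_eq (S.3 h le_sup_right)
  have hZS : Z ≤ (S : Subgroup G) := hZ ▸ inf_le_left
  have hZQ : Z ≤ Q := core_max hQ (CfsgLib.Local.isPGroup_of_le hZS S.2) le_normalizer le_rfl
  have hcomm : ∀ c ∈ Z, ∀ q ∈ Q, c * q = q * c := fun c hc q hq => by
    have hc' : c ∈ centralizer ((S : Subgroup G) : Set G) := by rw [hZ] at hc; exact hc.2
    exact (mem_centralizer_iff.1 hc' q (hQS hq)).symm
  obtain ⟨⟨-, -, hder⟩, hcard⟩ := hex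
  -- the centre of the Sylow subgroup is not trivial
  have hSne : Nontrivial (S : Subgroup G) := by
    obtain ⟨z, hz, hne⟩ : ∃ z : Q, z ∈ Subgroup.center Q ∧ z ≠ 1 := by
      by_contra hcon
      push Not at hcon
      rw [(Subgroup.eq_bot_iff_forall _).2 hcon, Subgroup.card_bot] at hcard
      omega
    exact ⟨⟨z, hQS z.2⟩, 1, fun e => hne (Subtype.ext (congrArg (fun w : (S : Subgroup G) => (w : G)) e))⟩
  haveI := S.2.center_nontrivial
  obtain ⟨w, hw⟩ := exists_ne (1 : Subgroup.center (S : Subgroup G))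
  have hwZ : ((w : (S : Subgroup G)) : G) ∈ Z := by
    rw [hZ]
    exact ⟨(w : (S : Subgroup G)).2, mem_centralizer_iff.2 fun s hs =>
      congrArg Subtype.val (Subgroup.mem_center_iff.1 w.2 ⟨s, hs⟩)⟩
  set z : G := ((w : (S : Subgroup G)) : G)
  set C : Subgroup G := (Subgroup.center Q).map Q.subtype
  have hC : Nat.card C = 3 := by rw [card_map_of_injective Subtype.val_injective, hcard]
  have hZC : Z ≤ C := fun c hc => ⟨⟨c, hZQ hc⟩, Subgroup.mem_center_iff.2
    (fun q => Subtype.ext (hcomm c hc q q.2).symm), rfl⟩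
  have hz1 : z ≠ 1 := fun e => hw (Subtype.ext (Subtype.ext e))
  have hz : orderOf z = 3 := by
    have h1 := orderOf_dvd_natCard C (hZC hwZ)
    rw [hC] at h1
    exact ((Nat.dvd_prime Nat.prime_three).1 h1).resolve_left (fun e => hz1 (orderOf_eq_one_iff.1 e))
  have hCz : C = zpowers z := (eq_of_le_of_card_ge (zpowers_le.2 (hZC hwZ))
    (by rw [Nat.card_zpowers, hz, hC])).symm
  refine ⟨hQS, hZQ, z, hz, le_antisymm (hCz ▸ hZC) (zpowers_le.2 hwZ), fun q hq hx => ?_, fun a ha b hb => ?_⟩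
  · rw [← hCz]
    exact ⟨⟨q, hq⟩, Subgroup.mem_center_iff.2 (fun x => Subtype.ext (hx x x.2).symm), rfl⟩
  · rw [← hCz]
    refine ⟨⁅(⟨a, ha⟩ : Q), ⟨b, hb⟩⁆, ?_, ?_⟩
    · rw [← hder, _root_.commutator_def]
      exact Subgroup.commutator_mem_commutator (mem_top _) (mem_top _)
    · simp [commutatorElement_def]

theorem core_cent (hex : Cfsg.IsExtraspecial 3 Q) :
    (Cfsg.pCore 3 (centralizer (Z : Set G))).map (centralizer (Z : Set G)).subtype ≤ Q := by
  obtain ⟨-, -, z, -, rfl, -, -⟩ := centre_data hZ hQ hex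
  set C := centralizer ((zpowers z : Subgroup G) : Set G)
  set N := normalizer ((zpowers z : Subgroup G) : Set G)
  have hCN : C ≤ N := fun x hx => norm_of_conj_le fun v hv => by
    rw [← mem_centralizer_iff.1 hx v hv, mul_inv_cancel_right]; exact hv
  refine core_max hQ ((CfsgLib.isPGroup_pCore 3).map _) ((map_subtype_le _).trans hCN) fun x hx =>
    norm_of_conj_le ?_
  rintro _ ⟨v, hv, rfl⟩
  have key : ∀ c ∈ C, x * c * x⁻¹ ∈ C := by
    intro c hc
    refine mem_centralizer_iff.2 fun e he => ?_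
    have he' : x⁻¹ * e * x ∈ zpowers z := by
      refine (Subgroup.mem_normalizer_iff.1 hx _).2 ?_
      rw [show x * (x⁻¹ * e * x) * x⁻¹ = e by group]; exact he
    have h := mem_centralizer_iff.1 hc _ he'
    calc e * (x * c * x⁻¹) = x * (x⁻¹ * e * x * c) * x⁻¹ := by group
      _ = _ := by rw [h]; group
  haveI : (C.subgroupOf N).Normal := ⟨fun c hc n => by
    rw [mem_subgroupOf] at hc ⊢
    push_cast
    refine mem_centralizer_iff.2 fun e he => ?_
    have he' : (n : G)⁻¹ * e * n ∈ zpowers z := by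
      refine (Subgroup.mem_normalizer_iff.1 n.2 _).2 ?_
      rw [show (n : G) * ((n : G)⁻¹ * e * n) * (n : G)⁻¹ = e by group]; exact he
    have h := mem_centralizer_iff.1 hc _ he'
    calc e * ((n : G) * c * (n : G)⁻¹) = n * ((n : G)⁻¹ * e * n * c) * (n : G)⁻¹ := by group
      _ = _ := by rw [h]; group⟩
  let σ : C ≃* C :=
    { toFun := fun c => ⟨x * c * x⁻¹, key c c.2⟩
      invFun := fun c => ⟨x⁻¹ * c * x, by
        have h := (inferInstance : (C.subgroupOf N).Normal).conj_mem ⟨c, hCN c.2⟩ (mem_subgroupOf.2 c.2) ⟨x, hx⟩⁻¹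
        rw [mem_subgroupOf] at h
        simpa using h⟩
      left_inv := fun c => Subtype.ext (by push_cast; group)
      right_inv := fun c => Subtype.ext (by push_cast; group)
      map_mul' := fun a b => Subtype.ext (by push_cast; group) }
  exact ⟨σ v, (CfsgLib.pCore_map_equiv 3 σ).le ⟨v, hv, rfl⟩, rfl⟩

end Local

/-- The groups with the local data, given self-centralisation of the core. -/
theorem exists_setting {G : Type u} [Group G] [Finite G]
    (S : Sylow 3 G) {Z : Subgroup G} (hZ : Z = (S : Subgroup G) ⊓ Subgroup.centralizer ((S : Subgroup G) : Set G))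
    {J : Subgroup G} (hJS : J ≤ S) (hJcomm : IsMulCommutative J) (hJexp : ∀ a ∈ J, a ^ 3 = 1)
    (hJcard : Nat.card J = 3 ^ 4) {M₀ : Subgroup G}
    (hM₀ : M₀ = Subgroup.closure {g : G | g ∈ Subgroup.normalizer (J : Set G) ∧ ∃ k : ℕ, orderOf g = 3 ^ k})
    (hJM : J ≤ M₀) [(J.subgroupOf M₀).Normal] (eM : M₀ ⧸ J.subgroupOf M₀ ≃* alternatingGroup (Fin 6))
    {L₀ : Subgroup G}
    (hL₀ : L₀ = Subgroup.closure {g : G | g ∈ Subgroup.normalizer (Z : Set G) ∧ ∃ k : ℕ, orderOf g = 3 ^ k})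
    {Q : Subgroup G} (hQ : Q = (Cfsg.pCore 3 (normalizer (Z : Set G))).map (normalizer (Z : Set G)).subtype)
    (hQex : Cfsg.IsExtraspecial 3 Q) (hQcard : Nat.card Q = 3 ^ 5)
    (hQL : Q ≤ L₀) [(Q.subgroupOf L₀).Normal]
    (eL : L₀ ⧸ Q.subgroupOf L₀ ≃* Matrix.SpecialLinearGroup (Fin 2) (ZMod 5))
    (hself : centralizer (Q : Set G) ≤ Q) :
    ∃ D : Setting G, D.J = J ∧ D.Zc = Z := by
  obtain ⟨-, hZQ, z, hz, hZz, hcen, hcomm⟩ := centre_data hZ hQ hQex
  have hzZ : z ∈ Z := hZz ▸ mem_zpowers z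
  have hzS : z ∈ (S : Subgroup G) ⊓ centralizer ((S : Subgroup G) : Set G) := hZ ▸ hzZ
  refine ⟨{
    S := S, z := z, z_ord := hz, z_comm := fun s hs => mem_centralizer_iff.1 hzS.2 s hs
    z_top := fun s hs h => hZz ▸ hZ.symm ▸ (⟨hs, mem_centralizer_iff.2 fun x hx => (h x hx).symm⟩ :
      s ∈ (S : Subgroup G) ⊓ centralizer ((S : Subgroup G) : Set G))
    J := J, J_le := hJS, J_comm := fun a ha b hb => congrArg Subtype.val (hJcomm.1.comm ⟨a, ha⟩ ⟨b, hb⟩)
    J_exp := hJexp, J_card := hJcard.trans (by norm_num), M₀ := M₀, M₀_eq := hM₀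
    φM := eM.toMonoidHom.comp (QuotientGroup.mk' _)
    φM_surj := eM.surjective.comp (QuotientGroup.mk'_surjective _)
    φM_ker := fun x => (MulEquiv.map_eq_one_iff eM).trans ((QuotientGroup.eq_one_iff x).trans mem_subgroupOf)
    J_le_M₀ := hJM, Q := Q, Q_card := hQcard.trans (by norm_num), z_Q := hZQ hzZ
    Q_centre := hcen, Q_comm := hcomm
    Q_norm := hZz ▸ (core_norm hQ).2.1
    Q_max := fun R h1 h2 h3 => core_max hQ h1 (hZz.symm ▸ h2) (hZz.symm ▸ h3)
    Q_self := hself, L₀ := L₀, L₀_eq := hZz ▸ hL₀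
    φL := eL.toMonoidHom.comp (QuotientGroup.mk' _)
    φL_surj := eL.surjective.comp (QuotientGroup.mk'_surjective _)
    φL_ker := fun x => (MulEquiv.map_eq_one_iff eL).trans ((QuotientGroup.eq_one_iff x).trans mem_subgroupOf)
    Q_le_L₀ := hQL }, rfl, hZz.symm⟩

/-- The centre lies in the abelian subgroup. -/
theorem centre_le_J {G : Type u} [Group G] [Finite G]
    (S : Sylow 3 G) {Z : Subgroup G} (hZ : Z = (S : Subgroup G) ⊓ Subgroup.centralizer ((S : Subgroup G) : Set G))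
    {J : Subgroup G} (hJS : J ≤ S) (hJcomm : IsMulCommutative J) (hJcard : Nat.card J = 3 ^ 4)
    {L₀ : Subgroup G}
    (hL₀ : L₀ = Subgroup.closure {g : G | g ∈ Subgroup.normalizer (Z : Set G) ∧ ∃ k : ℕ, orderOf g = 3 ^ k})
    {Q : Subgroup G} (hQ : Q = (Cfsg.pCore 3 (normalizer (Z : Set G))).map (normalizer (Z : Set G)).subtype)
    (hQex : Cfsg.IsExtraspecial 3 Q) (hQcard : Nat.card Q = 3 ^ 5)
    [(Q.subgroupOf L₀).Normal] (eL : L₀ ⧸ Q.subgroupOf L₀ ≃* Matrix.SpecialLinearGroup (Fin 2) (ZMod 5)) :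
    Z ≤ J := by
  obtain ⟨hQS, hZQ, z, hz, hZz, hcen, hcomm⟩ := centre_data hZ hQ hQex
  intro v hv
  by_contra hvJ
  have hvS : v ∈ (S : Subgroup G) ⊓ centralizer ((S : Subgroup G) : Set G) := hZ ▸ hv
  set B := J ⊔ zpowers v
  have hBS : B ≤ (S : Subgroup G) := sup_le hJS (zpowers_le.2 hvS.1)
  have hBc := comm_sup (A := J) (fun a ha b hb => congrArg Subtype.val (hJcomm.1.comm ⟨a, ha⟩ ⟨b, hb⟩)) (q := v)
    fun a ha => (mem_centralizer_iff.1 hvS.2 a (hJS ha)).symm
  have hBp : IsPGroup 3 B := CfsgLib.Local.isPGroup_of_le hBS S.2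
  obtain ⟨n, hn⟩ := IsPGroup.iff_card.1 hBp
  have h5 : 5 ≤ n := by
    by_contra h
    refine hvJ ?_
    rw [eq_of_le_of_card_ge (le_sup_left : J ≤ B) (by
      rw [hJcard, hn]; exact Nat.pow_le_pow_right (by norm_num) (show n ≤ 4 by omega))]
    exact mem_sup_right (mem_zpowers v)
  have hSN : (S : Subgroup G) ≤ normalizer (Z : Set G) := fun s hs => norm_of_conj_le fun c hc => by
    have hc' : c ∈ centralizer ((S : Subgroup G) : Set G) := by rw [hZ] at hc; exact hc.2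
    rw [mem_centralizer_iff.1 hc' s hs, mul_inv_cancel_right]
    exact hc
  have hBL : B ≤ L₀ := fun b hb => by
    obtain ⟨k, hk⟩ := hBp ⟨b, hb⟩
    obtain ⟨i, -, hi⟩ := (Nat.dvd_prime_pow Nat.prime_three).1
      (orderOf_dvd_of_pow_eq_one (congrArg Subtype.val hk : b ^ 3 ^ k = 1))
    rw [hL₀]
    exact subset_closure ⟨hSN (hBS hb), i, hi⟩
  let ψ : B →* K5 := (eL.toMonoidHom.comp (QuotientGroup.mk' _)).comp (inclusion hBL)
  have hm := card_mul_index ψ.ker
  rw [index_ker, hn] at hm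
  obtain ⟨m, -, hm'⟩ := (Nat.dvd_prime_pow Nat.prime_three).1 (Dvd.intro_left _ hm)
  have hr : Nat.card ψ.range ∣ 120 := by
    have h := card_subgroup_dvd_card ψ.range
    rwa [Nat.card_eq_fintype_card (α := K5), k5_card] at h
  have hm1 : m ≤ 1 := by
    by_contra h
    rw [hm'] at hr
    have := (pow_dvd_pow 3 (show 2 ≤ m by omega)).trans hr
    norm_num at this
  have hk27 : Nat.card ψ.ker ≤ 27 := by
    have hcard : Nat.card (B ⊓ Q : Subgroup G) = Nat.card ψ.ker := Nat.card_congr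
      ⟨fun x => ⟨⟨x.1, x.2.1⟩, (MulEquiv.map_eq_one_iff eL).2 ((QuotientGroup.eq_one_iff _).2 (mem_subgroupOf.2 x.2.2))⟩,
        fun x => ⟨(x.1 : G), x.1.2, mem_subgroupOf.1 ((QuotientGroup.eq_one_iff (inclusion hBL x.1)).1 ((MulEquiv.map_eq_one_iff eL).1 x.2))⟩,
        fun x => rfl, fun x => rfl⟩
    rw [← hcard]
    refine abelian_bound (Z := zpowers z) (hQcard.trans (by norm_num)) (by rw [Nat.card_zpowers, hz]) hcen hcomm
      (fun q hq c hc => ?_) inf_le_right fun a ha b hb => hBc a ha.1 b hb.1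
    have hc' : c ∈ (S : Subgroup G) ⊓ centralizer ((S : Subgroup G) : Set G) := by rw [← hZ, hZz]; exact hc
    rw [mem_centralizer_iff.1 hc'.2 q (hQS hq), mul_inv_cancel_right]
  rw [hm'] at hm
  have h1 := Nat.mul_le_mul hk27 (Nat.pow_le_pow_right (show 0 < 3 by norm_num) hm1)
  have h2 := Nat.pow_le_pow_right (show 0 < 3 by norm_num) h5
  omega

/-- The conclusion from the setting. -/
theorem Full.conclusion {G : Type u} [Group G] [Finite G] {D : Setting G} (U : Full D)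
    (hc : centralizer ({U.yp} : Set G) ≤ normalizer (D.J : Set G)) :
    Nonempty (G ≃* Cfsg.Spor.McL) ∨ Nonempty (G ≃* MulAut Cfsg.Spor.McL) := by
  rcases U.CD_split with h | ⟨⟨E⟩⟩
  · exact Or.inl (U.nonempty_McL hc h)
  · exact Or.inr (U.nonempty_Aut hc E)

end CfsgLib.McLThree
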