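import Cfsg.Agent.Lib.McLThree.CovS8
import Cfsg.Agent.Lib.McLThree.OddCore
import Cfsg.Agent.Lib.Leech.SporTransfer
import Cfsg.Agent.Lib.Leech.Conway
import Cfsg.Agent.S0111

/-!
A subgroup of index two in the case of the symmetric group.
-/

set_option autoImplicit false
set_option synthInstance.maxSize 2000
set_option maxRecDepth 20000

namespace CfsgLib.McLThree

open Subgroup Equiv Equiv.Perm

universe u

theorem isP_two {K : Type*} [Group K] {x : K} (h : x * x = 1) : IsPGroup 2 (zpowers x) := by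
  rintro ⟨v, hv⟩
  obtain ⟨n, rfl⟩ := mem_zpowers_iff.1 hv
  refine ⟨1, Subtype.ext ?_⟩
  show (x ^ n) ^ (2 ^ 1) = 1
  rw [pow_one, pow_two, ← (Commute.refl x).mul_zpow, h, one_zpow]

theorem relIndex_two {K : Type*} [Group K] {A B : Subgroup K} {a : K} (ha : a ∈ B)
    (h : ∀ b ∈ B, b * a ∈ A ↔ b ∉ A) : A.relIndex B = 2 := by
  refine Subgroup.index_eq_two_iff.2 ⟨⟨a, ha⟩, fun b => ?_⟩
  simp only [mem_subgroupOf, Subgroup.coe_mul]
  by_cases hb : (b : K) ∈ A
  · exact Or.inr ⟨hb, fun h' => (h b b.2).1 h' hb⟩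
  · exact Or.inl ⟨(h b b.2).2 hb, hb⟩

namespace Full

variable {G : Type u} [Group G] {D : Setting G} (U : Full D) [Finite G] {C : Cov U.Ct}
  (hτ : C.τ = ⟨U.F.t, U.t_Ct⟩)

include U hτ

theorem τ_mem (T : Sylow 2 U.Ct) : C.τ ∈ (T : Subgroup U.Ct) := by
  have hn : (zpowers C.τ).Normal := ⟨fun n hn g => by
    obtain ⟨i, rfl⟩ := mem_zpowers_iff.1 hn
    rw [((show Commute g C.τ from C.central g).zpow_right i).eq, mul_inv_cancel_right]
    exact zpow_mem (mem_zpowers _) i⟩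
  have h := T.3 (IsPGroup.to_sup_of_normal_left (isP_two C.τ_sq) T.2 : IsPGroup 2 (zpowers C.τ ⊔ T : Subgroup U.Ct))
    le_sup_right
  exact h.le (le_sup_left (b := (T : Subgroup U.Ct)) (mem_zpowers C.τ))

/-- A Sylow two-subgroup of the centralizer is one of the group. -/
theorem sylow_up (T : Sylow 2 U.Ct) :
    ∃ P : Sylow 2 G, (P : Subgroup G) = (T : Subgroup U.Ct).map U.Ct.subtype := by
  haveI : Fact (Nat.Prime 2) := ⟨Nat.prime_two⟩
  set P0 := (T : Subgroup U.Ct).map U.Ct.subtype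
  obtain ⟨P, hP⟩ := (T.2.map U.Ct.subtype).exists_le_sylow
  refine ⟨P, by_contra fun hne => ?_⟩
  obtain ⟨x, hxP, hx, hxn⟩ := p_group_grows P.2 hP (Ne.symm hne)
  by_cases hxC : x ∈ U.Ct
  · have hle : (T : Subgroup U.Ct) ≤ ((P : Subgroup G) ⊓ U.Ct).subgroupOf U.Ct := fun v hv =>
      ⟨hP ⟨v, hv, rfl⟩, v.2⟩
    have hp : IsPGroup 2 (((P : Subgroup G) ⊓ U.Ct).subgroupOf U.Ct) :=
      (CfsgLib.Local.isPGroup_of_le inf_le_left P.2).of_injective (subgroupOfEquivOfLe inf_le_right).toMonoidHom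
        (MulEquiv.injective _)
    exact hx ⟨⟨x, hxC⟩, (T.3 hp hle).le (⟨hxP, hxC⟩ : x ∈ (P : Subgroup G) ⊓ U.Ct), rfl⟩
  obtain ⟨w, hw, hwe⟩ := (Subgroup.mem_normalizer_iff.1 hxn U.F.t).1
    ⟨C.τ, U.τ_mem hτ T, congrArg Subtype.val hτ⟩
  have hw2 : w * w = 1 := Subtype.ext (by
    show (w : G) * w = 1
    rw [show (w : G) = x * U.F.t * x⁻¹ from hwe, conj_mul, U.F.t_sq, mul_one, mul_inv_cancel])
  have hw1 : w ≠ 1 := fun e => U.F.t_ne (conj_eq_one_iff.1 (hwe.symm.trans (congrArg Subtype.val e)))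
  have hwτ : w ≠ C.τ := fun e => hxC (mem_centralizer_singleton_iff.2 (mul_inv_eq_iff_eq_mul.1
    (hwe.symm.trans (congrArg Subtype.val (e.trans hτ)))))
  have hcen : (T : Subgroup U.Ct) ≤ centralizer ({w} : Set U.Ct) := by
    intro v hv
    refine mem_centralizer_singleton_iff.2 (Subtype.ext ?_)
    show (v : G) * w = w * v
    obtain ⟨v', hv', hve⟩ := (Subgroup.mem_normalizer_iff.1 (inv_mem hxn) (v : G)).1 ⟨v, hv, rfl⟩
    have e : (v' : G) * U.F.t = U.F.t * v' := mem_centralizer_singleton_iff.1 v'.2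
    rw [show (v' : G) = x⁻¹ * v * x from hve.trans (by rw [inv_inv])] at e
    rw [show (w : G) = x * U.F.t * x⁻¹ from hwe]
    calc (v : G) * (x * U.F.t * x⁻¹) = x * (x⁻¹ * v * x * U.F.t) * x⁻¹ := by group
      _ = _ := by rw [e]; group
  obtain ⟨c, hc⟩ := C.exists_flip hw2 hw1 hwτ
  have hne : w * C.τ ≠ w := fun e => C.τ_ne (mul_eq_left.1 e)
  have hflip : ∀ g : U.Ct, ∀ v, g * (v * C.τ) * g⁻¹ = g * v * g⁻¹ * C.τ := fun g v => by
    rw [show g * (v * C.τ) * g⁻¹ = g * v * (C.τ * g⁻¹) by group, ← C.central]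
    group
  let N : Subgroup U.Ct :=
    { carrier := {g | g * w * g⁻¹ = w ∨ g * w * g⁻¹ = w * C.τ}
      one_mem' := Or.inl (by group)
      mul_mem' := fun {a b} ha hb => by
        show a * b * w * (a * b)⁻¹ = w ∨ a * b * w * (a * b)⁻¹ = w * C.τ
        rw [show a * b * w * (a * b)⁻¹ = a * (b * w * b⁻¹) * a⁻¹ by group]
        rcases hb with e | e <;> rw [e] <;> [skip; rw [hflip]] <;> rcases ha with e' | e' <;> rw [e']
        · exact Or.inl rfl
        · exact Or.inr rfl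
        · exact Or.inr rfl
        · exact Or.inl (by rw [mul_assoc, C.τ_sq, mul_one])
      inv_mem' := fun {a} ha => by
        show a⁻¹ * w * a⁻¹⁻¹ = w ∨ a⁻¹ * w * a⁻¹⁻¹ = w * C.τ
        rcases ha with e | e
        · left; nth_rw 1 [← e]; group
        · right
          have h : a⁻¹ * (w * C.τ) * a⁻¹⁻¹ = w := by rw [← e]; group
          rw [hflip] at h
          calc a⁻¹ * w * a⁻¹⁻¹ = a⁻¹ * w * a⁻¹⁻¹ * (C.τ * C.τ) := by rw [C.τ_sq, mul_one]
            _ = w * C.τ := by rw [← mul_assoc, h] }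
  have hidx : (centralizer ({w} : Set U.Ct)).relIndex N = 2 := by
    refine relIndex_two (a := c) (Or.inr hc) fun b hb => ?_
    rw [mem_centralizer_singleton_iff, mem_centralizer_singleton_iff, ← mul_inv_eq_iff_eq_mul,
      ← mul_inv_eq_iff_eq_mul, show b * c * w * (b * c)⁻¹ = b * (c * w * c⁻¹) * b⁻¹ by group, hc, hflip]
    rcases hb with e | e <;> rw [e]
    · exact iff_of_false hne (fun h => h rfl)
    · exact iff_of_true (by rw [mul_assoc, C.τ_sq, mul_one]) hne
  have hle : centralizer ({w} : Set U.Ct) ≤ N := fun v hv =>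
    Or.inl (mul_inv_eq_iff_eq_mul.2 (mem_centralizer_singleton_iff.1 hv))
  have h2 : 2 ∣ (centralizer ({w} : Set U.Ct)).index := by
    rw [← relIndex_mul_index hle, hidx]; exact dvd_mul_right _ _
  exact T.not_dvd_index (h2.trans (index_dvd_of_le hcen))

/-- A subgroup of index two containing exactly the even part of the centralizer. -/
theorem index_two : ∃ M : Subgroup G, M.Normal ∧ M.index = 2 ∧
    ∀ x : U.Ct, (x : G) ∈ M ↔ sign (C.f x) = 1 := by
  haveI : Fact (Nat.Prime 2) := ⟨Nat.prime_two⟩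
  obtain ⟨u, hu2, hus⟩ := C.odd_invol
  obtain ⟨T, hT⟩ := (isP_two hu2).exists_le_sylow
  obtain ⟨P, hP⟩ := U.sylow_up hτ T
  set Q' : Subgroup G := ((T : Subgroup U.Ct) ⊓ (sign.comp C.f).ker).map U.Ct.subtype
  have hu1 : u ≠ 1 := fun e => by rw [e, map_one, map_one] at hus; exact absurd hus (by decide)
  have huG : orderOf (u : G) = 2 := orderOf_eq_prime (by rw [pow_two]; exact congrArg Subtype.val hu2)
    fun e => hu1 (Subtype.ext e)
  have huT : u ∈ (T : Subgroup U.Ct) := hT (mem_zpowers u)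
  have hmemQ : ∀ x : U.Ct, (x : G) ∈ Q' ↔ x ∈ (T : Subgroup U.Ct) ∧ sign (C.f x) = 1 := fun x =>
    ⟨fun ⟨v, hv, e⟩ => (Subtype.ext e : v = x) ▸ hv, fun h => ⟨x, h, rfl⟩⟩
  have hQi : Q'.relIndex (P : Subgroup G) = 2 := by
    rw [hP]
    refine relIndex_two (a := (u : G)) ⟨u, huT, rfl⟩ ?_
    rintro _ ⟨b, hb, rfl⟩
    rw [show U.Ct.subtype b * (u : G) = ((b * u : U.Ct) : G) from rfl, hmemQ, show U.Ct.subtype b = (b : G) from rfl,
      hmemQ, map_mul, map_mul, hus]
    rcases Int.units_eq_one_or (sign (C.f b)) with e | e <;> rw [e]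
    · exact iff_of_false (fun h => absurd h.2 (by decide)) (fun h => h ⟨hb, rfl⟩)
    · exact iff_of_true ⟨mul_mem hb huT, by decide⟩ (fun h => absurd h.2 (by decide))
  rcases Cfsg.Agent.S0111.result P Q' (by rw [hP]; exact Subgroup.map_mono inf_le_left) hQi (u : G) huG
    (hP ▸ ⟨u, huT, rfl⟩) (fun h => by rw [hmemQ, hus] at h; exact absurd h.2 (by decide)) with
    ⟨M, hMn, hMi, huM⟩ | ⟨g, hg⟩
  · refine ⟨M, hMn, hMi, ?_⟩
    have hsq : ∀ v : G, v * v ∈ M := fun v => Subgroup.mul_self_mem_of_index_two hMi v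
    have hτM : (C.τ : G) ∈ M := by rw [← C.a₀_sq]; exact hsq _
    have halt : alternatingGroup (Fin 8) ≤ (M.subgroupOf U.Ct).map C.f := by
      rw [← closure_three_cycles_eq_alternating]
      refine (closure_le _).2 fun c hc => ?_
      obtain ⟨v, hv⟩ := C.surj (c * c)
      refine ⟨v * v, mem_subgroupOf.2 (by push_cast; exact hsq _), ?_⟩
      rw [map_mul, hv]
      have h3 : c ^ 3 = 1 := by rw [← IsThreeCycle.orderOf hc]; exact pow_orderOf_eq_one c
      calc c * c * (c * c) = c ^ 3 * c := by rw [pow_succ, pow_two]; group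
        _ = c := by rw [h3, one_mul]
    have heven : ∀ x : U.Ct, sign (C.f x) = 1 → (x : G) ∈ M := by
      intro x hx
      obtain ⟨v, hv, e⟩ := halt (Perm.mem_alternatingGroup.2 hx)
      have hv' : (v : G) ∈ M := hv
      rcases C.eq_or e.symm with h | h <;> rw [h]
      · exact hv'
      · exact mul_mem hv' hτM
    refine fun x => ⟨fun hx => ?_, heven x⟩
    refine (Int.units_eq_one_or _).resolve_right fun e => huM ?_
    have h := heven (x * u) (by rw [map_mul, map_mul, e, hus]; decide)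
    rw [show ((x * u : U.Ct) : G) = (x : G) * u from rfl] at h
    exact (M.mul_mem_cancel_left hx).1 h
  · exfalso
    obtain ⟨w, hw, e⟩ := hg
    have hw2 : w * w = 1 := Subtype.ext (by
      show (w : G) * w = 1
      rw [show (w : G) = g * u * g⁻¹ from e, conj_mul, show (u : G) * u = 1 from congrArg Subtype.val hu2, mul_one,
        mul_inv_cancel])
    have hw1 : w ≠ 1 := fun e' => hu1 (Subtype.ext (conj_eq_one_iff.1 (e.symm.trans (congrArg Subtype.val e'))))
    obtain ⟨h, hh⟩ := U.even_to_t hτ hw2 hw1 hw.2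
    have := U.conj_even hτ (s := u) (h := g⁻¹ * h) (by
      calc (u : G) = g⁻¹ * (g * u * g⁻¹) * g := by group
        _ = g⁻¹ * (h * U.F.t * h⁻¹) * g := by rw [← hh]; exact congrArg (fun v => g⁻¹ * v * g) e.symm
        _ = _ := by group)
    rw [hus] at this
    exact absurd this (by decide)

end Full

end CfsgLib.McLThree
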