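import Cfsg.Agent.Lib.McLThree.APart
import Mathlib.Algebra.BigOperators.Fin
import Mathlib.Algebra.BigOperators.GroupWithZero.Finset

/-!
The second local group: coordinates in the alternating group of degree six.
-/

set_option autoImplicit false

namespace CfsgLib.McLThree

open Subgroup Equiv Equiv.Perm

universe u

set_option maxRecDepth 100000 in
theorem nine_mul : ∀ x y : Fin 3 × Fin 3, nine x.1 x.2 * nine y.1 y.2 = nine (x.1 + y.1) (x.2 + y.2) := by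
  decide +kernel

set_option maxRecDepth 100000 in
theorem nine_t6 : ∀ x : Fin 3 × Fin 3, t6 * nine x.1 x.2 * t6⁻¹ * nine x.1 x.2 = 1 := by decide +kernel

set_option maxRecDepth 100000 in
theorem nine_gens : nine 1 0 = a6 ∧ nine 0 1 = b6 ∧ nine 0 0 = 1 := by decide +kernel

/-- The Sylow three-subgroup of the alternating group of degree six. -/
def nine6 : Subgroup A6 where
  carrier := {x | InNine x}
  one_mem' := ⟨0, 0, nine_gens.2.2.symm⟩
  mul_mem' := by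
    rintro x y ⟨i, j, rfl⟩ ⟨k, l, rfl⟩
    exact ⟨i + k, j + l, nine_mul (i, j) (k, l)⟩
  inv_mem' := by
    rintro x ⟨i, j, rfl⟩
    refine ⟨-i, -j, inv_eq_of_mul_eq_one_right ((nine_mul (i, j) (-i, -j)).trans ?_)⟩
    show nine (i + -i) (j + -j) = 1
    rw [add_neg_cancel, add_neg_cancel]
    exact nine_gens.2.2

theorem card_nine6 : Nat.card nine6 = 9 := by
  have h : Function.Bijective fun x : Fin 3 × Fin 3 => (⟨nine x.1 x.2, x.1, x.2, rfl⟩ : nine6) := by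
    refine ⟨fun x y e => six_inj x y (congrArg Subtype.val e), ?_⟩
    rintro ⟨x, i, j, rfl⟩
    exact ⟨(i, j), rfl⟩
  rw [← Nat.card_eq_of_bijective _ h, Nat.card_prod, Nat.card_fin]

theorem norm9_conj {x : A6} (h : Norm9 x) {n : A6} (hn : InNine n) : InNine (x * n * x⁻¹) := by
  obtain ⟨i, j, rfl⟩ := hn
  rw [nine, show x * (a6 ^ i.val * b6 ^ j.val) * x⁻¹ = (x * a6 * x⁻¹) ^ i.val * (x * b6 * x⁻¹) ^ j.val by
    rw [conj_pow, conj_pow]; group]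
  exact nine6.mul_mem (nine6.pow_mem h.1 _) (nine6.pow_mem h.2 _)

theorem nine6_conj (P : Subgroup A6) (hP : Nat.card P = 9) :
    ∃ c : A6, P.map (MulAut.conj c).toMonoidHom = nine6 := by
  haveI : Fact (Nat.Prime 3) := ⟨Nat.prime_three⟩
  obtain ⟨c, -, R, hR, -, hnR, hPR⟩ := CfsgLib.Local.exists_conj_isPGroup (C := ⊤) (A := nine6) (B := P)
    (IsPGroup.of_card (p := 3) (n := 2) (by rw [card_nine6]; norm_num))
    (IsPGroup.of_card (p := 3) (n := 2) (by rw [hP]; norm_num))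
    le_top le_top
  obtain ⟨m, hm⟩ := IsPGroup.iff_card.1 hR
  have h360 : Nat.card A6 = 360 := by rw [nat_card_alternatingGroup, Nat.card_fin]; rfl
  have hd := card_subgroup_dvd_card R
  rw [h360, hm] at hd
  have hm2 : m ≤ 2 := by
    by_contra h
    have h' := (pow_dvd_pow 3 (by omega : 3 ≤ m)).trans hd
    norm_num at h'
  have e1 : nine6 = R := eq_of_le_of_card_ge hnR (by
    rw [card_nine6, hm]; exact Nat.pow_le_pow_right (n := 3) (by norm_num) hm2)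
  exact ⟨c, eq_of_le_of_card_ge (e1 ▸ hPR) (by
    rw [card_nine6, card_map_of_injective (MulEquiv.injective _), hP])⟩

/-- Representatives of the ten cosets. -/
def wrep : Option (Fin 3 × Fin 3) → A6
  | none => 1
  | some x => nine x.1 x.2 * g6

set_option maxRecDepth 100000 in
theorem wrep_move : ∀ o, ∃ o', Norm9 ((wrep o')⁻¹ * g6 * wrep o) := by decide +kernel

set_option maxRecDepth 100000 in
theorem wrep_inj : ∀ o₁ o₂, Norm9 ((wrep o₁)⁻¹ * wrep o₂) → o₁ = o₂ := by decide +kernel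

namespace Setting

variable {G : Type u} [Group G] (D : Setting G)

theorem M₀_norm {x : G} (hx : x ∈ D.M₀) : x ∈ normalizer (D.J : Set G) := by
  rw [D.M₀_eq] at hx
  exact (closure_le _).2 (fun g hg => hg.1) hx

theorem M₀_conj {x m : G} (hx : x ∈ normalizer (D.J : Set G)) (hm : m ∈ D.M₀) : x * m * x⁻¹ ∈ D.M₀ := by
  rw [D.M₀_eq] at hm
  induction hm using closure_induction with
  | mem l hl =>
    obtain ⟨hn, k, hk⟩ := hl
    refine D.three_mem_M₀ (mul_mem (mul_mem hx hn) (inv_mem hx)) ⟨k, ?_⟩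
    rw [← hk]; exact MulEquiv.orderOf_eq (MulAut.conj x) l
  | one => simp
  | mul a b _ _ ha hb => rw [show x * (a * b) * x⁻¹ = x * a * x⁻¹ * (x * b * x⁻¹) by group]; exact mul_mem ha hb
  | inv a _ ha => rw [← conj_inv]; exact inv_mem ha

theorem M₀_J {m j : G} (hm : m ∈ D.M₀) (hj : j ∈ D.J) : m * j * m⁻¹ ∈ D.J :=
  (Subgroup.mem_normalizer_iff.1 (D.M₀_norm hm) j).1 hj

end Setting

/-- Coordinates on the second local group. -/
structure Chart {G : Type u} [Group G] {D : Setting G} (F : Frame D) where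
  /-- the map -/
  φ : D.M₀ →* A6
  /-- onto -/
  surj : Function.Surjective φ
  /-- with kernel `J` -/
  ker : ∀ x : D.M₀, φ x = 1 ↔ (x : G) ∈ D.J
  /-- the Sylow subgroup is the preimage of the standard one -/
  mem_S : ∀ x : D.M₀, InNine (φ x) ↔ (x : G) ∈ D.S
  /-- the involution lies in the second local group -/
  t_M : F.t ∈ D.M₀
  /-- with the standard image -/
  φt : φ ⟨F.t, t_M⟩ = t6

namespace Frame

variable {G : Type u} [Group G] {D : Setting G} (F : Frame D)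

include F

theorem S_le_M₀ [Finite G] : (D.S : Subgroup G) ≤ D.M₀ := fun s hs => by
  obtain ⟨n, hn⟩ := D.S.2 ⟨s, hs⟩
  obtain ⟨j, -, hj⟩ := (Nat.dvd_prime_pow Nat.prime_three).1
    (orderOf_dvd_of_pow_eq_one (congrArg Subtype.val hn : s ^ 3 ^ n = 1))
  exact D.three_mem_M₀ (F.S_norm_J hs) ⟨j, hj⟩

theorem S_J_A [Finite G] {s w : G} (hs : s ∈ (D.S : Subgroup G)) (hw : w ∈ D.J) :
    s * w * s⁻¹ * w⁻¹ ∈ D.A := by
  obtain ⟨q, hq, i, rfl⟩ := F.S_mem hs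
  have h1 : q * F.y ^ i * w * (q * F.y ^ i)⁻¹ * w⁻¹ = q * (w * q⁻¹ * w⁻¹) := by
    rw [show q * F.y ^ i * w * (q * F.y ^ i)⁻¹ * w⁻¹ = q * (F.y ^ i * w) * (F.y ^ i)⁻¹ * q⁻¹ * w⁻¹ by group,
      D.J_comm _ (pow_mem F.y_J i) w hw]
    group
  refine ⟨?_, ?_⟩
  · exact D.J.mul_mem ((Subgroup.mem_normalizer_iff.1 (F.S_norm_J hs) w).1 hw) (D.J.inv_mem hw)
  · rw [h1]
    exact D.Q.mul_mem hq (D.norm_Q (D.S_norm (D.J_le hw)) (D.Q.inv_mem hq))

theorem S_A_Zc [Finite G] {s a : G} (hs : s ∈ (D.S : Subgroup G)) (ha : a ∈ D.A) :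
    s * a * s⁻¹ * a⁻¹ ∈ D.Zc := by
  obtain ⟨q, hq, i, rfl⟩ := F.S_mem hs
  rw [show q * F.y ^ i * a * (q * F.y ^ i)⁻¹ * a⁻¹ = q * (F.y ^ i * a) * (F.y ^ i)⁻¹ * q⁻¹ * a⁻¹ by group,
    D.J_comm _ (pow_mem F.y_J i) a ha.1, ← mul_assoc q, mul_inv_cancel_right]
  exact D.Q_comm q hq a ha.2

theorem exists_chart [Finite G] : Nonempty (Chart F) := by
  set P := ((D.S : Subgroup G).subgroupOf D.M₀).map D.φM
  have hP : Nat.card P = 9 := by
    have h := card_mul_index ((D.φM.comp (inclusion F.S_le_M₀)).ker)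
    rw [index_ker, MonoidHom.range_comp, Subgroup.inclusion_range, D.S_card,
      show Nat.card (D.φM.comp (inclusion F.S_le_M₀)).ker = 81 by
        rw [← D.J_card]
        exact Nat.card_congr ⟨fun x => ⟨(x.1 : G), (D.φM_ker _).1 x.2⟩,
          fun x => ⟨⟨x.1, D.J_le x.2⟩, (D.φM_ker _).2 x.2⟩, fun x => rfl, fun x => rfl⟩] at h
    change 81 * Nat.card P = 729 at h
    omega
  obtain ⟨c, hc⟩ := nine6_conj P hP
  let φ₁ : D.M₀ →* A6 := (MulAut.conj c).toMonoidHom.comp D.φM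
  have hsurj : Function.Surjective φ₁ := (MulAut.conj c).surjective.comp D.φM_surj
  have hker : ∀ x : D.M₀, φ₁ x = 1 ↔ (x : G) ∈ D.J := fun x =>
    (MulEquiv.map_eq_one_iff (MulAut.conj c)).trans (D.φM_ker x)
  have hmem : ∀ x : D.M₀, InNine (φ₁ x) ↔ (x : G) ∈ D.S := by
    intro x
    constructor
    · intro hx
      obtain ⟨_, ⟨s, hs, rfl⟩, he⟩ := (hc.symm.le (show φ₁ x ∈ nine6 from hx))
      have hJ : ((x * s⁻¹ : D.M₀) : G) ∈ D.J := (D.φM_ker _).1 (by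
        rw [map_mul, map_inv, mul_inv_eq_one]; exact (MulAut.conj c).injective he.symm)
      have h := (D.S : Subgroup G).mul_mem (D.J_le hJ) hs
      exact (by simpa using h : (x : G) ∈ (D.S : Subgroup G))
    · intro hx
      exact hc.le ⟨D.φM x, ⟨x, hx, rfl⟩, rfl⟩
  obtain ⟨p₀, hp₀⟩ := hsurj p6
  have hp₀S : (p₀ : G) ∈ normalizer ((D.S : Subgroup G) : Set G) := by
    refine norm_of_conj_le fun s hs => ?_
    refine (hmem (p₀ * ⟨s, F.S_le_M₀ hs⟩ * p₀⁻¹)).1 ?_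
    rw [map_mul, map_mul, map_inv, hp₀]
    refine norm9_conj ?_ ((hmem _).2 hs)
    exact ⟨⟨0, 1, by rw [six_basic.2.1, nine_gens.2.1]⟩, by
      rw [six_basic.2.2.1, ← nine_gens.1]; exact nine6.inv_mem ⟨1, 0, rfl⟩⟩
  set w : D.M₀ := p₀ * p₀
  have hwS : (w : G) ∈ normalizer ((D.S : Subgroup G) : Set G) := mul_mem hp₀S hp₀S
  have hwz : (w : G) * D.z = D.z * w := by
    refine mul_inv_eq_iff_eq_mul.1 ?_
    show (p₀ : G) * p₀ * D.z * ((p₀ : G) * p₀)⁻¹ = D.z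
    rw [show (p₀ : G) * p₀ * D.z * ((p₀ : G) * p₀)⁻¹ = (p₀ : G) * ((p₀ : G) * D.z * (p₀ : G)⁻¹) * (p₀ : G)⁻¹ by group]
    rcases D.conj_of_norm (F.norm_S_z hp₀S) with e | e
    · rw [e, e]
    · rw [e, ← conj_inv, e, inv_inv]
  have hφw : φ₁ w = t6 := by rw [map_mul, hp₀, six_basic.1]
  have hwJ : (w : G) ∈ normalizer (D.J : Set G) := D.M₀_norm w.2
  have hwQ : ∀ q ∈ D.Q, (w : G) * q * (w : G)⁻¹ * q ∈ D.A := by
    intro q hq
    set qm : D.M₀ := ⟨q, F.S_le_M₀ (D.Q_le hq)⟩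
    obtain ⟨i, j, hij⟩ := (hmem qm).2 (D.Q_le hq)
    refine ⟨(hker (w * qm * w⁻¹ * qm)).1 ?_, D.Q.mul_mem (D.norm_Q (D.comm_norm hwz) hq) hq⟩
    rw [map_mul, map_mul, map_mul, map_inv, hφw, hij]
    exact nine_t6 (i, j)
  have hwA : ∀ a ∈ D.A, (w : G) * a * (w : G)⁻¹ * a ∈ D.Zc := by
    intro a ha
    set α := (w : G) * a * (w : G)⁻¹
    have hα : α ∈ D.A := ⟨(Subgroup.mem_normalizer_iff.1 hwJ a).1 ha.1, D.norm_Q (D.comm_norm hwz) ha.2⟩
    refine D.Q_centre _ (D.Q.mul_mem hα.2 ha.2) fun q hq => ?_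
    set d := (w : G) * q * (w : G)⁻¹ * q
    have hd : d ∈ D.A := hwQ q hq
    have hc1 : a * q * a⁻¹ * q⁻¹ ∈ D.Zc := D.Q_comm a ha.2 q hq
    have e1 : α * (d * q⁻¹) * α⁻¹ * (d * q⁻¹)⁻¹ = a * q * a⁻¹ * q⁻¹ := by
      rw [show α * (d * q⁻¹) * α⁻¹ * (d * q⁻¹)⁻¹ = (w : G) * (a * q * a⁻¹ * q⁻¹) * (w : G)⁻¹ by
        simp only [α, d]; group, D.conj_comm hwz hc1]
    have hc2 : α * q * α⁻¹ * q⁻¹ ∈ D.Zc := D.Q_comm α hα.2 q hq
    have e2 : α * (d * q⁻¹) * α⁻¹ * (d * q⁻¹)⁻¹ = (α * q * α⁻¹ * q⁻¹)⁻¹ := by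
      rw [show α * (d * q⁻¹) * α⁻¹ * (d * q⁻¹)⁻¹ = α * d * q⁻¹ * α⁻¹ * q * d⁻¹ by group, F.A_comm hα hd,
        show d * α * q⁻¹ * α⁻¹ * q * d⁻¹ = d * (q⁻¹ * (α * q * α⁻¹ * q⁻¹)⁻¹ * q⁻¹⁻¹) * d⁻¹ by group,
        D.conj_comm (D.Q_z (inv_mem hq)) (inv_mem hc2), D.conj_comm (D.Q_z hd.2) (inv_mem hc2)]
    refine mul_inv_eq_iff_eq_mul.1 (mul_inv_eq_one.1 ?_)
    rw [show α * a * q * (α * a)⁻¹ * q⁻¹ = α * (a * q * a⁻¹ * q⁻¹) * α⁻¹ * (α * q * α⁻¹ * q⁻¹) by group,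
      D.conj_comm (D.Q_z hα.2) hc1, ← e1, e2, inv_mul_cancel]
  have htM : F.t ∈ D.M₀ := by
    have h3 : ∃ k : ℕ, orderOf (F.t * (w : G)) = 3 ^ k := by
      refine F.stable_chain ((show Commute F.t D.z from F.t_z).mul_left hwz).eq (fun a ha => ?_) fun q hq => ?_
      · rw [show F.t * (w : G) * a * (F.t * (w : G))⁻¹ * a⁻¹ =
          F.t * ((w : G) * a * (w : G)⁻¹ * a) * F.t⁻¹ * (F.t * a⁻¹ * F.t⁻¹ * a⁻¹) by group,
          D.conj_comm F.t_z (hwA a ha)]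
        exact mul_mem (hwA a ha) (D.invert_Q F.t_L₀ F.t_sq F.t_φ a⁻¹ (inv_mem ha.2))
      · rw [show F.t * (w : G) * q * (F.t * (w : G))⁻¹ * q⁻¹ =
          F.t * ((w : G) * q * (w : G)⁻¹ * q) * F.t⁻¹ * (F.t * q⁻¹ * F.t⁻¹ * q⁻¹) by group]
        exact mul_mem (F.t_A (hwQ q hq))
          (F.Zc_A (D.invert_Q F.t_L₀ F.t_sq F.t_φ q⁻¹ (inv_mem hq)))
    have h := mul_mem (D.three_mem_M₀ (mul_mem F.t_J hwJ) h3) (inv_mem w.2)
    rwa [mul_inv_cancel_right] at h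
  have hinv : ∀ x : Fin 3 × Fin 3, φ₁ ⟨F.t, htM⟩ * nine x.1 x.2 * (φ₁ ⟨F.t, htM⟩)⁻¹ = (nine x.1 x.2)⁻¹ := by
    intro x
    obtain ⟨s, hs⟩ := hsurj (nine x.1 x.2)
    obtain ⟨q, hq, i, he⟩ := F.S_mem ((hmem s).1 (hs ▸ ⟨x.1, x.2, rfl⟩))
    set qm : D.M₀ := ⟨q, F.S_le_M₀ (D.Q_le hq)⟩
    have hqs : φ₁ qm = nine x.1 x.2 := by
      rw [← hs, ← inv_mul_eq_one, ← map_inv, ← map_mul, hker]
      show q⁻¹ * (s : G) ∈ D.J
      rw [he, inv_mul_cancel_left]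
      exact pow_mem F.y_J i
    refine eq_inv_of_mul_eq_one_left ?_
    rw [← hqs, ← map_inv, ← map_mul, ← map_mul, ← map_mul, hker]
    exact (F.Zc_A (D.invert_Q F.t_L₀ F.t_sq F.t_φ q hq)).1
  obtain ⟨i, j, hij⟩ := six_invert (φ₁ ⟨F.t, htM⟩)
    (by rw [← map_mul, show (⟨F.t, htM⟩ : D.M₀) * ⟨F.t, htM⟩ = 1 from Subtype.ext F.t_sq, map_one])
    (by have h := hinv (1, 0); rwa [nine_gens.1] at h) (by have h := hinv (0, 1); rwa [nine_gens.2.1] at h)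
  have hn : nine i j ∈ nine6 := ⟨i, j, rfl⟩
  refine ⟨⟨(MulAut.conj (nine i j)).toMonoidHom.comp φ₁, (MulAut.conj _).surjective.comp hsurj,
    fun x => (MulEquiv.map_eq_one_iff (MulAut.conj (nine i j))).trans (hker x), fun x => ?_, htM, hij⟩⟩
  show nine i j * φ₁ x * (nine i j)⁻¹ ∈ nine6 ↔ _
  rw [nine6.mul_mem_cancel_right (inv_mem hn), nine6.mul_mem_cancel_left hn]
  exact hmem x

end Frame

namespace Chart

variable {G : Type u} [Group G] {D : Setting G} {F : Frame D} (C : Chart F)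

include C

theorem norm9_iff [Finite G] (m : D.M₀) : Norm9 (C.φ m) ↔ (m : G) ∈ normalizer ((D.S : Subgroup G) : Set G) := by
  constructor
  · refine fun h => norm_of_conj_le fun s hs => (C.mem_S (m * ⟨s, F.S_le_M₀ hs⟩ * m⁻¹)).1 ?_
    rw [map_mul, map_mul, map_inv]
    exact norm9_conj h ((C.mem_S _).2 hs)
  · intro h
    have key : ∀ n : A6, InNine n → InNine (C.φ m * n * (C.φ m)⁻¹) := by
      intro n hn
      obtain ⟨s, rfl⟩ := C.surj n
      rw [← map_inv, ← map_mul, ← map_mul, C.mem_S]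
      exact (Subgroup.mem_normalizer_iff.1 h _).1 ((C.mem_S s).1 hn)
    exact ⟨key _ ⟨1, 0, nine_gens.1.symm⟩, key _ ⟨0, 1, nine_gens.2.1.symm⟩⟩

theorem lift [Finite G] {x : A6} (hx : x * t6 = t6 * x) :
    ∃ m : D.M₀, C.φ m = x ∧ (m : G) * F.t = F.t * m := by
  obtain ⟨m, rfl⟩ := C.surj x
  set tm : D.M₀ := ⟨F.t, C.t_M⟩
  set j : D.M₀ := tm * m * tm⁻¹ * m⁻¹
  have hj : (j : G) ∈ D.J := (C.ker j).1 (by
    rw [map_mul, map_mul, map_mul, map_inv, map_inv, C.φt, ← hx, mul_inv_cancel_right, mul_inv_cancel])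
  have hti : F.t * (j : G) * F.t⁻¹ = (j : G)⁻¹ := by
    show F.t * (F.t * (m : G) * F.t⁻¹ * (m : G)⁻¹) * F.t⁻¹ = (F.t * (m : G) * F.t⁻¹ * (m : G)⁻¹)⁻¹
    rw [show F.t * (F.t * (m : G) * F.t⁻¹ * (m : G)⁻¹) * F.t⁻¹ = (F.t * F.t) * (m : G) * F.t⁻¹ * (m : G)⁻¹ * F.t⁻¹
      by group, F.t_sq, one_mul, mul_inv_rev, mul_inv_rev, mul_inv_rev, inv_inv, inv_inv, F.t_inv]
    group
  refine ⟨j ^ 2 * m, by rw [map_mul, (C.ker (j ^ 2)).2 (D.J.pow_mem hj 2), one_mul], ?_⟩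
  show (j : G) ^ 2 * m * F.t = F.t * ((j : G) ^ 2 * m)
  have e1 : F.t * (m : G) * F.t⁻¹ = (j : G) * m := by
    show _ = F.t * (m : G) * F.t⁻¹ * (m : G)⁻¹ * m
    group
  symm
  refine mul_inv_eq_iff_eq_mul.1 ?_
  calc F.t * ((j : G) ^ 2 * m) * F.t⁻¹ = (F.t * (j : G) * F.t⁻¹) ^ 2 * (F.t * (m : G) * F.t⁻¹) := by
        rw [conj_pow]; group
    _ = (j : G) ^ 2 * m * ((m : G)⁻¹ * ((j : G) ^ 3)⁻¹ * m) := by rw [hti, e1]; group
    _ = (j : G) ^ 2 * m := by rw [D.J_exp _ hj]; group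

theorem fixed [Finite G] (h : D.M₀) (hf : (h : G)⁻¹ * F.t * h ∈ normalizer (D.Zc : Set G)) :
    Norm9 (C.φ h) ∨ Norm9 (g6 * C.φ h) := by
  set u : D.M₀ := h⁻¹ * ⟨F.t, C.t_M⟩ * h
  have hu : Norm9 (C.φ u) := (C.norm9_iff u).2 (F.norm_S_of (D.M₀_norm u.2) hf)
  rw [map_mul, map_mul, map_inv, C.φt] at hu
  refine six_fixed _ ?_ ?_
  · rw [show (C.φ h)⁻¹ * (t6 * (C.φ h * a6 * (C.φ h)⁻¹) * t6⁻¹) * C.φ h =
      (C.φ h)⁻¹ * t6 * C.φ h * a6 * ((C.φ h)⁻¹ * t6 * C.φ h)⁻¹ by group]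
    exact hu.1
  · rw [show (C.φ h)⁻¹ * (t6 * (C.φ h * b6 * (C.φ h)⁻¹) * t6⁻¹) * C.φ h =
      (C.φ h)⁻¹ * t6 * C.φ h * b6 * ((C.φ h)⁻¹ * t6 * C.φ h)⁻¹ by group]
    exact hu.2

theorem sq_J [Finite G] {g : D.M₀} (hg : C.φ g = g6) : (g : G) * g ∈ D.J :=
  (C.ker (g * g)).1 (by rw [map_mul, hg, six_basic.2.2.2.1])

theorem g_moves [Finite G] {g : D.M₀} (hg : C.φ g = g6) : (g : G) ∉ normalizer (D.Zc : Set G) := fun h =>
  six_basic.2.2.2.2.2.2.2.2.2.2.2 (hg ▸ (C.norm9_iff g).2 (F.norm_S_of (D.M₀_norm g.2) h))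

theorem g_line [Finite G] {g : D.M₀} (hg : C.φ g = g6) (hgt : (g : G) * F.t = F.t * g) :
    (g : G) * D.z * (g : G)⁻¹ = F.y ∨ (g : G) * D.z * (g : G)⁻¹ = F.y⁻¹ := by
  set w := (g : G) * D.z * (g : G)⁻¹ with hwdef
  have hwJ : w ∈ D.J := D.M₀_J g.2 F.z_J
  have htg : Commute (F.t : G) g := (show Commute (g : G) F.t from hgt).symm
  have hwt : Commute F.t w := (htg.mul_right (show Commute F.t D.z from F.t_z)).mul_right htg.inv_right
  obtain ⟨a, ha, i, hi⟩ := F.J_mem hwJ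
  have hty : Commute F.t (F.y ^ i) := (show Commute F.t F.y from F.y_t.symm).pow_right i
  have haZ : a ∈ D.Zc := D.centQ F.t_L₀ F.t_sq F.t_φ ha.2 (by
    rw [show a = w * (F.y ^ i)⁻¹ by rw [hi]; group]
    exact (hwt.mul_right hty.inv_right).eq.symm)
  have hi0 : F.y ^ i ≠ 1 := fun e => C.g_moves hg (norm_of_conj_le fun v hv => by
    obtain ⟨n, -, rfl⟩ := D.mem_Zc.1 hv
    rw [← conj_pow, ← hwdef, hi, e, mul_one]
    exact pow_mem haZ n)
  set h : D.M₀ := ⟨F.k * g * F.k⁻¹, D.M₀_conj F.k_J g.2⟩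
  have hkz : Commute F.k D.z := F.k_z
  have hky : F.k * F.y ^ i * F.k⁻¹ = (F.y ^ i)⁻¹ := by rw [← conj_pow, F.k_y, inv_pow]
  have hh : (h : G) * D.z * (h : G)⁻¹ = a * (F.y ^ i)⁻¹ := by
    calc F.k * (g : G) * F.k⁻¹ * D.z * (F.k * (g : G) * F.k⁻¹)⁻¹
        = F.k * (g : G) * (F.k⁻¹ * D.z * F.k) * (g : G)⁻¹ * F.k⁻¹ := by group
      _ = F.k * w * F.k⁻¹ := by rw [mul_assoc F.k⁻¹, ← hkz.eq, inv_mul_cancel_left, hwdef]; group
      _ = F.k * a * F.k⁻¹ * (F.k * F.y ^ i * F.k⁻¹) := by rw [hi]; group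
      _ = _ := by rw [D.conj_comm F.k_z haZ, hky]
  have hht : Commute (h : G) F.t :=
    ((show Commute F.k F.t from F.k_t).mul_left htg.symm).mul_left (show Commute F.k F.t from F.k_t).inv_left
  have hfix : (h : G)⁻¹ * F.t * h ∈ normalizer (D.Zc : Set G) := by
    rw [hht.inv_left.eq, mul_assoc, inv_mul_cancel, mul_one]
    exact D.L₀_norm F.t_L₀
  rcases C.fixed h hfix with hn | hn
  · exfalso
    have h1 := (Subgroup.mem_normalizer_iff.1 (F.norm_S_z ((C.norm9_iff h).1 hn)) D.z).1 (mem_zpowers _)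
    rw [hh] at h1
    have h2 : F.y ^ i ∈ D.Zc := by
      have h3 := inv_mem (mul_mem (inv_mem haZ) h1)
      simpa using h3
    have h4 : F.k * F.y ^ i * F.k⁻¹ = F.y ^ i := D.conj_comm F.k_z h2
    rw [hky] at h4
    refine hi0 ?_
    have h5 : (F.y ^ i) ^ 3 = 1 := by rw [← pow_mul, mul_comm, pow_mul, F.y_cube, one_pow]
    have h6 : F.y ^ i * F.y ^ i = 1 := by nth_rw 1 [← h4]; exact inv_mul_cancel _
    rwa [pow_succ, pow_two, h6, one_mul] at h5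
  · set m : D.M₀ := g * h
    have hm : (m : G) ∈ normalizer (D.Zc : Set G) := F.norm_S_z ((C.norm9_iff m).1 (by rwa [map_mul, hg]))
    have hg2 : ∀ v ∈ D.J, ((g : G) * g)⁻¹ * v * ((g : G) * g) = v := fun v hv => by
      rw [mul_assoc, D.J_comm v hv _ (C.sq_J hg), inv_mul_cancel_left]
    have e : (h : G) * D.z * (h : G)⁻¹ = ((g : G) * g)⁻¹ * ((g : G) * ((m : G) * D.z * (m : G)⁻¹) * (g : G)⁻¹) *
        ((g : G) * g) := by
      show _ = ((g : G) * g)⁻¹ * ((g : G) * ((g : G) * h * D.z * ((g : G) * h)⁻¹) * (g : G)⁻¹) * ((g : G) * g)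
      group
    rcases D.conj_of_norm hm with e' | e' <;> rw [e', hh] at e
    · exfalso
      rw [← hwdef, hg2 _ hwJ, hi] at e
      refine hi0 ?_
      have h5 : (F.y ^ i) ^ 3 = 1 := by rw [← pow_mul, mul_comm, pow_mul, F.y_cube, one_pow]
      have h6 : F.y ^ i * F.y ^ i = 1 := by nth_rw 1 [← mul_left_cancel e]; exact inv_mul_cancel _
      rwa [pow_succ, pow_two, h6, one_mul] at h5
    · rw [← conj_inv, ← hwdef, hg2 _ (inv_mem hwJ), hi, mul_inv_rev] at e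
      have hc : Commute (F.y ^ i)⁻¹ a⁻¹ := D.J_comm _ (inv_mem (pow_mem F.y_J i)) _ (inv_mem ha.1)
      rw [hc.eq] at e
      have ha2 : a * a = 1 := by
        nth_rw 1 [mul_right_cancel e]; exact inv_mul_cancel _
      have ha1 : a = 1 := by
        have h5 := D.Zc_cube haZ
        rwa [pow_succ, pow_two, ha2, one_mul] at h5
      rw [ha1, one_mul] at hi
      rw [pow_eq_pow_mod i F.y_cube] at hi hi0
      obtain h | h | h : i % 3 = 0 ∨ i % 3 = 1 ∨ i % 3 = 2 := by omega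
      · exact absurd (by rw [h, pow_zero]) hi0
      · exact Or.inl (by rw [hi, h, pow_one])
      · refine Or.inr ?_
        rw [hi, h]
        exact eq_inv_of_mul_eq_one_left (by rw [← pow_succ]; exact F.y_cube)

/-- The quarter turn inverts the centre. -/
theorem p_inv [Finite G] {g p : D.M₀} (hg : C.φ g = g6) (hgz : (g : G) * D.z * (g : G)⁻¹ = F.y)
    (hp : C.φ p = p6) : (p : G) * D.z * (p : G)⁻¹ = D.z⁻¹ := by
  have hpS : (p : G) ∈ normalizer ((D.S : Subgroup G) : Set G) := (C.norm9_iff p).1 (by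
    rw [hp]
    exact ⟨⟨0, 1, by rw [six_basic.2.1, nine_gens.2.1]⟩, by
      rw [six_basic.2.2.1, ← nine_gens.1]; exact nine6.inv_mem ⟨1, 0, rfl⟩⟩)
  refine (D.conj_of_norm (F.norm_S_z hpS)).resolve_left fun hfix => ?_
  have hpz : Commute (p : G) D.z := mul_inv_eq_iff_eq_mul.1 hfix
  have hstab : ∀ m : D.M₀, Norm9 (C.φ m) → (m : G) * D.z * (m : G)⁻¹ = D.z := by
    intro m hm
    obtain ⟨i, j, n, hn⟩ := six_norm _ hm
    have hs : (m : G) * ((p : G) ^ n.val)⁻¹ ∈ (D.S : Subgroup G) :=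
      (C.mem_S (m * (p ^ n.val)⁻¹)).1 (by
        rw [map_mul, map_inv, map_pow, hp, hn, mul_inv_cancel_right]; exact ⟨i, j, rfl⟩)
    have h1 : Commute ((m : G) * ((p : G) ^ n.val)⁻¹) D.z := D.z_comm _ hs
    have h2 := h1.mul_left (hpz.pow_left n.val)
    rw [inv_mul_cancel_right] at h2
    rw [h2.eq, mul_inv_cancel_right]
  obtain ⟨sa, hsa⟩ := C.surj a6
  obtain ⟨sb, hsb⟩ := C.surj b6
  have hsaS : (sa : G) ∈ (D.S : Subgroup G) := (C.mem_S sa).1 (hsa ▸ ⟨1, 0, nine_gens.1.symm⟩)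
  have hsbS : (sb : G) ∈ (D.S : Subgroup G) := (C.mem_S sb).1 (hsb ▸ ⟨0, 1, nine_gens.2.1.symm⟩)
  let R : Option (Fin 3 × Fin 3) → D.M₀ := fun o => o.elim 1 fun x => sa ^ x.1.val * sb ^ x.2.val * g
  have hR : ∀ o, C.φ (R o) = wrep o := by
    rintro (_ | x)
    · exact map_one _
    · show C.φ (sa ^ x.1.val * sb ^ x.2.val * g) = _
      rw [map_mul, map_mul, map_pow, map_pow, hsa, hsb, hg]; rfl
  letI : CommGroup D.J := { (inferInstance : Group D.J) with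
    mul_comm := fun a b => Subtype.ext (D.J_comm a a.2 b b.2) }
  let Fz : Option (Fin 3 × Fin 3) → D.J := fun o => ⟨_, D.M₀_J (R o).2 F.z_J⟩
  choose σ hσ using wrep_move
  have hmv : ∀ o, (Fz (σ o) : G) = (g : G) * Fz o * (g : G)⁻¹ := by
    intro o
    have h := hstab ((R (σ o))⁻¹ * g * R o) (by rw [map_mul, map_mul, map_inv, hR, hR, hg]; exact hσ o)
    show (R (σ o) : G) * D.z * (R (σ o) : G)⁻¹ = (g : G) * ((R o : G) * D.z * (R o : G)⁻¹) * (g : G)⁻¹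
    calc (R (σ o) : G) * D.z * (R (σ o) : G)⁻¹
        = (R (σ o) : G) * (((R (σ o))⁻¹ * g * R o : D.M₀) * D.z * (((R (σ o))⁻¹ * g * R o : D.M₀) : G)⁻¹) *
            (R (σ o) : G)⁻¹ := by rw [h]
      _ = _ := by push_cast; group
  have hσi : Function.Injective σ := by
    intro o₁ o₂ e
    refine wrep_inj _ _ ?_
    have h1 := (C.norm9_iff ((R (σ o₁))⁻¹ * g * R o₁)).1 (by rw [map_mul, map_mul, map_inv, hR, hR, hg]; exact hσ o₁)
    have h2 := (C.norm9_iff ((R (σ o₂))⁻¹ * g * R o₂)).1 (by rw [map_mul, map_mul, map_inv, hR, hR, hg]; exact hσ o₂)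
    have h3 := mul_mem (inv_mem h1) h2
    rw [← hR, ← hR, ← map_inv, ← map_mul, C.norm9_iff]
    rw [← e] at h3
    convert h3 using 1
    push_cast
    group
  let cg : D.J →* D.J :=
    { toFun := fun v => ⟨(g : G) * v * (g : G)⁻¹, D.M₀_J g.2 v.2⟩
      map_one' := Subtype.ext (by simp)
      map_mul' := fun a b => Subtype.ext (by push_cast; group) }
  have hP : cg (∏ o, Fz o) = ∏ o, Fz o := by
    rw [map_prod]
    exact Fintype.prod_bijective σ (Finite.injective_iff_bijective.1 hσi) _ _ fun o => Subtype.ext (hmv o).symm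
  have hnone : Fz none = ⟨D.z, F.z_J⟩ := Subtype.ext (by
    show (1 : G) * D.z * (1 : G)⁻¹ = D.z; simp)
  have hsome : ∏ x, Fz (some x) = 1 := by
    rw [Fintype.prod_prod_type]
    simp only [Fin.prod_univ_three]
    refine Subtype.ext ?_
    have hv : ∀ i j : Fin 3, (Fz (some (i, j)) : G) =
        (sa : G) ^ i.val * ((sb : G) ^ j.val * F.y * ((sb : G) ^ j.val)⁻¹) * ((sa : G) ^ i.val)⁻¹ := fun i j => by
      show ((sa ^ i.val * sb ^ j.val * g : D.M₀) : G) * D.z * ((sa ^ i.val * sb ^ j.val * g : D.M₀) : G)⁻¹ = _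
      rw [← hgz]; push_cast; group
    simp only [Subgroup.coe_mul, hv, Fin.val_zero, Fin.val_one, Fin.val_two, OneMemClass.coe_one]
    set d := (sb : G) * F.y * (sb : G)⁻¹ * F.y⁻¹
    have hd : d ∈ D.A := F.S_J_A hsbS F.y_J
    set e := (sb : G) * d * (sb : G)⁻¹ * d⁻¹
    have he : e ∈ D.Zc := F.S_A_Zc hsbS hd
    have e1 : (sb : G) ^ 1 * F.y * ((sb : G) ^ 1)⁻¹ = d * F.y := by simp [d, pow_one]
    have e2 : (sb : G) ^ 2 * F.y * ((sb : G) ^ 2)⁻¹ = e * d * (d * F.y) := by rw [pow_two]; simp only [d, e]; group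
    have hyd : Commute F.y d := F.y_A hd
    have hye : Commute F.y e := D.J_comm _ F.y_J _ (F.Zc_A he).1
    have hde : Commute d e := D.J_comm _ hd.1 _ (F.Zc_A he).1
    have inner : (sb : G) ^ 0 * F.y * ((sb : G) ^ 0)⁻¹ * ((sb : G) ^ 1 * F.y * ((sb : G) ^ 1)⁻¹) *
        ((sb : G) ^ 2 * F.y * ((sb : G) ^ 2)⁻¹) = e := by
      rw [e1, e2, pow_zero, one_mul, inv_one, mul_one]
      calc F.y * (d * F.y) * (e * d * (d * F.y)) = F.y * (d * F.y) * e * (d * (d * F.y)) := by group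
        _ = e * (F.y * (d * F.y) * (d * (d * F.y))) := by
          rw [((hye.mul_left (hde.mul_left hye))).eq]; group
        _ = e * ((F.y * F.y * F.y) * (d * d * d)) := by
          congr 1
          calc F.y * (d * F.y) * (d * (d * F.y)) = F.y * (d * F.y) * ((d * d) * F.y) := by group
            _ = F.y * (F.y * d) * (F.y * (d * d)) := by rw [← hyd.eq, ((hyd.mul_right hyd)).eq]
            _ = F.y * F.y * (d * F.y) * (d * d) := by group
            _ = F.y * F.y * (F.y * d) * (d * d) := by rw [← hyd.eq]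
            _ = _ := by group
        _ = e := by
          rw [show F.y * F.y * F.y = F.y ^ 3 by rw [pow_succ, pow_two], show d * d * d = d ^ 3 by rw [pow_succ, pow_two],
            F.y_cube, D.J_exp d hd.1, one_mul, mul_one]
    have hsae : ∀ i : ℕ, (sa : G) ^ i * e * ((sa : G) ^ i)⁻¹ = e := fun i =>
      D.conj_comm (show (sa : G) ^ i * D.z = D.z * (sa : G) ^ i from D.z_comm _ (pow_mem hsaS i)) he
    calc _ = ((sa : G) ^ 0 * ((sb : G) ^ 0 * F.y * ((sb : G) ^ 0)⁻¹ * ((sb : G) ^ 1 * F.y * ((sb : G) ^ 1)⁻¹) *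
          ((sb : G) ^ 2 * F.y * ((sb : G) ^ 2)⁻¹)) * ((sa : G) ^ 0)⁻¹) *
        ((sa : G) ^ 1 * ((sb : G) ^ 0 * F.y * ((sb : G) ^ 0)⁻¹ * ((sb : G) ^ 1 * F.y * ((sb : G) ^ 1)⁻¹) *
          ((sb : G) ^ 2 * F.y * ((sb : G) ^ 2)⁻¹)) * ((sa : G) ^ 1)⁻¹) *
        ((sa : G) ^ 2 * ((sb : G) ^ 0 * F.y * ((sb : G) ^ 0)⁻¹ * ((sb : G) ^ 1 * F.y * ((sb : G) ^ 1)⁻¹) *
          ((sb : G) ^ 2 * F.y * ((sb : G) ^ 2)⁻¹)) * ((sa : G) ^ 2)⁻¹) := by group
      _ = 1 := by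
        rw [inner, hsae, hsae, hsae]
        have h := D.Zc_cube he
        rwa [pow_succ, pow_two] at h
  rw [Fintype.prod_option, hsome, mul_one, hnone] at hP
  have h : (g : G) * D.z * (g : G)⁻¹ = D.z := congrArg Subtype.val hP
  rw [hgz] at h
  exact F.y_not_Q (h ▸ D.z_Q)

end Chart

/-- All the chosen elements in the second local group. -/
structure Full {G : Type u} [Group G] (D : Setting G) where
  /-- the frame -/
  F : Frame D
  /-- the coordinates -/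
  C : Chart F
  /-- the element exchanging the two lines -/
  g : D.M₀
  /-- its image -/
  φg : C.φ g = g6
  /-- centralising `t` -/
  g_t : (g : G) * F.t = F.t * g
  /-- sending `z` to `y` -/
  g_z : (g : G) * D.z * (g : G)⁻¹ = F.y
  /-- the quarter turn -/
  p : D.M₀
  /-- its image -/
  φp : C.φ p = p6
  /-- centralising `t` -/
  p_t : (p : G) * F.t = F.t * p
  /-- inverting `z` -/
  p_z : (p : G) * D.z * (p : G)⁻¹ = D.z⁻¹

theorem Setting.exists_full {G : Type u} [Group G] [Finite G] (D : Setting G) : Nonempty (Full D) := by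
  obtain ⟨F⟩ := D.exists_frame
  obtain ⟨C⟩ := F.exists_chart
  obtain ⟨g, hg, hgt⟩ := C.lift six_basic.2.2.2.2.2.1
  obtain ⟨p, hp, hpt⟩ := C.lift (x := p6) (by rw [← six_basic.1, mul_assoc])
  rcases C.g_line hg hgt with h | h
  · exact ⟨⟨F, C, g, hg, hgt, h, p, hp, hpt, C.p_inv hg h hp⟩⟩
  · let F' : Frame D := { F with
      y := F.y⁻¹
      y_K := inv_mem F.y_K
      y_S := inv_mem F.y_S
      y_ne := inv_ne_one.2 F.y_ne
      y_cube := by rw [inv_pow, F.y_cube, inv_one]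
      k_y := by rw [← conj_inv, F.k_y] }
    let C' : Chart F' := ⟨C.φ, C.surj, C.ker, C.mem_S, C.t_M, C.φt⟩
    exact ⟨⟨F', C', g, hg, hgt, h, p, hp, hpt, C'.p_inv hg h hp⟩⟩

end CfsgLib.McLThree
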