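import Cfsg.Agent.Lib.McLThree.CD
import Cfsg.Agent.Lib.McLThree.Five
import Cfsg.Agent.Lib.S8ThreeLocal.Small

/-!
The normalizer of the centre inside the centralizer of `t`, as a group of pairs of permutations.
-/

set_option autoImplicit false
set_option synthInstance.maxSize 2000

namespace CfsgLib.McLThree

open Subgroup Equiv Equiv.Perm CfsgLib.A8ThreeLocal

universe u

/-- The permutation attached to a coset. -/
def p3 (x : Fin 3 × Fin 2) : Perm (Fin 3) := c3 ^ x.1.val * swap 0 1 ^ x.2.val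

set_option maxRecDepth 100000 in
theorem p3_facts : (∀ x y : Fin 3 × Fin 2, p3 x * p3 y = p3 (x.1 + (if x.2 = 0 then y.1 else -y.1), x.2 + y.2)) ∧
    (∀ x : Fin 3 × Fin 2, p3 x = 1 → x = (0, 0)) ∧ (∀ x : Fin 3 × Fin 2, sign (p3 x) = 1 ↔ x.2 = 0) ∧
    (∀ σ : Perm (Fin 3), ∃ x, p3 x = σ) := by decide +kernel

set_option maxRecDepth 100000 in
theorem k'_r2 : ∀ K : M2, K.mul K = R2.mul R2 → Simil I2 K (-1) → K.mul R2 = (R2.mul K).neg := by decide +kernel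

set_option maxRecDepth 100000 in
theorem r2_neg : ∀ A K : M2, K.mul A.neg = A.neg.mul K → A.mul K = K.mul A := by decide +kernel

set_option maxRecDepth 100000 in
theorem p3_sign : ∀ q : Fin 3, ∀ b : Fin 2, sign (p3 (q, b)) = sign (p3 (0, b)) := by decide +kernel

namespace Full

variable {G : Type u} [Group G] {D : Setting G} (U : Full D)

include U

/-- The normalizer of the centre in the centralizer of `t`. -/
abbrev Nz : Subgroup G := normalizer (D.Zc : Set G) ⊓ centralizer ({U.F.t} : Set G)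

theorem K_Nz [Finite G] {l : G} (hl : l ∈ D.K U.F.t) : l ∈ U.Nz :=
  ⟨D.L₀_norm (U.F.K_le hl).1, (U.F.K_le hl).2⟩

theorem k'_Nz [Finite G] : U.k' ∈ U.Nz := ⟨U.k'_norm, mem_centralizer_singleton_iff.2 U.k'_t⟩

theorem z_Nz [Finite G] : D.z ∈ U.Nz := ⟨D.comm_norm rfl, mem_centralizer_singleton_iff.2 U.F.t_z.symm⟩

theorem K_z [Finite G] {l : G} (hl : l ∈ D.K U.F.t) : l * D.z = D.z * l := D.L₀_z (U.F.K_le hl).1

theorem K_center [Finite G] {l : G} (hl : l ∈ D.K U.F.t) (hy : l * U.F.y = U.F.y * l) :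
    ∃ A, (A = I2 ∨ A = I2.neg) ∧ U.Mat l A := by
  obtain ⟨i, rfl | rfl⟩ := U.K_cent_y hl hy
  · exact ⟨I2, Or.inl rfl, U.mat_J (pow_mem U.F.y_J i)⟩
  · refine ⟨I2.neg, Or.inr rfl, ?_⟩
    have h := U.mat_mul (U.mat_J (pow_mem U.F.y_J i)) U.mat_t
    rwa [(rot_facts.2.2.2.2.2.2 I2.neg).2.1] at h

theorem Nz_split [Finite G] {x : G} (hx : x ∈ U.Nz) :
    ∃ l ∈ D.K U.F.t, ∃ c ∈ U.CD, ∃ b : Fin 2, x = l * c * U.k' ^ b.val := by
  obtain ⟨hN, ht'⟩ := hx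
  have ht : Commute x U.F.t := mem_centralizer_singleton_iff.1 ht'
  have hw : x * U.F.y * x⁻¹ ∈ D.K U.F.t := U.K_conj hN ht.eq U.F.y_K
  set w : D.L₀ := ⟨x * U.F.y * x⁻¹, (U.F.K_le hw).1⟩
  have hw3 : w ^ 3 = 1 := Subtype.ext (by
    show (x * U.F.y * x⁻¹) ^ 3 = 1
    rw [conj_pow, U.F.y_cube, mul_one, mul_inv_cancel])
  have hw1 : D.φL w ≠ 1 := fun h => U.F.y_ne (conj_eq_one_iff.1 (congrArg Subtype.val
    (D.K_inj U.F.t_L₀ U.F.t_sq U.F.t_φ hw h) : x * U.F.y * x⁻¹ = 1))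
  obtain ⟨a', ha'⟩ := k5_three _ (by rw [← map_pow, hw3, map_one]) hw1
  obtain ⟨a, ha⟩ := U.F.yφ_conj
  obtain ⟨l, hl, hlφ⟩ := D.K_onto U.F.t_L₀ U.F.t_sq U.F.t_φ (a' * a⁻¹)
  have hly : (l : G) * U.F.y * (l : G)⁻¹ = x * U.F.y * x⁻¹ := by
    refine mul_inv_eq_one.1 (congrArg Subtype.val (D.K_inj U.F.t_L₀ U.F.t_sq U.F.t_φ
      (x := l * ⟨U.F.y, U.F.y_L₀⟩ * l⁻¹ * w⁻¹)
      (mul_mem (mul_mem (mul_mem hl U.F.y_K) (inv_mem hl)) (inv_mem hw)) ?_) )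
    rw [map_mul, map_mul, map_mul, map_inv, map_inv, hlφ,
      show D.φL ⟨U.F.y, U.F.y_L₀⟩ = a * u5 * a⁻¹ from ha.symm, ← ha']
    group
  set c₀ := (l : G)⁻¹ * x
  have hc0y : c₀ * U.F.y = U.F.y * c₀ := by
    calc c₀ * U.F.y = (l : G)⁻¹ * (x * U.F.y * x⁻¹) * x := by simp only [c₀]; group
      _ = U.F.y * c₀ := by rw [← hly]; simp only [c₀]; group
  have hc0t : c₀ * U.F.t = U.F.t * c₀ := ((show Commute (l : G) U.F.t from U.F.K_t hl).inv_left.mul_left ht).eq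
  have hlN : (l : G)⁻¹ ∈ normalizer (D.Zc : Set G) := inv_mem (D.L₀_norm l.2)
  rcases D.conj_of_norm (mul_mem hlN hN : c₀ ∈ normalizer (D.Zc : Set G)) with h | h
  · exact ⟨l, hl, c₀, U.mem_CD.2 ⟨mul_inv_eq_iff_eq_mul.1 h, hc0y, hc0t⟩, 0, by simp [c₀]⟩
  · refine ⟨l, hl, c₀ * U.k'⁻¹, U.mem_CD.2 ⟨?_, ?_, ?_⟩, 1, by simp [c₀, mul_assoc]⟩
    · refine mul_inv_eq_iff_eq_mul.1 ?_
      have e : U.k'⁻¹ * D.z * U.k' = D.z⁻¹ := by
        rw [show U.k'⁻¹ * D.z * U.k' = U.k'⁻¹ * (U.k' * D.z⁻¹ * U.k'⁻¹) * U.k' by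
          rw [← conj_inv, U.k'_z, inv_inv]]
        group
      calc c₀ * U.k'⁻¹ * D.z * (c₀ * U.k'⁻¹)⁻¹ = c₀ * (U.k'⁻¹ * D.z * U.k') * c₀⁻¹ := by group
        _ = D.z := by rw [e, ← conj_inv, h, inv_inv]
    · have h1 : Commute U.k' U.F.y := mul_inv_eq_iff_eq_mul.1 U.k'_y
      exact ((show Commute c₀ U.F.y from hc0y).mul_left h1.inv_left).eq
    · exact ((show Commute c₀ U.F.t from hc0t).mul_left (show Commute U.k' U.F.t from U.k'_t).inv_left).eq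

/-- A complement to the centre in its centralizer. -/
structure Split where
  /-- the complement -/
  R : Subgroup G
  /-- it contains the derived part -/
  K_le : D.K U.F.t ≤ R
  /-- centralising `z` and `t` -/
  R_z : ∀ r ∈ R, r * D.z = D.z * r ∧ r * U.F.t = U.F.t * r
  /-- not containing `z` -/
  z_not : D.z ∉ R
  /-- invariant -/
  k'_R : ∀ r ∈ R, U.k' * r * U.k'⁻¹ ∈ R
  /-- covering -/
  CD_mem : ∀ c ∈ U.CD, ∃ i : Fin 3, c * (D.z ^ i.val)⁻¹ ∈ R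

theorem split_I [Finite G] (h : ∀ x ∈ U.CD, x ∈ U.Dt ∨ x * U.F.t ∈ U.Dt) : ∃ S : U.Split, S.R = D.K U.F.t := by
  refine ⟨⟨D.K U.F.t, le_rfl, fun r hr => ⟨U.K_z hr, U.F.K_t hr⟩, D.z_not_K U.F.t_L₀ U.F.t_sq U.F.t_φ,
    fun r hr => U.K_conj U.k'_norm U.k'_t hr, fun c hc => ?_⟩, rfl⟩
  have key : ∀ d ∈ U.Dt, ∃ i : Fin 3, d * (D.z ^ i.val)⁻¹ ∈ D.K U.F.t := by
    intro d hd
    obtain ⟨a, b, rfl⟩ := U.mem_dt hd.1 (mem_centralizer_singleton_iff.1 hd.2)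
    refine ⟨⟨a % 3, Nat.mod_lt _ (by norm_num)⟩, ?_⟩
    show D.z ^ a * U.F.y ^ b * (D.z ^ (a % 3))⁻¹ ∈ _
    rw [← pow_eq_pow_mod a D.z_cube, ((show Commute D.z U.F.y from U.F.y_z.symm).pow_pow a b).eq,
      mul_inv_cancel_right]
    exact pow_mem U.F.y_K b
  rcases h c hc with hd | hd
  · exact key c hd
  · obtain ⟨i, hi⟩ := key _ hd
    refine ⟨i, ?_⟩
    have hti : Commute U.F.t ((D.z ^ i.val)⁻¹) := ((show Commute U.F.t D.z from U.F.t_z).pow_right _).inv_right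
    have := mul_mem hi U.t_K
    rwa [mul_assoc (c * U.F.t), ← hti.eq, ← mul_assoc, mul_assoc c, U.F.t_sq, mul_one] at this

theorem e_k' [Finite G] (E : U.Rot) : U.k' * E.e * U.k'⁻¹ = E.e⁻¹ := by
  obtain ⟨hz, hy, ht⟩ := U.mem_CD.1 E.mem
  have h1 : U.k' * E.e * U.k'⁻¹ ∈ U.CD := by
    refine U.mem_CD.2 ⟨?_, ?_, ?_⟩
    · have h := congrArg (fun w => U.k' * w * U.k'⁻¹) (show E.e * D.z⁻¹ * E.e⁻¹ = D.z⁻¹ by
        rw [← conj_inv, hz, mul_inv_cancel_right])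
      refine mul_inv_eq_iff_eq_mul.1 ?_
      have e : U.k' * D.z⁻¹ * U.k'⁻¹ = D.z := by rw [← conj_inv, U.k'_z, inv_inv]
      calc U.k' * E.e * U.k'⁻¹ * D.z * (U.k' * E.e * U.k'⁻¹)⁻¹
          = U.k' * E.e * (U.k'⁻¹ * (U.k' * D.z⁻¹ * U.k'⁻¹) * U.k') * E.e⁻¹ * U.k'⁻¹ := by rw [e]; group
        _ = U.k' * (E.e * D.z⁻¹ * E.e⁻¹) * U.k'⁻¹ := by group
        _ = D.z := h.trans e
    · have h : Commute U.k' U.F.y := mul_inv_eq_iff_eq_mul.1 U.k'_y
      exact ((h.mul_left (show Commute E.e U.F.y from hy)).mul_left h.inv_left).eq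
    · have h : Commute U.k' U.F.t := U.k'_t
      exact ((h.mul_left (show Commute E.e U.F.t from ht)).mul_left h.inv_left).eq
  obtain ⟨K', hK'⟩ := U.mat_exists U.act_k'.1
  have hK2 := U.mat_k_sq U.k'_sq hK'
  have hKs : Simil I2 K' (-1) := by simpa using U.simil_std U.act_k' hK'
  have hinv : U.k'⁻¹ = U.k' * U.F.t := inv_eq_of_mul_eq_one_right (by rw [← mul_assoc, U.k'_sq, U.F.t_sq])
  set d := U.k' * E.e * U.k'⁻¹ * E.e
  have hd : d ∈ U.Dt := by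
    refine U.CD_kernel (mul_mem h1 E.mem) ?_
    have hm := U.mat_mul (U.mat_mul (U.mat_mul hK' E.mat) (U.mat_mul hK' U.mat_t)) E.mat
    rw [← hinv] at hm
    rwa [k'_r2 K' hK2 hKs,
      show ∀ K : M2, K.mul K = R2.mul R2 → Simil I2 K (-1) → (((R2.mul K).neg).mul (K.mul I2.neg)).mul R2 = I2 by
        decide +kernel,
      ] at hm
    exacts [hK2, hKs]
  have hcomm : Commute (U.k' * E.e * U.k'⁻¹) d := by
    obtain ⟨hz', hy', -⟩ := U.mem_CD.1 h1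
    obtain ⟨a, b, e⟩ := U.mem_dt hd.1 (mem_centralizer_singleton_iff.1 hd.2)
    rw [e]
    exact ((show Commute _ D.z from hz').pow_right a).mul_right ((show Commute _ U.F.y from hy').pow_right b)
  have hee : E.e⁻¹ = d⁻¹ * (U.k' * E.e * U.k'⁻¹) := by simp only [d]; group
  have ht' : Commute U.k' U.F.t := U.k'_t
  have hsq : (U.k' * E.e * U.k'⁻¹) * (U.k' * E.e * U.k'⁻¹) = U.F.t := by
    rw [show U.k' * E.e * U.k'⁻¹ * (U.k' * E.e * U.k'⁻¹) = U.k' * (E.e * E.e) * U.k'⁻¹ by group, E.sq, ht'.eq,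
      mul_inv_cancel_right]
  have hd2 : d * d = 1 := by
    have h2 : E.e⁻¹ * E.e⁻¹ = U.F.t := by rw [← mul_inv_rev, E.sq, U.F.t_inv]
    rw [hee, show d⁻¹ * (U.k' * E.e * U.k'⁻¹) * (d⁻¹ * (U.k' * E.e * U.k'⁻¹)) =
      d⁻¹ * ((U.k' * E.e * U.k'⁻¹) * d⁻¹) * (U.k' * E.e * U.k'⁻¹) by group, hcomm.inv_right.eq,
      show d⁻¹ * (d⁻¹ * (U.k' * E.e * U.k'⁻¹)) * (U.k' * E.e * U.k'⁻¹) =
        (d * d)⁻¹ * ((U.k' * E.e * U.k'⁻¹) * (U.k' * E.e * U.k'⁻¹)) by group, hsq, mul_eq_right, inv_eq_one] at h2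
    exact h2
  have hd1 : d = 1 := by
    have h3 := D.J_exp d (U.Dt_J hd)
    rwa [pow_succ, pow_two, hd2, one_mul] at h3
  exact eq_inv_of_mul_eq_one_left hd1

theorem split_II [Finite G] (E : U.Rot) :
    ∃ S : U.Split, ∀ r, r ∈ S.R ↔ ∃ l ∈ D.K U.F.t, ∃ n : ℕ, r = l * E.e ^ n := by
  obtain ⟨hz, hy, ht⟩ := U.mem_CD.1 E.mem
  have hN : E.e ∈ normalizer (D.Zc : Set G) := D.comm_norm hz
  have hpN : ∀ n : ℕ, ∀ l ∈ D.K U.F.t, E.e ^ n * l * (E.e ^ n)⁻¹ ∈ D.K U.F.t := fun n l hl =>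
    U.K_conj (pow_mem hN n) ((show Commute E.e U.F.t from ht).pow_left n).eq hl
  have h4 : E.e ^ 4 = 1 := by rw [show 4 = 2 * 2 from rfl, pow_mul, pow_two, pow_two, E.sq, U.F.t_sq]
  let R : Subgroup G :=
    { carrier := {r | ∃ l ∈ D.K U.F.t, ∃ n : ℕ, r = l * E.e ^ n}
      one_mem' := ⟨1, one_mem _, 0, by simp⟩
      mul_mem' := by
        rintro _ _ ⟨l, hl, n, rfl⟩ ⟨l', hl', n', rfl⟩
        refine ⟨l * (E.e ^ n * l' * (E.e ^ n)⁻¹), mul_mem hl (hpN n l' hl'), n + n', ?_⟩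
        rw [pow_add]; group
      inv_mem' := by
        rintro _ ⟨l, hl, n, rfl⟩
        refine ⟨E.e ^ (3 * n) * l⁻¹ * (E.e ^ (3 * n))⁻¹, hpN _ _ (inv_mem hl), 3 * n, ?_⟩
        have e : E.e ^ (3 * n) = (E.e ^ n)⁻¹ := eq_inv_of_mul_eq_one_left (by
          rw [← pow_add, show 3 * n + n = 4 * n by ring, pow_mul, h4, one_pow])
        rw [e]; group }
  have hznot : D.z ∉ R := by
    rintro ⟨l, hl, n, e⟩
    have hnot := D.z_not_K U.F.t_L₀ U.F.t_sq U.F.t_φ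
    obtain ⟨A, hA, hAm⟩ := U.K_center hl (by
      have h1 : Commute (D.z * (E.e ^ n)⁻¹) U.F.y := (show Commute D.z U.F.y from U.F.y_z.symm).mul_left
        ((show Commute E.e U.F.y from hy).pow_left n).inv_left
      rwa [e, mul_inv_cancel_right] at h1)
    rcases Nat.even_or_odd' n with ⟨m, rfl | rfl⟩
    · refine hnot ?_
      rw [e, pow_mul, pow_two, E.sq]
      exact mul_mem hl (pow_mem U.t_K m)
    · obtain ⟨B, hB, hBm⟩ : ∃ B, (B = I2 ∨ B = I2.neg) ∧ U.Mat ((U.F.t) ^ m) B := by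
        rcases Nat.even_or_odd' m with ⟨j, rfl | rfl⟩
        · refine ⟨I2, Or.inl rfl, ?_⟩
          rw [pow_mul, pow_two, U.F.t_sq, one_pow]; exact U.mat_J (one_mem _)
        · refine ⟨I2.neg, Or.inr rfl, ?_⟩
          rw [pow_add, pow_mul, pow_two, U.F.t_sq, one_pow, one_mul, pow_one]; exact U.mat_t
      have h := U.mat_mul hAm (U.mat_mul hBm E.mat)
      rw [← mul_assoc] at h
      have e' : D.z = l * U.F.t ^ m * E.e := by rw [e, pow_add, pow_mul, pow_two, E.sq, pow_one, ← mul_assoc]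
      rw [← e'] at h
      have h' := U.mat_unique (U.mat_J U.F.z_J) h
      rcases hA with rfl | rfl <;> rcases hB with rfl | rfl <;> revert h' <;> decide +kernel
  refine ⟨⟨R, fun l hl => ⟨l, hl, 0, by simp⟩, ?_, hznot, ?_, fun c hc => ?_⟩, fun r => Iff.rfl⟩
  · rintro _ ⟨l, hl, n, rfl⟩
    exact ⟨((show Commute l D.z from U.K_z hl).mul_left ((show Commute E.e D.z from hz).pow_left n)).eq,
      ((show Commute l U.F.t from U.F.K_t hl).mul_left ((show Commute E.e U.F.t from ht).pow_left n)).eq⟩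
  · rintro _ ⟨l, hl, n, rfl⟩
    rw [show U.k' * (l * E.e ^ n) * U.k'⁻¹ = U.k' * l * U.k'⁻¹ * (U.k' * E.e * U.k'⁻¹) ^ n by
      rw [conj_pow]; group, U.e_k' E]
    exact R.mul_mem ⟨_, U.K_conj U.k'_norm U.k'_t hl, 0, by simp⟩
      (R.pow_mem (R.inv_mem ⟨1, one_mem _, 1, by simp⟩) n)
  · obtain ⟨n, -, hn⟩ := U.rot_mem E hc
    obtain ⟨a, b, e⟩ := U.mem_dt hn.1 (mem_centralizer_singleton_iff.1 hn.2)
    refine ⟨⟨a % 3, Nat.mod_lt _ (by norm_num)⟩, U.F.y ^ b, pow_mem U.F.y_K b, n, ?_⟩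
    show c * (D.z ^ (a % 3))⁻¹ = _
    have hc' : c = D.z ^ a * U.F.y ^ b * E.e ^ n := by rw [← e]; group
    have h1 : Commute ((D.z ^ (a % 3))⁻¹) (U.F.y ^ b * E.e ^ n) :=
      ((((show Commute D.z U.F.y from U.F.y_z.symm).pow_right b)).mul_right
        ((show Commute E.e D.z from hz).symm.pow_right n)).pow_left _ |>.inv_left
    rw [hc', ← pow_eq_pow_mod a D.z_cube]
    rw [← pow_eq_pow_mod a D.z_cube] at h1
    rw [mul_assoc (D.z ^ a), mul_assoc, ← h1.eq, mul_inv_cancel_left]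

namespace Split

variable {U} (S : U.Split)

/-- The coset of an element. -/
def Rel (x : G) (q : Fin 3 × Fin 2) : Prop := x * (D.z ^ q.1.val * U.k' ^ q.2.val)⁻¹ ∈ S.R

theorem t_R [Finite G] : U.F.t ∈ S.R := S.K_le U.t_K

theorem rel_exists [Finite G] {x : G} (hx : x ∈ U.Nz) : ∃ q, S.Rel x q := by
  obtain ⟨l, hl, c, hc, b, rfl⟩ := U.Nz_split hx
  obtain ⟨i, hi⟩ := S.CD_mem c hc
  refine ⟨(i, b), ?_⟩
  show l * c * U.k' ^ b.val * (D.z ^ i.val * U.k' ^ b.val)⁻¹ ∈ S.R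
  rw [show l * c * U.k' ^ b.val * (D.z ^ i.val * U.k' ^ b.val)⁻¹ = l * (c * (D.z ^ i.val)⁻¹) by group]
  exact mul_mem (S.K_le hl) hi

theorem k'_pow_R [Finite G] (b : ℕ) {r : G} (hr : r ∈ S.R) : U.k' ^ b * r * (U.k' ^ b)⁻¹ ∈ S.R := by
  induction b with
  | zero => simpa using hr
  | succ b ih =>
    have h := S.k'_R _ ih
    simpa only [pow_succ', mul_inv_rev, mul_assoc] using h

theorem rel_mul [Finite G] {x x' : G} {q q' : Fin 3 × Fin 2} (h : S.Rel x q) (h' : S.Rel x' q') :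
    S.Rel (x * x') (q.1 + (if q.2 = 0 then q'.1 else -q'.1), q.2 + q'.2) := by
  obtain ⟨i, b⟩ := q
  obtain ⟨j, c⟩ := q'
  set r := x * (D.z ^ i.val * U.k' ^ b.val)⁻¹
  set r' := x' * (D.z ^ j.val * U.k' ^ c.val)⁻¹
  have hx : x = r * D.z ^ i.val * U.k' ^ b.val := by simp only [r]; group
  have hx' : x' = r' * D.z ^ j.val * U.k' ^ c.val := by simp only [r']; group
  set r'' := U.k' ^ b.val * r' * (U.k' ^ b.val)⁻¹
  have hr'' : r'' ∈ S.R := S.k'_pow_R b.val h'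
  have hzj : U.k' ^ b.val * D.z ^ j.val * (U.k' ^ b.val)⁻¹ = D.z ^ (if b = 0 then j else -j).val := by
    rw [← conj_pow]
    fin_cases b
    · simp
    · simp only [pow_one, Fin.reduceEq, if_false, U.k'_z]
      rw [inv_eq_of_mul_eq_one_left (show D.z ^ 2 * D.z = 1 by rw [← pow_succ]; exact D.z_cube), ← pow_mul,
        pow_eq_pow_mod (2 * j.val) D.z_cube]
      congr 1
      fin_cases j <;> rfl
  have hbc : ∀ b c : Fin 2, ∃ n, U.k' ^ b.val * U.k' ^ c.val = U.F.t ^ n * U.k' ^ (b + c).val := by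
    intro b c
    fin_cases b <;> fin_cases c
    · exact ⟨0, by simp⟩
    · exact ⟨0, by simp⟩
    · exact ⟨0, by simp⟩
    · exact ⟨1, by simp [U.k'_sq]⟩
  obtain ⟨n, hn⟩ := hbc b c
  set j' := if b = 0 then j else -j
  have hzi : Commute (D.z ^ i.val) r'' := ((show Commute r'' D.z from (S.R_z r'' hr'').1).pow_right _).symm
  have hzt : Commute (D.z ^ i.val * D.z ^ j'.val) (U.F.t ^ n) :=
    ((((show Commute U.F.t D.z from U.F.t_z).pow_right _).mul_right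
      ((show Commute U.F.t D.z from U.F.t_z).pow_right _)).pow_left n).symm
  have e : x * x' = r * r'' * U.F.t ^ n * (D.z ^ (i + j').val * U.k' ^ (b + c).val) := by
    rw [hx, hx']
    calc r * D.z ^ i.val * U.k' ^ b.val * (r' * D.z ^ j.val * U.k' ^ c.val)
        = r * (D.z ^ i.val * r'') * (U.k' ^ b.val * D.z ^ j.val * (U.k' ^ b.val)⁻¹) *
            (U.k' ^ b.val * U.k' ^ c.val) := by simp only [r'']; group
      _ = r * r'' * (D.z ^ i.val * D.z ^ j'.val * U.F.t ^ n) * U.k' ^ (b + c).val := by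
        rw [hzi.eq, hzj, hn]; group
      _ = _ := by
        rw [hzt.eq, Fin.val_add i j', ← pow_eq_pow_mod _ D.z_cube, pow_add]; group
  show x * x' * (D.z ^ (i + j').val * U.k' ^ (b + c).val)⁻¹ ∈ S.R
  rw [e, mul_inv_cancel_right]
  exact mul_mem (mul_mem h hr'') (pow_mem S.t_R n)

theorem rel_one [Finite G] {x : G} (hx : x ∈ S.R) : S.Rel x (0, 0) := by simpa [Rel] using hx

theorem rel_one_eq [Finite G] {q : Fin 3 × Fin 2} {x : G} (hx : x ∈ S.R) (h : S.Rel x q) : q = (0, 0) := by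
  obtain ⟨i, b⟩ := q
  have hm : D.z ^ i.val * U.k' ^ b.val ∈ S.R := by
    have h' := mul_mem (inv_mem h) hx
    rwa [mul_inv_rev, inv_inv, inv_mul_cancel_right] at h'
  fin_cases b
  · fin_cases i
    · rfl
    · exact absurd (by simpa using hm) S.z_not
    · refine absurd ?_ S.z_not
      have h2 := inv_mem (show D.z ^ 2 ∈ S.R by simpa using hm)
      rwa [inv_eq_of_mul_eq_one_right (show D.z ^ 2 * D.z = 1 by rw [← pow_succ]; exact D.z_cube)] at h2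
  · exfalso
    have h1 : Commute (D.z ^ i.val * U.k') D.z := by simpa [commute_iff_eq] using (S.R_z _ hm).1
    have h2 : Commute U.k' D.z := by
      have h := ((Commute.refl D.z).pow_left i.val).inv_left.mul_left h1
      rwa [inv_mul_cancel_left] at h
    have h3 := U.k'_z
    rw [h2.eq, mul_inv_cancel_right] at h3
    have h4 : D.z * D.z = 1 := by nth_rw 1 [h3]; exact inv_mul_cancel _
    have h5 := D.z_cube
    rw [pow_succ, pow_two, h4, one_mul] at h5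
    exact D.z_ne h5

/-- The action on three points, as a function. -/
noncomputable def θfun [Finite G] (x : U.Nz) : Perm (Fin 3) := p3 (S.rel_exists x.2).choose

theorem θfun_eq [Finite G] {x : U.Nz} {q : Fin 3 × Fin 2} (h : S.Rel (x : G) q) : S.θfun x = p3 q := by
  obtain ⟨q'', hq''⟩ := S.rel_exists (inv_mem x.2)
  have key : ∀ q₁, S.Rel (x : G) q₁ → p3 q₁ * p3 q'' = 1 := by
    intro q₁ h₁
    have h2 := S.rel_mul h₁ hq''
    rw [mul_inv_cancel] at h2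
    rw [p3_facts.1, S.rel_one_eq (one_mem _) h2]
    simp [p3]
  exact mul_right_cancel ((key _ (S.rel_exists x.2).choose_spec).trans (key q h).symm)

/-- The action on three points. -/
noncomputable def θ [Finite G] : U.Nz →* Perm (Fin 3) :=
  MonoidHom.mk' S.θfun fun a b => by
    rw [S.θfun_eq (x := a * b) (S.rel_mul (S.rel_exists a.2).choose_spec (S.rel_exists b.2).choose_spec),
      ← p3_facts.1]
    rfl

theorem θ_eq [Finite G] {x : U.Nz} {q : Fin 3 × Fin 2} (h : S.Rel (x : G) q) : S.θ x = p3 q := S.θfun_eq h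

theorem θ_z_iff [Finite G] (x : U.Nz) : (x : G) * D.z = D.z * x ↔ sign (S.θ x) = 1 := by
  obtain ⟨⟨i, b⟩, hq⟩ := S.rel_exists x.2
  rw [S.θ_eq hq, p3_facts.2.2.1]
  set r := (x : G) * (D.z ^ i.val * U.k' ^ b.val)⁻¹
  have hx : (x : G) = r * D.z ^ i.val * U.k' ^ b.val := by simp only [r]; group
  have hr : Commute r D.z := (S.R_z r hq).1
  fin_cases b
  · simp only [pow_zero, mul_one] at hx
    refine ⟨fun _ => rfl, fun _ => ?_⟩
    rw [hx]
    exact (hr.mul_left ((Commute.refl D.z).pow_left _)).eq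
  · simp only [pow_one] at hx
    refine ⟨fun h => ?_, fun h => absurd h (by simp)⟩
    exfalso
    have h2 : Commute U.k' D.z := by
      have h' := (hr.mul_left ((Commute.refl D.z).pow_left i.val)).inv_left.mul_left (show Commute (x : G) D.z from h)
      rwa [hx, inv_mul_cancel_left] at h'
    have h3 := U.k'_z
    rw [h2.eq, mul_inv_cancel_right] at h3
    have h4 : D.z * D.z = 1 := by nth_rw 1 [h3]; exact inv_mul_cancel _
    have h5 := D.z_cube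
    rw [pow_succ, pow_two, h4, one_mul] at h5
    exact D.z_ne h5

theorem θ_ker [Finite G] {x : U.Nz} (h : S.θ x = 1) : (x : G) ∈ S.R := by
  obtain ⟨q, hq⟩ := S.rel_exists x.2
  rw [S.θ_eq hq] at h
  rw [p3_facts.2.1 q h] at hq
  simpa [Rel] using hq

end Split

/-- The identification of the complement with SL(2,5). -/
noncomputable def eK [Finite G] : D.K U.F.t ≃* K5 :=
  MulEquiv.ofBijective (D.φL.comp (inclusion fun _ hl => (U.F.K_le hl).1 : D.K U.F.t →* D.L₀))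
    ⟨(injective_iff_map_eq_one _).2 fun a ha => Subtype.ext (congrArg (fun w : D.L₀ => (w : G))
      (D.K_inj U.F.t_L₀ U.F.t_sq U.F.t_φ (x := ⟨a, (U.F.K_le a.2).1⟩) a.2 ha)),
    fun u => by
      obtain ⟨x, hx, e⟩ := D.K_onto U.F.t_L₀ U.F.t_sq U.F.t_φ u
      exact ⟨⟨x, hx⟩, e⟩⟩

/-- Conjugation on the complement. -/
def conjK [Finite G] : U.Nz →* MulAut (D.K U.F.t) where
  toFun x :=
    { toFun := fun l => ⟨_, U.K_conj x.2.1 (mem_centralizer_singleton_iff.1 x.2.2) l.2⟩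
      invFun := fun l => ⟨_, U.K_conj (x⁻¹).2.1 (mem_centralizer_singleton_iff.1 (x⁻¹).2.2) l.2⟩
      left_inv := fun l => Subtype.ext (by push_cast; group)
      right_inv := fun l => Subtype.ext (by push_cast; group)
      map_mul' := fun a b => Subtype.ext (by push_cast; group) }
  map_one' := MulEquiv.ext fun l => Subtype.ext (by simp)
  map_mul' x x' := MulEquiv.ext fun l => Subtype.ext (by
    show ((x * x' : U.Nz) : G) * l * ((x * x' : U.Nz) : G)⁻¹ = (x : G) * ((x' : G) * l * (x' : G)⁻¹) * (x : G)⁻¹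
    push_cast; group)

/-- The action on five points. -/
noncomputable def π5 [Finite G] : U.Nz →* Perm (Fin 5) :=
  perm5.comp ((MulAut.congr U.eK).toMonoidHom.comp U.conjK)

theorem π5_K [Finite G] (l : D.K U.F.t) : U.π5 ⟨l, U.K_Nz l.2⟩ = perm5 (MulAut.conj (U.eK l)) := by
  refine congrArg perm5 (MulEquiv.ext fun w => ?_)
  show U.eK (U.conjK ⟨l, U.K_Nz l.2⟩ (U.eK.symm w)) = U.eK l * w * (U.eK l)⁻¹
  rw [show U.conjK ⟨l, U.K_Nz l.2⟩ (U.eK.symm w) = l * U.eK.symm w * l⁻¹ from rfl, map_mul, map_mul, map_inv,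
    MulEquiv.apply_symm_apply]

theorem π5_ker [Finite G] {x : U.Nz} (h : U.π5 x = 1) {l : G} (hl : l ∈ D.K U.F.t) : (x : G) * l = l * x := by
  have h1 : MulAut.congr U.eK (U.conjK x) = 1 := perm5_inj h
  have h2 : U.conjK x = 1 := (MulEquiv.map_eq_one_iff _).1 h1
  have h3 : U.conjK x ⟨l, hl⟩ = ⟨l, hl⟩ := by rw [h2]; rfl
  exact mul_inv_eq_iff_eq_mul.1 (congrArg Subtype.val h3)

theorem π5_even [Finite G] {σ : Perm (Fin 5)} (hσ : sign σ = 1) :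
    ∃ l : D.K U.F.t, U.π5 ⟨l, U.K_Nz l.2⟩ = σ := by
  obtain ⟨u, hu⟩ := perm5_even hσ
  exact ⟨U.eK.symm u, by rw [π5_K, MulEquiv.apply_symm_apply, hu]⟩

theorem π5_K_sign [Finite G] (l : D.K U.F.t) : sign (U.π5 ⟨l, U.K_Nz l.2⟩) = 1 := by
  rw [π5_K]; exact sign_conj _

theorem π5_z [Finite G] : U.π5 ⟨D.z, U.z_Nz⟩ = 1 := by
  have h : U.conjK ⟨D.z, U.z_Nz⟩ = 1 := MulEquiv.ext fun l => Subtype.ext (by
    show D.z * (l : G) * D.z⁻¹ = l
    rw [← U.K_z l.2, mul_inv_cancel_right])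
  show perm5 (MulAut.congr U.eK (U.conjK ⟨D.z, U.z_Nz⟩)) = 1
  rw [h, map_one, map_one]

theorem not_inner [Finite G] {x : G} (hx : x ∈ U.Nz) (hy : x * U.F.y = U.F.y * x) {A K : M2}
    (hA : U.Mat x A) (hK : U.Mat U.F.k K) (hne : A.mul K ≠ K.mul A) : sign (U.π5 ⟨x, hx⟩) = -1 := by
  refine (Int.units_eq_one_or _).resolve_left fun h => hne ?_
  obtain ⟨l, hl⟩ := U.π5_even h
  have hc : U.π5 (⟨x, hx⟩ * ⟨l, U.K_Nz l.2⟩⁻¹) = 1 := by rw [map_mul, map_inv, hl, mul_inv_cancel]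
  have hcy := U.π5_ker hc U.F.y_K
  have hck := U.π5_ker hc U.F.k_K
  push_cast at hcy hck
  have hly : Commute (l : G) U.F.y := by
    have h' := ((show Commute x U.F.y from hy).inv_left.mul_left (show Commute _ U.F.y from hcy)).inv_left
    rwa [inv_mul_cancel_left, inv_inv] at h'
  obtain ⟨i, e⟩ := U.K_cent_y l.2 hly.eq
  have hlk : ∃ B, (B = I2 ∨ B = I2.neg) ∧ U.Mat ((l : G))⁻¹ B := by
    obtain ⟨B, hB, hBm⟩ := U.K_center (inv_mem l.2) hly.inv_left.eq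
    exact ⟨B, hB, hBm⟩
  obtain ⟨B, hB, hBm⟩ := hlk
  have h1 := U.mat_mul (U.mat_mul hA hBm) hK
  rw [hck] at h1
  have h2 := U.mat_unique (U.mat_mul hK (U.mat_mul hA hBm)) h1
  rcases hB with rfl | rfl
  · rw [(rot_facts.2.2.2.2.2.2 A).1] at h2; exact h2.symm
  · rw [(rot_facts.2.2.2.2.2.2 A).2.2.2] at h2
    exact r2_neg A K h2

/-- The combined map. -/
noncomputable def Ψ [Finite G] (S : U.Split) : U.Nz →* Perm (Fin 3) × Perm (Fin 5) := S.θ.prod U.π5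

theorem Ψ_kernel_K [Finite G] {x : U.Nz} (hx : (x : G) ∈ D.K U.F.t) (h : U.π5 x = 1) :
    (x : G) = 1 ∨ (x : G) = U.F.t := by
  have h1 : perm5 (MulAut.conj (U.eK ⟨x, hx⟩)) = 1 := by rw [← U.π5_K ⟨x, hx⟩]; exact h
  rcases perm5_conj h1 with e | e
  · exact Or.inl (congrArg Subtype.val ((MulEquiv.map_eq_one_iff U.eK).1 e))
  · have et : U.eK ⟨U.F.t, U.t_K⟩ = z5 := U.F.t_φ
    exact Or.inr (congrArg Subtype.val (U.eK.injective (e.trans et.symm)))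

theorem Ψ_base [Finite G] (S : U.Split) : ∀ σ : Perm (Fin 5), sign σ = 1 → ∀ q : Fin 3,
    ∃ x, U.Ψ S x = (p3 (q, 0), σ) := by
  intro σ hσ q
  obtain ⟨l, hl⟩ := U.π5_even hσ
  refine ⟨⟨l, U.K_Nz l.2⟩ * ⟨D.z, U.z_Nz⟩ ^ q.val, Prod.ext ?_ ?_⟩
  · show S.θ _ = _
    refine S.θ_eq ?_
    show (l : G) * D.z ^ q.val * (D.z ^ q.val * U.k' ^ (0 : Fin 2).val)⁻¹ ∈ S.R
    simpa using S.K_le l.2
  · show U.π5 _ = _
    rw [map_mul, map_pow, U.π5_z, one_pow, mul_one, hl]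

theorem θ_k' [Finite G] (S : U.Split) : S.θ ⟨U.k', U.k'_Nz⟩ = p3 (0, 1) :=
  S.θ_eq (by simp [Split.Rel])

/-- The two shapes of the normalizer of the centre modulo `t`. -/
theorem Nz_shape [Finite G] :
    ((∀ x ∈ U.CD, x ∈ U.Dt ∨ x * U.F.t ∈ U.Dt) → ∃ Ψ₁ : U.Nz →* M35, Function.Surjective Ψ₁ ∧
      (∀ x : U.Nz, Ψ₁ x = 1 ↔ (x : G) = 1 ∨ (x : G) = U.F.t) ∧
      (∀ x : U.Nz, (x : G) * D.z = D.z * x ↔ sign (Ψ₁ x).1.1 = 1)) ∧
    (Nonempty U.Rot → ∃ Ψ₂ : U.Nz →* Perm (Fin 3) × Perm (Fin 5), Function.Surjective Ψ₂ ∧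
      (∀ x : U.Nz, Ψ₂ x = 1 ↔ (x : G) = 1 ∨ (x : G) = U.F.t) ∧
      (∀ x : U.Nz, (x : G) * D.z = D.z * x ↔ sign (Ψ₂ x).1 = 1)) := by
  obtain ⟨K, hK, hK2, hKs, -⟩ := U.k_mat
  have ht1 : ∀ S : U.Split, ∀ x : U.Nz, ((x : G) = 1 ∨ (x : G) = U.F.t) → U.Ψ S x = 1 := by
    rintro S x (e | e)
    · rw [show x = 1 from Subtype.ext e, map_one]
    · refine Prod.ext ?_ ?_
      · show S.θ x = 1
        rw [S.θ_eq (S.rel_one (e ▸ S.t_R))]
        simp [p3]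
      · have h : U.conjK x = 1 := MulEquiv.ext fun l => Subtype.ext (by
          show (x : G) * (l : G) * (x : G)⁻¹ = l
          rw [e, ← U.F.K_t l.2, mul_inv_cancel_right])
        show perm5 (MulAut.congr U.eK (U.conjK x)) = 1
        rw [h, map_one, map_one]
  constructor
  · intro hI
    obtain ⟨S, hS⟩ := U.split_I hI
    have hk'odd : sign (U.π5 ⟨U.k', U.k'_Nz⟩) = -1 := by
      obtain ⟨K', hK'⟩ := U.mat_exists U.act_k'.1
      exact U.not_inner U.k'_Nz (mul_inv_eq_iff_eq_mul.1 U.k'_y) hK' hK (U.k'_mats hK hK').1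
    have hmem : ∀ x : U.Nz, U.Ψ S x ∈ M35 := by
      intro x
      obtain ⟨l, hl, c, hc, b, e⟩ := U.Nz_split x.2
      obtain ⟨i, hi⟩ := S.CD_mem c hc
      rw [hS] at hi
      have hx : x = ⟨l * (c * (D.z ^ i.val)⁻¹), U.K_Nz (mul_mem hl hi)⟩ * ⟨D.z, U.z_Nz⟩ ^ i.val *
          ⟨U.k', U.k'_Nz⟩ ^ b.val := Subtype.ext (by push_cast; rw [e]; group)
      have h1 : U.Ψ S ⟨D.z, U.z_Nz⟩ ∈ M35 := by
        refine mem_M35'.2 ?_
        show sign (S.θ _) = sign (U.π5 _)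
        rw [U.π5_z, map_one]
        exact (S.θ_z_iff ⟨D.z, U.z_Nz⟩).1 rfl
      have h2 : U.Ψ S ⟨U.k', U.k'_Nz⟩ ∈ M35 := by
        refine mem_M35'.2 ?_
        show sign (S.θ _) = sign (U.π5 _)
        rw [hk'odd, U.θ_k' S]
        decide +kernel
      have h3 : ∀ m : D.K U.F.t, U.Ψ S ⟨m, U.K_Nz m.2⟩ ∈ M35 := fun m => by
        refine mem_M35'.2 ?_
        show sign (S.θ _) = sign (U.π5 _)
        rw [U.π5_K_sign m]
        exact (S.θ_z_iff ⟨m, U.K_Nz m.2⟩).1 (U.K_z m.2)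
      rw [hx, map_mul, map_mul, map_pow, map_pow]
      exact mul_mem (mul_mem (h3 ⟨_, mul_mem hl hi⟩) (pow_mem h1 _)) (pow_mem h2 _)
    refine ⟨(U.Ψ S).codRestrict M35 hmem, ?_, fun x => ?_, fun x => S.θ_z_iff x⟩
    · rintro ⟨⟨σ, τ⟩, hm⟩
      rw [mem_M35'] at hm
      obtain ⟨⟨q, b⟩, rfl⟩ := p3_facts.2.2.2 σ
      set kk : U.Nz := ⟨U.k', U.k'_Nz⟩ ^ b.val
      have hkk : S.θ kk = p3 (0, b) := by
        rw [map_pow, U.θ_k' S]; fin_cases b <;> simp [p3]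
      have hsg : sign (τ * (U.π5 kk)⁻¹) = 1 := by
        have h2 : sign (S.θ kk) = sign (U.π5 kk) := mem_M35'.1 (hmem kk)
        rw [hkk] at h2
        rw [map_mul, map_inv, ← h2, ← hm, mul_inv_eq_one]
        exact p3_sign q b
      obtain ⟨x, hx⟩ := U.Ψ_base S _ hsg q
      refine ⟨x * kk, Subtype.ext (Prod.ext ?_ ?_)⟩
      · show S.θ (x * kk) = _
        rw [map_mul, hkk, show S.θ x = p3 (q, 0) from congrArg Prod.fst hx, p3_facts.1]
        simp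
      · show U.π5 (x * kk) = _
        rw [map_mul, show U.π5 x = τ * (U.π5 kk)⁻¹ from congrArg Prod.snd hx, inv_mul_cancel_right]
    · refine ⟨fun h => ?_, fun h => Subtype.ext (ht1 S x h)⟩
      have h' : U.Ψ S x = 1 := congrArg Subtype.val h
      exact U.Ψ_kernel_K (hS ▸ S.θ_ker (congrArg Prod.fst h')) (congrArg Prod.snd h')
  · rintro ⟨E⟩
    obtain ⟨S, hS⟩ := U.split_II E
    have heN : E.e ∈ U.Nz :=
      ⟨D.comm_norm (U.mem_CD.1 E.mem).1, mem_centralizer_singleton_iff.2 (U.mem_CD.1 E.mem).2.2⟩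
    have heodd : sign (U.π5 ⟨E.e, heN⟩) = -1 :=
      U.not_inner heN (U.mem_CD.1 E.mem).2.1 E.mat hK (r2_k K hK2 hKs)
    have heθ : S.θ ⟨E.e, heN⟩ = 1 := by
      rw [S.θ_eq (S.rel_one ((hS E.e).2 ⟨1, one_mem _, 1, by simp⟩))]
      simp [p3]
    refine ⟨U.Ψ S, ?_, fun x => ?_, fun x => S.θ_z_iff x⟩
    · rintro ⟨σ, τ⟩
      obtain ⟨⟨q, b⟩, rfl⟩ := p3_facts.2.2.2 σ
      set kk : U.Nz := ⟨U.k', U.k'_Nz⟩ ^ b.val
      have hkk : S.θ kk = p3 (0, b) := by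
        rw [map_pow, U.θ_k' S]; fin_cases b <;> simp [p3]
      obtain ⟨ee, hee, hes⟩ : ∃ ee : U.Nz, S.θ ee = 1 ∧ sign (U.π5 ee) = sign (τ * (U.π5 kk)⁻¹) := by
        rcases Int.units_eq_one_or (sign (τ * (U.π5 kk)⁻¹)) with h | h
        · exact ⟨1, map_one _, by rw [map_one, map_one, h]⟩
        · exact ⟨⟨E.e, heN⟩, heθ, by rw [heodd, h]⟩
      obtain ⟨x, hx⟩ := U.Ψ_base S (τ * (U.π5 kk)⁻¹ * (U.π5 ee)⁻¹) (by rw [map_mul, map_inv, hes, mul_inv_cancel]) q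
      refine ⟨x * ee * kk, Prod.ext ?_ ?_⟩
      · show S.θ (x * ee * kk) = _
        rw [map_mul, map_mul, hkk, hee, mul_one, show S.θ x = p3 (q, 0) from congrArg Prod.fst hx, p3_facts.1]
        simp
      · show U.π5 (x * ee * kk) = _
        rw [map_mul, map_mul, show U.π5 x = τ * (U.π5 kk)⁻¹ * (U.π5 ee)⁻¹ from congrArg Prod.snd hx,
          inv_mul_cancel_right, inv_mul_cancel_right]
    · refine ⟨fun h => ?_, ht1 S x⟩
      have hπ : U.π5 x = 1 := congrArg Prod.snd h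
      obtain ⟨l, hl, n, e⟩ := (hS x).1 (S.θ_ker (congrArg Prod.fst h))
      have hx : x = ⟨l, U.K_Nz hl⟩ * ⟨E.e, heN⟩ ^ n := Subtype.ext (by push_cast; exact e)
      have hn := congrArg sign hπ
      rw [hx, map_mul, map_pow, map_mul, map_pow, U.π5_K_sign ⟨l, hl⟩, heodd, one_mul, map_one] at hn
      rcases Nat.even_or_odd' n with ⟨m, rfl | rfl⟩
      · refine U.Ψ_kernel_K ?_ hπ
        rw [e, pow_mul, pow_two, E.sq]
        exact mul_mem hl (pow_mem U.t_K m)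
      · rw [pow_add, pow_mul, pow_two, neg_one_mul, neg_neg, one_pow, one_mul, pow_one] at hn
        exact absurd hn (by decide)

end Full

end CfsgLib.McLThree
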