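import Cfsg.Agent.Lib.McLThree.Setup
import Cfsg.Agent.Lib.Products
import Mathlib.GroupTheory.Transfer
import Mathlib.GroupTheory.Commutator.Basic

/-!
The involution inverting the core modulo its centre, and the complement in its centralizer.
-/

set_option autoImplicit false

namespace CfsgLib.McLThree

open Subgroup

universe u

namespace Setting

variable {G : Type u} [Group G] (D : Setting G)

theorem L₀_z {x : G} (hx : x ∈ D.L₀) : x * D.z = D.z * x := by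
  rw [D.L₀_eq] at hx
  induction hx using closure_induction with
  | mem x hx =>
    obtain ⟨hn, k, hk⟩ := hx
    rcases D.conj_of_norm hn with h | h
    · exact mul_inv_eq_iff_eq_mul.1 h
    · exfalso
      have hiter : ∀ m : ℕ, x ^ (2 * m + 1) * D.z * (x ^ (2 * m + 1))⁻¹ = D.z⁻¹ := by
        intro m
        induction m with
        | zero => simpa using h
        | succ m ih =>
          calc x ^ (2 * (m + 1) + 1) * D.z * (x ^ (2 * (m + 1) + 1))⁻¹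
              = x * (x * (x ^ (2 * m + 1) * D.z * (x ^ (2 * m + 1))⁻¹) * x⁻¹) * x⁻¹ := by
                rw [show 2 * (m + 1) + 1 = 1 + 1 + (2 * m + 1) by omega, pow_add, pow_add, pow_one]; group
            _ = D.z⁻¹ := by rw [ih, ← conj_inv, h, inv_inv]; exact h
      obtain ⟨m, hm⟩ : Odd (3 ^ k) := Odd.pow (by decide)
      have := hiter m
      rw [← hm, ← hk, pow_orderOf_eq_one, one_mul, inv_one, mul_one] at this
      have h2 : D.z ^ 2 = 1 := by rw [pow_two]; nth_rw 2 [this]; rw [mul_inv_cancel]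
      exact D.z_ne (by
        calc D.z = D.z ^ 3 * (D.z ^ 2)⁻¹ := by group
          _ = 1 := by rw [h2, D.z_cube, inv_one, one_mul])
  | one => simp
  | mul x y _ _ hx hy => exact ((show Commute x D.z from hx).mul_left hy).eq
  | inv x _ hx => exact ((show Commute x D.z from hx).inv_left).eq

theorem L₀_norm {x : G} (hx : x ∈ D.L₀) : x ∈ normalizer (D.Zc : Set G) := D.comm_norm (D.L₀_z hx)

theorem L₀_conj {x l : G} (hx : x ∈ normalizer (D.Zc : Set G)) (hl : l ∈ D.L₀) : x * l * x⁻¹ ∈ D.L₀ := by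
  rw [D.L₀_eq] at hl
  induction hl using closure_induction with
  | mem l hl =>
    obtain ⟨hn, k, hk⟩ := hl
    refine D.three_mem_L₀ (mul_mem (mul_mem hx hn) (inv_mem hx)) ⟨k, ?_⟩
    rw [← hk]; exact MulEquiv.orderOf_eq (MulAut.conj x) l
  | one => simp
  | mul a b _ _ ha hb => rw [show x * (a * b) * x⁻¹ = x * a * x⁻¹ * (x * b * x⁻¹) by group]; exact mul_mem ha hb
  | inv a _ ha => rw [← conj_inv]; exact inv_mem ha

theorem S_le_L₀ : (D.S : Subgroup G) ≤ D.L₀ := fun s hs => by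
  obtain ⟨n, hn⟩ := D.S.2 ⟨s, hs⟩
  obtain ⟨j, -, hj⟩ := (Nat.dvd_prime_pow Nat.prime_three).1
    (orderOf_dvd_of_pow_eq_one (congrArg Subtype.val hn : s ^ 3 ^ n = 1))
  exact D.three_mem_L₀ (D.S_norm hs) ⟨j, hj⟩

/-- The core inside the first local group. -/
theorem card_ker_inf {H : Subgroup G} (hH : H ≤ D.L₀) :
    Nat.card H = Nat.card (H ⊓ D.Q : Subgroup G) * Nat.card ((H.subgroupOf D.L₀).map D.φL) := by
  have h := card_mul_index ((D.φL.comp (inclusion hH)).ker)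
  rw [index_ker, MonoidHom.range_comp, Subgroup.inclusion_range] at h
  rw [← h]
  congr 1
  exact Nat.card_congr ⟨fun x => ⟨(x.1 : G), x.1.2, (D.φL_ker _).1 x.2⟩,
    fun x => ⟨⟨x.1, x.2.1⟩, (D.φL_ker _).2 x.2.2⟩, fun x => rfl, fun x => rfl⟩

theorem card_L₀ [Finite G] : Nat.card D.L₀ = 243 * 120 := by
  rw [D.card_ker_inf le_rfl, inf_eq_right.2 D.Q_le_L₀, D.Q_card, subgroupOf_self,
    ← MonoidHom.range_eq_map, MonoidHom.range_eq_top.2 D.φL_surj, card_top, Nat.card_eq_fintype_card, k5_card]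

theorem S_card [Finite G] : Nat.card D.S = 729 := by
  haveI : Fact (Nat.Prime 3) := ⟨Nat.prime_three⟩
  have h1 : Nat.card D.S ∣ 243 * 120 := D.card_L₀ ▸ card_dvd_of_le D.S_le_L₀
  have h2 : 3 ^ 6 ∣ Nat.card (D.S : Subgroup G) := Sylow.pow_dvd_card_of_pow_dvd_card D.S
    ((D.card_L₀ ▸ (⟨40, by norm_num⟩ : 3 ^ 6 ∣ 243 * 120) : 3 ^ 6 ∣ Nat.card D.L₀).trans
      (card_subgroup_dvd_card _))
  obtain ⟨n, hn⟩ := IsPGroup.iff_card.1 D.S.2
  rw [hn] at h1 h2 ⊢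
  have h6 : 6 ≤ n := (Nat.pow_dvd_pow_iff_le_right (by norm_num : 1 < 3)).1 h2
  have h7 : n ≤ 6 := by
    by_contra hlt
    have := (pow_dvd_pow 3 (by omega : 7 ≤ n)).trans h1
    norm_num at this
  rw [show n = 6 by omega]; norm_num

/-- Conjugation on the core modulo the centre only depends on the class modulo the core. -/
theorem mod_Q {x r q : G} (hx : x * D.z = D.z * x) (hr : r ∈ D.Q) (hq : q ∈ D.Q) :
    x * r * q * (x * r)⁻¹ * (x * q * x⁻¹)⁻¹ ∈ D.Zc := by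
  rw [show x * r * q * (x * r)⁻¹ * (x * q * x⁻¹)⁻¹ = x * (r * q * r⁻¹ * q⁻¹) * x⁻¹ by group,
    D.comm_Zc hx (D.Q_comm r hr q hq), mul_inv_cancel_right]
  exact D.Q_comm r hr q hq

theorem conj_comm {x c : G} (hx : x * D.z = D.z * x) (hc : c ∈ D.Zc) : x * c * x⁻¹ = c := by
  rw [D.comm_Zc hx hc, mul_inv_cancel_right]

/-- The elements of the core fixed by `t` modulo the centre. -/
def fixQ (t : G) (ht : t * D.z = D.z * t) : Subgroup G where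
  carrier := {q | q ∈ D.Q ∧ t * q * t⁻¹ * q⁻¹ ∈ D.Zc}
  one_mem' := ⟨one_mem _, by simp⟩
  mul_mem' := fun {a b} ha hb => ⟨mul_mem ha.1 hb.1, by
    rw [show t * (a * b) * t⁻¹ * (a * b)⁻¹ = t * a * t⁻¹ * (t * b * t⁻¹ * b⁻¹) * a⁻¹ by group]
    set c := t * b * t⁻¹ * b⁻¹
    rw [show t * a * t⁻¹ * c * a⁻¹ = t * a * t⁻¹ * (a⁻¹ * (a * c * a⁻¹)) by group,
      D.conj_comm (D.Q_z ha.1) hb.2, ← mul_assoc]
    exact mul_mem ha.2 hb.2⟩
  inv_mem' := fun {a} ha => ⟨inv_mem ha.1, by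
    have e : t * a⁻¹ * t⁻¹ * a⁻¹⁻¹ = a⁻¹ * ((t * a * t⁻¹ * a⁻¹)⁻¹) * a⁻¹⁻¹ := by group
    rw [e, D.conj_comm (by exact D.Q_z (inv_mem ha.1)) (inv_mem ha.2)]
    exact inv_mem ha.2⟩

/-- The elements of the core inverted by `t` modulo the centre. -/
def invQ (t : G) (ht : t * D.z = D.z * t) : Subgroup G where
  carrier := {q | q ∈ D.Q ∧ t * q * t⁻¹ * q ∈ D.Zc}
  one_mem' := ⟨one_mem _, by simp⟩
  mul_mem' := fun {a b} ha hb => ⟨mul_mem ha.1 hb.1, by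
    set c := t * a * t⁻¹ * a
    set d := t * b * t⁻¹ * b
    have e : t * (a * b) * t⁻¹ * (a * b) = c * ((a⁻¹ * d * a⁻¹⁻¹) * (a⁻¹ * (b⁻¹ * a * b⁻¹⁻¹ * a⁻¹) * a⁻¹⁻¹)) := by
      simp only [c, d]; group
    rw [e, D.conj_comm (D.Q_z (inv_mem ha.1)) hb.2]
    have hc := D.Q_comm b⁻¹ (inv_mem hb.1) a ha.1
    rw [D.conj_comm (D.Q_z (inv_mem ha.1)) (show b⁻¹ * a * b⁻¹⁻¹ * a⁻¹ ∈ D.Zc from hc)]
    exact mul_mem ha.2 (mul_mem hb.2 hc)⟩
  inv_mem' := fun {a} ha => ⟨inv_mem ha.1, by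
    have e : t * a⁻¹ * t⁻¹ * a⁻¹ = a * ((t * a * t⁻¹ * a)⁻¹) * a⁻¹ := by group
    rw [e, D.conj_comm (D.Q_z ha.1) (inv_mem ha.2)]
    exact inv_mem ha.2⟩

theorem five_mod [Finite G] {f : G} (hf : f ^ 5 = 1) (hfz : f * D.z = D.z * f) {V : Subgroup G} (hVQ : V ≤ D.Q)
    (hV : Nat.card V ≤ 81) (hzV : D.z ∈ V) (hn : ∀ v ∈ V, f * v * f⁻¹ ∈ V) :
    ∀ v ∈ V, f * v * f⁻¹ * v⁻¹ ∈ D.Zc := by
  set C := centralizer ({D.z} : Set G)
  have hVC : ∀ v ∈ V, v ∈ C := fun v hv => mem_centralizer_singleton_iff.2 (D.Q_z (hVQ hv))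
  let Zn : Subgroup C := D.Zc.subgroupOf C
  haveI : Zn.Normal := ⟨fun n hn g => by
    rw [mem_subgroupOf] at hn ⊢
    simpa [D.conj_comm (mem_centralizer_singleton_iff.1 g.2) hn] using hn⟩
  let π := QuotientGroup.mk' Zn
  have hker : ∀ a : C, π a = 1 ↔ (a : G) ∈ D.Zc := fun a => QuotientGroup.eq_one_iff a
  have hfC : f ∈ C := mem_centralizer_singleton_iff.2 hfz
  have hle : D.Zc ≤ V := zpowers_le.2 hzV
  obtain ⟨n, hn3⟩ := IsPGroup.iff_card.1 (D.Q_isP.to_le hVQ)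
  have hVC' : V ≤ C := hVC
  have hmul := card_mul_index ((π.comp (inclusion hVC')).ker)
  rw [index_ker, MonoidHom.range_comp, Subgroup.inclusion_range, hn3] at hmul
  have hk : Nat.card (π.comp (inclusion hVC')).ker = 3 := by
    rw [← D.card_Zc]
    exact Nat.card_congr ⟨fun x => ⟨(x.1 : G), (hker _).1 x.2⟩,
      fun x => ⟨⟨x.1, hle x.2⟩, (hker _).2 x.2⟩, fun x => rfl, fun x => rfl⟩
  rw [hk] at hmul
  have hn4 : n ≤ 4 := (Nat.pow_le_pow_iff_right (by norm_num : 1 < 3)).1 (show 3 ^ n ≤ 3 ^ 4 by rw [← hn3]; exact hV)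
  have key := five_trivial (f := π ⟨f, hfC⟩) (by rw [← map_pow, hker]; simp [hf])
    ((V.subgroupOf C).map π) ⟨n - 1, by omega, by
      have hn1 : 1 ≤ n := by
        rcases Nat.eq_zero_or_pos n with h | h
        · subst h; simp at hmul
        · exact h
      rw [show n = n - 1 + 1 by omega, pow_succ] at hmul
      omega⟩ (by
      rintro _ ⟨v, hv, rfl⟩
      exact ⟨⟨f, hfC⟩ * v * ⟨f, hfC⟩⁻¹, by rw [SetLike.mem_coe, mem_subgroupOf]; exact hn _ hv, by simp⟩)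
  intro v hv
  have h := key (π ⟨v, hVC v hv⟩) ⟨⟨v, hVC v hv⟩, mem_subgroupOf.2 hv, rfl⟩
  have h' : π (⟨f, hfC⟩ * ⟨v, hVC v hv⟩ * (⟨f, hfC⟩ : C)⁻¹ * (⟨v, hVC v hv⟩ : C)⁻¹) = 1 := by
    simp only [map_mul, map_inv]; rw [h]; group
  exact (hker _).1 h'

theorem exists_five [Finite G] : ∃ f ∈ D.L₀, f ^ 5 = 1 ∧ f ≠ 1 := by
  haveI : Fact (Nat.Prime 5) := ⟨by norm_num⟩
  obtain ⟨f, hf⟩ := exists_prime_orderOf_dvd_card' (G := D.L₀) 5 (by rw [D.card_L₀]; norm_num)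
  refine ⟨f, f.2, ?_, fun e => ?_⟩
  · have := pow_orderOf_eq_one f
    rw [hf] at this
    exact congrArg Subtype.val this
  · rw [show f = 1 from Subtype.ext e, orderOf_one] at hf
    omega

theorem z_mem_L₀ : D.z ∈ D.L₀ := D.Q_le_L₀ D.z_Q

theorem φL_Q {x : G} (hx : x ∈ D.Q) : D.φL ⟨x, D.Q_le_L₀ hx⟩ = 1 := (D.φL_ker _).2 hx

theorem exists_invol [Finite G] : ∃ t : G, ∃ h : t ∈ D.L₀, t * t = 1 ∧ D.φL ⟨t, h⟩ = z5 := by
  obtain ⟨x, hx⟩ := D.φL_surj z5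
  refine ⟨(x : G) ^ 243, pow_mem x.2 _, ?_, ?_⟩
  · have h2 : ((x * x : D.L₀) : G) ∈ D.Q := (D.φL_ker _).1 (by rw [map_mul, hx, k5_basic.2.2.1])
    have h := pow_card_eq_one' (x := (⟨_, h2⟩ : D.Q))
    rw [D.Q_card] at h
    have h' := congrArg Subtype.val h
    simp only [SubmonoidClass.coe_pow, OneMemClass.coe_one, Subgroup.coe_mul] at h'
    rw [← (Commute.refl (x : G)).mul_pow, h']
  · rw [show (⟨(x : G) ^ 243, pow_mem x.2 _⟩ : D.L₀) = x ^ 243 from rfl, map_pow, hx, pow_succ,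
      show 242 = 2 * 121 from rfl, pow_mul, pow_two, k5_basic.2.2.1, one_pow, one_mul]

theorem invert_Q [Finite G] {t : G} (htL : t ∈ D.L₀) (ht2 : t * t = 1) (htφ : D.φL ⟨t, htL⟩ = z5) :
    ∀ q ∈ D.Q, t * q * t⁻¹ * q ∈ D.Zc := by
  have htz := D.L₀_z htL
  set F := D.fixQ t htz
  set I := D.invQ t htz
  have hti : t⁻¹ = t := inv_eq_of_mul_eq_one_right ht2
  -- invariance under the first local group
  have hmove : ∀ l ∈ D.L₀, ∀ q ∈ D.Q, t * (l * q * l⁻¹) * t⁻¹ * (l * (t * q * t⁻¹) * l⁻¹)⁻¹ ∈ D.Zc := by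
    intro l hl q hq
    have hc : l⁻¹ * t⁻¹ * l * t ∈ D.Q := by
      refine (D.φL_ker ⟨_, mul_mem (mul_mem (mul_mem (inv_mem hl) (inv_mem htL)) hl) htL⟩).1 ?_
      have : (⟨_, mul_mem (mul_mem (mul_mem (inv_mem hl) (inv_mem htL)) hl) htL⟩ : D.L₀) =
          (⟨l, hl⟩ : D.L₀)⁻¹ * ⟨t, htL⟩⁻¹ * ⟨l, hl⟩ * ⟨t, htL⟩ := rfl
      rw [this, map_mul, map_mul, map_mul, map_inv, map_inv, htφ, mul_assoc, k5_basic.2.2.2.2.1]
      group
    have h := D.mod_Q (x := l * t) (r := (l⁻¹ * t⁻¹ * l * t)⁻¹)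
      ((show Commute l D.z from D.L₀_z hl).mul_left htz).eq (inv_mem hc) hq
    convert h using 1
    group
  have hF : ∀ l ∈ D.L₀, ∀ q ∈ F, l * q * l⁻¹ ∈ F := fun l hl q hq => ⟨D.norm_Q (D.L₀_norm hl) hq.1, by
    have h1 := hmove l hl q hq.1
    have h2 := hq.2
    rw [show t * (l * q * l⁻¹) * t⁻¹ * (l * q * l⁻¹)⁻¹ = t * (l * q * l⁻¹) * t⁻¹ * (l * (t * q * t⁻¹) * l⁻¹)⁻¹ *
      (l * (t * q * t⁻¹ * q⁻¹) * l⁻¹) by group, D.conj_comm (D.L₀_z hl) h2]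
    exact mul_mem h1 h2⟩
  have hI : ∀ l ∈ D.L₀, ∀ q ∈ I, l * q * l⁻¹ ∈ I := fun l hl q hq => ⟨D.norm_Q (D.L₀_norm hl) hq.1, by
    have h1 := hmove l hl q hq.1
    have h2 := hq.2
    rw [show t * (l * q * l⁻¹) * t⁻¹ * (l * q * l⁻¹) = t * (l * q * l⁻¹) * t⁻¹ * (l * (t * q * t⁻¹) * l⁻¹)⁻¹ *
      (l * (t * q * t⁻¹ * q) * l⁻¹) by group, D.conj_comm (D.L₀_z hl) h2]
    exact mul_mem h1 h2⟩
  intro q hq
  by_contra hcon
  obtain ⟨f, hfL, hf5, hf1⟩ := D.exists_five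
  have hfz := D.L₀_z hfL
  have hzF : D.z ∈ F := ⟨D.z_Q, by rw [htz, mul_inv_cancel_right, mul_inv_cancel]; exact one_mem _⟩
  have hzI : D.z ∈ I := ⟨D.z_Q, by rw [htz, mul_inv_cancel_right]; exact mul_mem (mem_zpowers _) (mem_zpowers _)⟩
  have hFle : F ≤ D.Q := fun x hx => hx.1
  have hIle : I ≤ D.Q := fun x hx => hx.1
  have hsmall : ∀ V ≤ D.Q, V ≠ D.Q → Nat.card V ≤ 81 := fun V hV hne => by
    obtain ⟨n, hn⟩ := IsPGroup.iff_card.1 (D.Q_isP.to_le hV)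
    have hlt : Nat.card V ≠ 243 := fun e => hne (eq_of_le_of_card_ge hV (by rw [D.Q_card, e]))
    have hd : Nat.card V ∣ 3 ^ 5 := by
      have := card_dvd_of_le hV; rw [D.Q_card] at this; exact this
    rw [hn] at hd hlt ⊢
    have h5 := (Nat.pow_dvd_pow_iff_le_right (by norm_num : 1 < 3)).1 hd
    rcases Nat.lt_or_ge n 5 with h | h
    · exact Nat.pow_le_pow_right (by norm_num) (show n ≤ 4 by omega)
    · exact absurd (by rw [show n = 5 by omega]; norm_num) hlt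
  have hFne : F ≠ D.Q := by
    intro e
    have h1 : t = 1 := D.trivial_stable htz (fun x hx => (e.ge hx : x ∈ F).2) (by
      intro h3
      have h2 := h3.trans (orderOf_dvd_of_pow_eq_one (by rw [pow_two]; exact ht2) : orderOf t ∣ 2)
      norm_num at h2)
    subst h1
    exact k5_basic.2.2.2.1 (htφ.symm.trans (map_one D.φL))
  have hIne : I ≠ D.Q := fun e => hcon (e.ge hq : q ∈ I).2
  have h1 := D.five_mod hf5 hfz hFle (hsmall F hFle hFne) hzF (hF f hfL)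
  have h2 := D.five_mod hf5 hfz hIle (hsmall I hIle hIne) hzI (hI f hfL)
  -- the two parts generate the core modulo the centre
  let K : Subgroup G :=
    { carrier := {x | x ∈ D.Q ∧ f * x * f⁻¹ * x⁻¹ ∈ D.Zc}
      one_mem' := ⟨one_mem _, by simp⟩
      mul_mem' := fun {a b} ha hb => (D.fixQ f hfz).mul_mem ha hb
      inv_mem' := fun {a} ha => (D.fixQ f hfz).inv_mem ha }
  refine hf1 (D.trivial_stable hfz (fun x hx => (show x ∈ K from ?_).2) (fun h3 => ?_))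
  · have hx' : t * x * t⁻¹ ∈ D.Q := D.norm_Q (D.L₀_norm htL) hx
    have hu : x * (t * x * t⁻¹) ∈ F := ⟨mul_mem hx hx', by
      rw [show t * (x * (t * x * t⁻¹)) * t⁻¹ * (x * (t * x * t⁻¹))⁻¹ =
        t * x * t⁻¹ * ((t * t) * x * (t * t)⁻¹) * (t * x * t⁻¹)⁻¹ * x⁻¹ by group, ht2]
      simpa [mul_assoc] using D.Q_comm _ hx' x hx⟩
    have hv : x * (t * x⁻¹ * t⁻¹) ∈ I := ⟨mul_mem hx (D.norm_Q (D.L₀_norm htL) (inv_mem hx)), by
      rw [show t * (x * (t * x⁻¹ * t⁻¹)) * t⁻¹ * (x * (t * x⁻¹ * t⁻¹)) =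
        t * x * t⁻¹ * ((t * t) * x⁻¹ * (t * t)⁻¹) * x * (t * x * t⁻¹)⁻¹ by group, ht2]
      simp⟩
    have hK1 : x * (t * x * t⁻¹) ∈ K := ⟨hu.1, h1 _ hu⟩
    have hK2 : x * (t * x⁻¹ * t⁻¹) ∈ K := ⟨hv.1, h2 _ hv⟩
    have hKz : D.Zc ≤ K := fun c hc => ⟨zpowers_le.2 D.z_Q hc, by
      rw [D.conj_comm hfz hc, mul_inv_cancel]; exact one_mem _⟩
    have hxx : x ^ 2 ∈ K := by
      set w := t * x * t⁻¹
      have e : x ^ 2 = x * w * (x * (t * x⁻¹ * t⁻¹)) * ((x * (t * x⁻¹ * t⁻¹))⁻¹ * w⁻¹ * (x * w⁻¹) * w) * 1 := by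
        rw [show t * x⁻¹ * t⁻¹ = w⁻¹ by simp [w, mul_assoc], pow_two]; group
      have hcz : (x * (t * x⁻¹ * t⁻¹))⁻¹ * w⁻¹ * (x * w⁻¹) * w ∈ D.Zc := by
        rw [show t * x⁻¹ * t⁻¹ = w⁻¹ by simp [w, mul_assoc]]
        have := D.Q_comm (x * w⁻¹)⁻¹ (inv_mem (mul_mem hx (inv_mem hx'))) w⁻¹ (inv_mem hx')
        simpa [mul_assoc] using this
      rw [e, mul_one]
      exact mul_mem (mul_mem hK1 hK2) (hKz hcz)
    obtain ⟨n, hn⟩ := D.Q_isP ⟨x, hx⟩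
    obtain ⟨m, hm⟩ : Odd (3 ^ n) := Odd.pow (by decide)
    have hn' : x ^ 3 ^ n = 1 := congrArg Subtype.val hn
    rw [hm] at hn'
    have : x = (x ^ 2) ^ (m + 1) := by
      rw [← pow_mul, show 2 * (m + 1) = 1 + (2 * m + 1) by omega, pow_add, hn', mul_one, pow_one]
    rw [this]
    exact pow_mem hxx _
  · have := h3.trans (orderOf_dvd_of_pow_eq_one hf5)
    norm_num at this

end Setting

end CfsgLib.McLThree
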