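import Mathlib.LinearAlgebra.Matrix.SpecialLinearGroup
import Mathlib.GroupTheory.Abelianization.Defs
import Mathlib.Data.ZMod.Basic
import Mathlib.Tactic.Group

/-!
Facts about SL(2,5).
-/

set_option autoImplicit false
set_option maxRecDepth 100000
set_option maxHeartbeats 4000000

namespace CfsgLib.McLThree

/-- SL(2,5). -/
abbrev K5 : Type := Matrix.SpecialLinearGroup (Fin 2) (ZMod 5)

/-- An element of order three. -/
def u5 : K5 := ⟨!![0, -1; 1, -1], by decide⟩

/-- A unipotent element. -/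
def e5 : K5 := ⟨!![1, 1; 0, 1], by decide⟩

/-- The central involution. -/
def z5 : K5 := ⟨!![-1, 0; 0, -1], by decide⟩

/-- An element of order four inverting `u5`. -/
def k5 : K5 := ⟨!![2, 0; 2, 3], by decide⟩

/-- Products of at most `n` factors from `L`. -/
def prods (L : List K5) : ℕ → List K5
  | 0 => [1]
  | n + 1 => ((prods L n).flatMap fun x => x :: L.map fun y => x * y).eraseDups

theorem k5_card : Fintype.card K5 = 120 := by decide +kernel

theorem k5_basic : u5 ^ 3 = 1 ∧ u5 ≠ 1 ∧ z5 * z5 = 1 ∧ z5 ≠ 1 ∧ (∀ x : K5, x * z5 = z5 * x) ∧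
    k5 * u5 * k5⁻¹ = u5⁻¹ ∧ k5 * k5 = z5 := by decide +kernel

theorem k5_invol : ∀ x : K5, x * x = 1 → x = 1 ∨ x = z5 := by decide +kernel

theorem k5_three : ∀ x : K5, x ^ 3 = 1 → x ≠ 1 → ∃ a : K5, a * u5 * a⁻¹ = x := by decide +kernel

theorem k5_cent : ∀ x : K5, x * u5 = u5 * x → ∃ i : Fin 3, x = u5 ^ i.val ∨ x = u5 ^ i.val * z5 := by decide +kernel

theorem k5_invert : ∀ x : K5, x * u5 * x⁻¹ = u5⁻¹ → x * x = z5 := by decide +kernel

theorem k5_prods : ∀ x : K5, x ∈ prods [u5, e5 * u5 * e5⁻¹] 12 := by decide +kernel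

theorem k5_comm : ∃ a b : K5, a * b * a⁻¹ * b⁻¹ = u5 := by decide +kernel

theorem k5_gen {H : Subgroup K5} (h1 : u5 ∈ H) (h2 : e5 * u5 * e5⁻¹ ∈ H) : H = ⊤ := by
  have h : ∀ n, ∀ x ∈ prods [u5, e5 * u5 * e5⁻¹] n, x ∈ H := by
    intro n
    induction n with
    | zero => intro x hx; rw [prods, List.mem_singleton] at hx; exact hx ▸ H.one_mem
    | succ n ih =>
      intro x hx
      rw [prods, List.mem_eraseDups, List.mem_flatMap] at hx
      obtain ⟨y, hy, hx⟩ := hx
      rcases List.mem_cons.1 hx with rfl | hx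
      · exact ih _ hy
      · obtain ⟨w, hw, rfl⟩ := List.mem_map.1 hx
        refine H.mul_mem (ih _ hy) ?_
        rcases List.mem_cons.1 hw with rfl | hw
        · exact h1
        · rw [List.mem_singleton.1 hw]; exact h2
  exact eq_top_iff.2 fun x _ => h 12 x (k5_prods x)

theorem k5_perfect : commutator K5 = ⊤ := by
  obtain ⟨a, b, hab⟩ := k5_comm
  have h1 : u5 ∈ commutator K5 := hab ▸ Subgroup.commutator_mem_commutator (Subgroup.mem_top a) (Subgroup.mem_top b)
  exact k5_gen h1 ((inferInstance : (commutator K5).Normal).conj_mem _ h1 e5)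

end CfsgLib.McLThree
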