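import Cfsg.Agent.Lib.McLThree.Six
import Cfsg.Agent.Lib.McLThree.SL25
import Cfsg.Agent.Lib.Local
import Cfsg.Agent.Lib.Basic
import Mathlib.GroupTheory.Sylow

/-!
The three-local setting for McL: the data, and general tools.
-/

set_option autoImplicit false

namespace CfsgLib.McLThree

open Subgroup

universe u

/-- The data: a Sylow three-subgroup, its centre, the extraspecial core and the abelian subgroup of order 81. -/
structure Setting (G : Type u) [Group G] where
  /-- the Sylow three-subgroup -/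
  S : Sylow 3 G
  /-- a generator of its centre -/
  z : G
  /-- its order -/
  z_ord : orderOf z = 3
  /-- it is central -/
  z_comm : ∀ s ∈ S, s * z = z * s
  /-- it generates the centre -/
  z_top : ∀ s ∈ S, (∀ x ∈ S, s * x = x * s) → s ∈ zpowers z
  /-- the abelian subgroup -/
  J : Subgroup G
  /-- it lies in the Sylow subgroup -/
  J_le : J ≤ S
  /-- it is abelian -/
  J_comm : ∀ a ∈ J, ∀ b ∈ J, a * b = b * a
  /-- of exponent three -/
  J_exp : ∀ a ∈ J, a ^ 3 = 1
  /-- of order 81 -/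
  J_card : Nat.card J = 81
  /-- the subgroup generated by the three-elements of its normalizer -/
  M₀ : Subgroup G
  /-- the definition -/
  M₀_eq : M₀ = closure {g : G | g ∈ normalizer (J : Set G) ∧ ∃ k : ℕ, orderOf g = 3 ^ k}
  /-- its action -/
  φM : M₀ →* A6
  /-- onto -/
  φM_surj : Function.Surjective φM
  /-- with kernel `J` -/
  φM_ker : ∀ x : M₀, φM x = 1 ↔ (x : G) ∈ J
  /-- it contains `J` -/
  J_le_M₀ : J ≤ M₀
  /-- the core -/
  Q : Subgroup G
  /-- of order 243 -/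
  Q_card : Nat.card Q = 243
  /-- containing `z` -/
  z_Q : z ∈ Q
  /-- with centre generated by `z` -/
  Q_centre : ∀ q ∈ Q, (∀ x ∈ Q, q * x = x * q) → q ∈ zpowers z
  /-- with commutators there -/
  Q_comm : ∀ a ∈ Q, ∀ b ∈ Q, a * b * a⁻¹ * b⁻¹ ∈ zpowers z
  /-- normal in the normalizer of the centre -/
  Q_norm : normalizer (zpowers z : Set G) ≤ normalizer (Q : Set G)
  /-- and the largest such three-subgroup -/
  Q_max : ∀ R : Subgroup G, IsPGroup 3 R → R ≤ normalizer (zpowers z : Set G) →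
    normalizer (zpowers z : Set G) ≤ normalizer (R : Set G) → R ≤ Q
  /-- containing its centralizer -/
  Q_self : centralizer (Q : Set G) ≤ Q
  /-- the subgroup generated by the three-elements of the normalizer of the centre -/
  L₀ : Subgroup G
  /-- the definition -/
  L₀_eq : L₀ = closure {g : G | g ∈ normalizer (zpowers z : Set G) ∧ ∃ k : ℕ, orderOf g = 3 ^ k}
  /-- its action -/
  φL : L₀ →* K5
  /-- onto -/
  φL_surj : Function.Surjective φL
  /-- with kernel the core -/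
  φL_ker : ∀ x : L₀, φL x = 1 ↔ (x : G) ∈ Q
  /-- it contains the core -/
  Q_le_L₀ : Q ≤ L₀

section Tools

variable {G : Type u} [Group G]

theorem pow_conj_mul {x q c : G} (h : x * q * x⁻¹ = c * q) (hc : x * c = c * x) (n : ℕ) :
    x ^ n * q * (x ^ n)⁻¹ = c ^ n * q := by
  induction n with
  | zero => simp
  | succ n ih =>
    rw [pow_succ', mul_inv_rev, show x * x ^ n * q * ((x ^ n)⁻¹ * x⁻¹) = x * (x ^ n * q * (x ^ n)⁻¹) * x⁻¹ by group,
      ih, show x * (c ^ n * q) * x⁻¹ = (x * c ^ n * x⁻¹) * (x * q * x⁻¹) by group, h,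
      show x * c ^ n * x⁻¹ = c ^ n by rw [(Commute.pow_right (show Commute x c from hc) n).eq, mul_inv_cancel_right],
      ← mul_assoc, ← pow_succ]

theorem eq_one_of_orders [Finite G] {x c : G} (hx : ¬ 3 ∣ orderOf x) (hc : c ^ 3 = 1) (h : c ^ orderOf x = 1) :
    c = 1 := by
  have h1 := orderOf_dvd_of_pow_eq_one hc
  rcases (Nat.dvd_prime Nat.prime_three).1 h1 with e | e
  · exact orderOf_eq_one_iff.1 e
  · exact absurd (e ▸ orderOf_dvd_of_pow_eq_one h) hx

/-- An element of order five centralises an invariant subgroup of order dividing 27. -/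
theorem five_trivial [Finite G] {f : G} (hf : f ^ 5 = 1) (V : Subgroup G) (hV : ∃ i ≤ 3, Nat.card V = 3 ^ i)
    (hn : ∀ v ∈ V, f * v * f⁻¹ ∈ V) : ∀ v ∈ V, f * v = v * f := by
  classical
  haveI : Fact (Nat.Prime 5) := ⟨by norm_num⟩
  have hN : ∀ k ∈ zpowers f, ∀ v ∈ V, k * v * k⁻¹ ∈ V := by
    intro k hk
    obtain ⟨n, rfl⟩ := (mem_powers_iff_mem_zpowers.2 hk)
    clear hk
    induction n with
    | zero => intro v hv; simpa using hv
    | succ n ih =>
      intro v hv
      have := hn _ (ih v hv)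
      simpa [pow_succ', mul_assoc] using this
  letI : MulAction (zpowers f) V :=
    { smul := fun k v => ⟨k * v * (k : G)⁻¹, hN k k.2 v v.2⟩
      one_smul := fun v => Subtype.ext (by show (1 : G) * v * (1 : G)⁻¹ = v; simp)
      mul_smul := fun a b v => Subtype.ext (by
        show ((a * b : zpowers f) : G) * v * ((a * b : zpowers f) : G)⁻¹ = (a : G) * ((b : G) * v * (b : G)⁻¹) * (a : G)⁻¹
        push_cast; group) }
  have hP : IsPGroup 5 (zpowers f) := by
    rintro ⟨k, hk⟩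
    obtain ⟨n, rfl⟩ := (mem_powers_iff_mem_zpowers.2 hk)
    exact ⟨1, Subtype.ext (by show (f ^ n) ^ 5 ^ 1 = 1; rw [pow_one, ← pow_mul, mul_comm, pow_mul, hf, one_pow])⟩
  let F : Subgroup G :=
    { carrier := {v | v ∈ V ∧ f * v = v * f}
      one_mem' := ⟨V.one_mem, by simp⟩
      mul_mem' := fun {a b} ha hb => ⟨V.mul_mem ha.1 hb.1, (Commute.mul_right (show Commute f a from ha.2) hb.2).eq⟩
      inv_mem' := fun {a} ha => ⟨V.inv_mem ha.1, (Commute.inv_right (show Commute f a from ha.2)).eq⟩ }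
  have hfix : Nat.card (MulAction.fixedPoints (zpowers f) V) = Nat.card F := by
    refine Nat.card_congr ⟨fun v => ⟨(v.1 : G), v.1.2, ?_⟩, fun v => ⟨⟨v.1, v.2.1⟩, fun k => ?_⟩,
      fun v => rfl, fun v => rfl⟩
    · exact mul_inv_eq_iff_eq_mul.1 (congrArg Subtype.val (v.2 ⟨f, mem_zpowers f⟩))
    · refine Subtype.ext ?_
      show (k : G) * v * (k : G)⁻¹ = v
      obtain ⟨n, hn'⟩ := mem_zpowers_iff.1 k.2
      rw [← hn', ((show Commute f (v : G) from v.2.2).zpow_left n).eq, mul_inv_cancel_right]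
  have hmod := hP.card_modEq_card_fixedPoints V
  rw [hfix] at hmod
  obtain ⟨i, hi, hcard⟩ := hV
  have hle : F ≤ V := fun v hv => hv.1
  obtain ⟨j, hj, hFj⟩ := (Nat.dvd_prime_pow Nat.prime_three).1 (hcard ▸ Subgroup.card_dvd_of_le hle)
  have heq : F = V := by
    refine Subgroup.eq_of_le_of_card_ge hle (le_of_eq ?_)
    rw [hcard, hFj] at hmod
    rw [hcard, hFj]
    unfold Nat.ModEq at hmod
    interval_cases i <;> interval_cases j <;> simp_all
  intro v hv
  rw [← heq] at hv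
  exact hv.2

end Tools

namespace Setting

variable {G : Type u} [Group G] (D : Setting G)

/-- The centre as a subgroup. -/
abbrev Zc : Subgroup G := zpowers D.z

theorem z_ne : D.z ≠ 1 := fun e => by have := D.z_ord; rw [e, orderOf_one] at this; omega

theorem z_cube : D.z ^ 3 = 1 := D.z_ord ▸ pow_orderOf_eq_one D.z

theorem card_Zc : Nat.card D.Zc = 3 := by rw [Nat.card_zpowers, D.z_ord]

theorem mem_Zc {x : G} : x ∈ D.Zc ↔ ∃ i < 3, x = D.z ^ i := by
  constructor
  · intro h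
    obtain ⟨n, hn⟩ := mem_zpowers_iff.1 h
    refine ⟨(n % 3).toNat, by omega, ?_⟩
    rw [← hn, ← zpow_natCast, Int.toNat_of_nonneg (Int.emod_nonneg _ (by norm_num)),
      show (3 : ℤ) = ((orderOf D.z : ℕ) : ℤ) by rw [D.z_ord]; rfl, zpow_mod_orderOf]
  · rintro ⟨i, -, rfl⟩; exact pow_mem (mem_zpowers _) i

theorem Zc_cube {x : G} (h : x ∈ D.Zc) : x ^ 3 = 1 := by
  obtain ⟨i, -, rfl⟩ := D.mem_Zc.1 h
  rw [← pow_mul, mul_comm, pow_mul, D.z_cube, one_pow]

theorem comm_Zc {x c : G} (hx : x * D.z = D.z * x) (h : c ∈ D.Zc) : x * c = c * x := by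
  obtain ⟨i, -, rfl⟩ := D.mem_Zc.1 h
  exact ((show Commute x D.z from hx).pow_right i).eq

theorem norm_of_conj {x : G} (h : x * D.z * x⁻¹ = D.z ∨ x * D.z * x⁻¹ = D.z⁻¹) :
    x ∈ normalizer (D.Zc : Set G) := by
  rw [Subgroup.mem_normalizer_iff]
  have key : ∀ w, w ∈ D.Zc → x * w * x⁻¹ ∈ D.Zc := by
    intro w hw
    obtain ⟨i, -, rfl⟩ := D.mem_Zc.1 hw
    rw [← conj_pow]
    rcases h with e | e <;> rw [e]
    exacts [pow_mem (mem_zpowers _) i, pow_mem (inv_mem (mem_zpowers _)) i]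
  refine fun w => ⟨key w, fun hw => ?_⟩
  obtain ⟨i, -, hi⟩ := D.mem_Zc.1 hw
  have e : w = x⁻¹ * D.z ^ i * x := by rw [← hi]; group
  have hz : x⁻¹ * D.z * x ∈ D.Zc := by
    rcases h with e | e
    · have hc : x * D.z = D.z * x := mul_inv_eq_iff_eq_mul.1 e
      rw [mul_assoc, ← hc, inv_mul_cancel_left]
      exact mem_zpowers _
    · have e' := congrArg (fun g => x⁻¹ * g⁻¹ * x) e
      simp only [inv_inv, mul_inv_rev] at e'
      rw [← e', show x⁻¹ * (x * (D.z⁻¹ * x⁻¹)) * x = D.z⁻¹ by group]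
      exact inv_mem (mem_zpowers _)
  rw [e, show x⁻¹ * D.z ^ i * x = (x⁻¹ * D.z * x⁻¹⁻¹) ^ i by rw [conj_pow, inv_inv], inv_inv]
  exact pow_mem hz i

theorem conj_of_norm {x : G} (h : x ∈ normalizer (D.Zc : Set G)) :
    x * D.z * x⁻¹ = D.z ∨ x * D.z * x⁻¹ = D.z⁻¹ := by
  obtain ⟨i, hi, e⟩ := D.mem_Zc.1 ((Subgroup.mem_normalizer_iff.1 h D.z).1 (mem_zpowers _))
  interval_cases i
  · rw [pow_zero, conj_eq_one_iff] at e; exact absurd e D.z_ne
  · exact Or.inl (e.trans (pow_one _))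
  · refine Or.inr (e.trans (eq_inv_of_mul_eq_one_left ?_))
    rw [← pow_succ]; exact D.z_cube

theorem comm_norm {x : G} (h : x * D.z = D.z * x) : x ∈ normalizer (D.Zc : Set G) :=
  D.norm_of_conj (Or.inl (mul_inv_eq_iff_eq_mul.2 h))

theorem norm_Q {x : G} (hx : x ∈ normalizer (D.Zc : Set G)) {q : G} (hq : q ∈ D.Q) : x * q * x⁻¹ ∈ D.Q :=
  (Subgroup.mem_normalizer_iff.1 (D.Q_norm hx) q).1 hq

theorem S_norm : (D.S : Subgroup G) ≤ normalizer (D.Zc : Set G) := fun s hs => D.comm_norm (D.z_comm s hs)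

theorem Q_isP : IsPGroup 3 D.Q := IsPGroup.of_card (n := 5) (by rw [D.Q_card]; norm_num)

theorem Q_le : D.Q ≤ (D.S : Subgroup G) := by
  have h : IsPGroup 3 (D.Q ⊔ (D.S : Subgroup G) : Subgroup G) :=
    IsPGroup.to_sup_of_normal_left' D.Q_isP D.S.2 (D.S_norm.trans D.Q_norm)
  exact le_sup_left.trans_eq (D.S.3 h le_sup_right)

theorem Q_z {q : G} (hq : q ∈ D.Q) : q * D.z = D.z * q := D.z_comm q (D.Q_le hq)

/-- A three-element centralising the centre lies in the first local group. -/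
theorem three_mem_L₀ {x : G} (hx : x ∈ normalizer (D.Zc : Set G)) (h3 : ∃ k : ℕ, orderOf x = 3 ^ k) : x ∈ D.L₀ := by
  rw [D.L₀_eq]; exact subset_closure ⟨hx, h3⟩

theorem three_mem_M₀ {x : G} (hx : x ∈ normalizer (D.J : Set G)) (h3 : ∃ k : ℕ, orderOf x = 3 ^ k) : x ∈ D.M₀ := by
  rw [D.M₀_eq]; exact subset_closure ⟨hx, h3⟩

/-- Elements acting trivially on the core modulo the centre are three-elements. -/
theorem trivial_stable [Finite G] {x : G} (hz : x * D.z = D.z * x)
    (h : ∀ q ∈ D.Q, x * q * x⁻¹ * q⁻¹ ∈ D.Zc) (h3 : ¬ 3 ∣ orderOf x) : x = 1 := by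
  have hc : x ∈ centralizer (D.Q : Set G) := by
    rw [Subgroup.mem_centralizer_iff]
    intro q hq
    set c := x * q * x⁻¹ * q⁻¹ with hcdef
    have e := pow_conj_mul (x := x) (q := q) (c := c) (by rw [hcdef]; group) (D.comm_Zc hz (h q hq)) (orderOf x)
    rw [pow_orderOf_eq_one, one_mul, inv_one, mul_one] at e
    have hc1 : c = 1 := eq_one_of_orders h3 (D.Zc_cube (h q hq)) (right_eq_mul.1 e)
    rw [hcdef, mul_inv_eq_one, mul_inv_eq_iff_eq_mul] at hc1
    exact hc1.symm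
  have hQ : IsPGroup 3 D.Q := IsPGroup.of_card (n := 5) (by rw [D.Q_card]; norm_num)
  obtain ⟨n, hn⟩ := hQ ⟨x, D.Q_self hc⟩
  have hd : orderOf x ∣ 3 ^ n := orderOf_dvd_of_pow_eq_one (congrArg Subtype.val hn)
  obtain ⟨j, -, hj⟩ := (Nat.dvd_prime_pow Nat.prime_three).1 hd
  rcases j with _ | j
  · exact orderOf_eq_one_iff.1 (by simpa using hj)
  · exact absurd (hj ▸ dvd_pow_self 3 j.succ_ne_zero) h3

end Setting

end CfsgLib.McLThree
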