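import Mathlib.GroupTheory.SpecificGroups.Alternating
import Mathlib.GroupTheory.Perm.Fin

/-!
Facts about the alternating group of degree six, around a Sylow three-subgroup and an involution inverting it.
-/

set_option autoImplicit false
set_option maxRecDepth 100000
set_option maxHeartbeats 4000000
set_option synthInstance.maxSize 8000
set_option synthInstance.maxHeartbeats 200000

namespace CfsgLib.McLThree

open Equiv Equiv.Perm

/-- The alternating group of degree six. -/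
abbrev A6 : Type := alternatingGroup (Fin 6)

/-- `(0 1 2)` -/
def a6 : A6 := ⟨swap 0 1 * swap 1 2, Perm.mem_alternatingGroup.2 (by decide)⟩
/-- `(3 4 5)` -/
def b6 : A6 := ⟨swap 3 4 * swap 4 5, Perm.mem_alternatingGroup.2 (by decide)⟩
/-- `(0 1)(3 4)` -/
def t6 : A6 := ⟨swap 0 1 * swap 3 4, Perm.mem_alternatingGroup.2 (by decide)⟩
/-- `(0 3 1 4)(2 5)` -/
def p6 : A6 := ⟨swap 0 3 * swap 3 1 * swap 1 4 * swap 2 5, Perm.mem_alternatingGroup.2 (by decide)⟩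
/-- `(0 1)(2 5)` -/
def g6 : A6 := ⟨swap 0 1 * swap 2 5, Perm.mem_alternatingGroup.2 (by decide)⟩

/-- A member of the Sylow three-subgroup. -/
def nine (i j : Fin 3) : A6 := a6 ^ i.val * b6 ^ j.val

/-- Membership in the Sylow three-subgroup. -/
def InNine (x : A6) : Prop := ∃ i j : Fin 3, x = nine i j

instance : DecidablePred InNine := fun x => inferInstanceAs (Decidable (∃ i j : Fin 3, x = nine i j))

/-- Normalising the Sylow three-subgroup. -/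
def Norm9 (x : A6) : Prop := InNine (x * a6 * x⁻¹) ∧ InNine (x * b6 * x⁻¹)

instance : DecidablePred Norm9 := fun x => inferInstanceAs (Decidable (_ ∧ _))

theorem six_basic : p6 * p6 = t6 ∧ p6 * a6 * p6⁻¹ = b6 ∧ p6 * b6 * p6⁻¹ = a6⁻¹ ∧ g6 * g6 = 1 ∧
    g6 * p6 * g6 = p6⁻¹ ∧ g6 * t6 = t6 * g6 ∧ t6 * a6 * t6⁻¹ = a6⁻¹ ∧ t6 * b6 * t6⁻¹ = b6⁻¹ ∧
    a6 ^ 3 = 1 ∧ b6 ^ 3 = 1 ∧ a6 * b6 = b6 * a6 ∧ ¬ Norm9 g6 := by decide +kernel

theorem six_inj : ∀ x y : Fin 3 × Fin 3, nine x.1 x.2 = nine y.1 y.2 → x = y := by decide +kernel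

theorem six_norm : ∀ x : A6, Norm9 x → ∃ i j : Fin 3, ∃ n : Fin 4, x = nine i j * p6 ^ n.val := by decide +kernel

theorem six_invert : ∀ x : A6, x * x = 1 → x * a6 * x⁻¹ = a6⁻¹ → x * b6 * x⁻¹ = b6⁻¹ →
    ∃ i j : Fin 3, nine i j * x * (nine i j)⁻¹ = t6 := by decide +kernel

theorem six_fixed : ∀ x : A6, InNine (x⁻¹ * (t6 * (x * a6 * x⁻¹) * t6⁻¹) * x) →
    InNine (x⁻¹ * (t6 * (x * b6 * x⁻¹) * t6⁻¹) * x) → Norm9 x ∨ Norm9 (g6 * x) := by decide +kernel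

theorem six_cent : ∀ x : A6, x * t6 = t6 * x → ∃ n : Fin 4, x = p6 ^ n.val ∨ x = g6 * p6 ^ n.val := by
  decide +kernel

theorem six_klein : ∀ x : A6, x ^ 3 = 1 → x * (t6 * x * t6⁻¹) = t6 * x * t6⁻¹ * x →
    x * (g6 * x * g6⁻¹) = g6 * x * g6⁻¹ * x → x = 1 := by decide +kernel

end CfsgLib.McLThree
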